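import Cfsg.Agent.Lib.S9Three.Count

/-!
S3343: the small case: the elementary abelian subgroup is normal.
-/

set_option autoImplicit false
set_option maxRecDepth 40000
set_option linter.style.haveILetI false

namespace Cfsg.Agent.S9Three

open Cfsg.Agent.ThreeTI.Cube (V)

universe u

variable {G : Type u} [Group G]

namespace Loc

variable {θ : V →* G} (C : Loc θ)
include C

theorem card_range_pi [Finite G] {k : Fin 4} (hk : ∀ w, Lift θ w ↔ inQ k w = true) :
    Nat.card C.pi.range = ![6, 12, 24, 48] k := by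
  classical
  rw [← q_card k, ← List.toFinset_card_of_nodup (allW_nodup.filter _),
    ← Fintype.card_coe, ← Nat.card_eq_fintype_card]
  exact Nat.card_congr (Equiv.subtypeEquivRight fun w => by
    rw [List.mem_toFinset, List.mem_filter, ← C.lift_iff, hk]
    simp [mem_allW])

section

variable [Finite G] {k : Fin 4} (hk : ∀ w, Lift θ w ↔ inQ k w = true)
  (hsmall : ∀ u, u ≠ 1 → cg θ ![u] ≤ NJ θ)
include hk hsmall

/-- Few inverted elements in a good intersection. -/
theorem good_bound {t0 : G} (ht0 : t0 * t0 = 1) (hout : t0 ∉ NJ θ)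
    (hgood : ∀ a : V, a ≠ 1 → t0 * θ a * t0 ∉ NJ θ) (S : Finset G)
    (hS : ∀ d ∈ S, d ∈ NJ θ ∧ t0 * d * t0 = d⁻¹) : S.card < rk k := by
  classical
  haveI := Fintype.ofFinite G
  have hinv : t0⁻¹ = t0 := inv_eq_of_mul_eq_one_right ht0
  have hconj : ∀ x : G, t0 * (t0 * x * t0) * t0 = x := fun x => by
    rw [show t0 * (t0 * x * t0) * t0 = (t0 * t0) * x * (t0 * t0) by group, ht0, one_mul, mul_one]
  let D : Subgroup G := NJ θ ⊓ (NJ θ).comap (MulAut.conj t0).toMonoidHom
  have hmemD : ∀ {d : G}, d ∈ D ↔ d ∈ NJ θ ∧ t0 * d * t0 ∈ NJ θ := fun {d} => by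
    rw [Subgroup.mem_inf, Subgroup.mem_comap, MulEquiv.coe_toMonoidHom, MulAut.conj_apply, hinv]
  let ρ : D →* W := C.pi.comp (Subgroup.inclusion inf_le_left)
  have hρ : ∀ d : D, Acts θ (d : G) (ρ d) := fun d => C.pi_spec ⟨d, (hmemD.1 d.2).1⟩
  have hJ1 : ∀ d : G, d ∈ D → d ∈ θ.range → d = 1 := by
    rintro _ hd ⟨a, rfl⟩
    by_contra h
    exact hgood a (fun e => h (by rw [e, map_one])) (hmemD.1 hd).2
  have hinj : Function.Injective ρ := (injective_iff_map_eq_one ρ).2 fun d hd =>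
    Subtype.ext (hJ1 d d.2 (C.mem_J_of_acts_one (hd ▸ hρ d)))
  -- no reflection
  have havoid : ∀ d : D, cls k (ρ d) = false := by
    intro d
    by_contra h
    rw [Bool.not_eq_false] at h
    have hdd : (d : G) * d = 1 := by
      have h1 : ρ (d * d) = 1 := by rw [map_mul]; exact (cls_facts k _ h).2.1
      exact congrArg Subtype.val ((map_eq_one_iff ρ hinj).1 h1)
    have hmem : t0 * (d : G) * t0⁻¹ ∈ NJ θ := by rw [hinv]; exact (hmemD.1 d.2).2
    obtain ⟨-, y, v, hy1, hy, hyc⟩ := C.extra_bad hk hsmall ⟨hdd, _, h, hρ d⟩ hout hmem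
    refine hgood v (fun e => hy1 (by rw [hy, e, map_one, mul_one, mul_inv_cancel])) ?_
    rw [← show y = t0 * θ v * t0 by rw [hy, hinv]]
    exact acts_mem hyc
  have hle : ρ.range ≤ C.pi.range := by rintro _ ⟨d, rfl⟩; exact ⟨_, rfl⟩
  have hne : ρ.range ≠ C.pi.range := by
    intro e
    obtain ⟨d, hd⟩ : tau ∈ ρ.range :=
      e ▸ (C.lift_iff tau).1 (C.perm tau (perms_fix tau (by decide)))
    have := havoid d
    rw [hd, tau_cls k] at this
    exact absurd this (by simp)
  have hcard : Nat.card D = Nat.card ρ.range := Nat.card_congr (MonoidHom.ofInjective hinj).toEquiv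
  have hdvd := Subgroup.card_dvd_of_le hle
  have hlt : Nat.card ρ.range < Nat.card C.pi.range :=
    lt_of_le_of_ne (Subgroup.card_le_of_le hle)
      fun e => hne (Subgroup.eq_of_le_of_card_ge hle e.ge)
  rw [C.card_range_pi hk, ← hcard] at hdvd hlt
  have h2 : 2 * Nat.card D ≤ ![6, 12, 24, 48] k := by
    obtain ⟨c, hc⟩ := hdvd
    rw [hc] at hlt ⊢
    rcases c with _ | _ | c
    · omega
    · omega
    · rw [mul_comm 2]
      exact Nat.mul_le_mul_left _ (by omega)
  -- the inverted elements inside `D`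
  have hSD : ∀ d ∈ S, d ∈ D := fun d hd => hmemD.2
    ⟨(hS d hd).1, by rw [(hS d hd).2]; exact inv_mem (hS d hd).1⟩
  let S' : Finset D := Finset.univ.filter fun d => (d : G) ∈ S
  have hS' : S'.card = S.card := by
    rw [← Finset.card_image_of_injective S' Subtype.coe_injective]
    congr 1
    ext d
    simp only [Finset.mem_image, S', Finset.mem_filter, Finset.mem_univ, true_and]
    exact ⟨fun ⟨e, he, h⟩ => h ▸ he, fun h => ⟨⟨d, hSD d h⟩, h, rfl⟩⟩
  have hSle : S.card ≤ Nat.card D := by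
    rw [← hS', Nat.card_eq_fintype_card]; exact Finset.card_le_univ _
  by_contra hge
  rw [not_lt] at hge
  rcases Nat.lt_or_ge k.val 3 with hk3 | hk3
  · obtain rfl | rfl | rfl : k = 0 ∨ k = 1 ∨ k = 2 := by omega
    · change 2 * Nat.card D ≤ 6 at h2
      change 9 ≤ S.card at hge
      omega
    · change 2 * Nat.card D ≤ 12 at h2
      change 9 ≤ S.card at hge
      omega
    · change 2 * Nat.card D ≤ 24 at h2
      change 18 ≤ S.card at hge
      omega
  · obtain rfl : k = 3 := by omega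
    change 2 * Nat.card D ≤ 48 at h2
    change 18 ≤ S.card at hge
    have cl : ∀ d : G, d ∈ D → t0 * d * t0 ∈ D := fun d hd =>
      hmemD.2 ⟨(hmemD.1 hd).2, by rw [hconj]; exact (hmemD.1 hd).1⟩
    let α : D ≃* D :=
      { toFun := fun d => ⟨t0 * d * t0, cl d d.2⟩
        invFun := fun d => ⟨t0 * d * t0, cl d d.2⟩
        left_inv := fun d => Subtype.ext (hconj d)
        right_inv := fun d => Subtype.ext (hconj d)
        map_mul' := fun a b => Subtype.ext (by
          show t0 * ((a : G) * b) * t0 = t0 * a * t0 * (t0 * b * t0)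
          rw [show t0 * (a : G) * t0 * (t0 * b * t0) = t0 * a * (t0 * t0) * b * t0 by group, ht0]
          group) }
    have hα : ∀ d ∈ S', α d = d⁻¹ := fun d hd =>
      Subtype.ext ((hS _ (Finset.mem_filter.1 hd).2).2)
    have hsub : ∀ d ∈ S', ρ d ∈ bigCent := by
      intro d hd
      refine Finset.mem_filter.2 ⟨Finset.mem_univ _, ?_⟩
      have h := two_mul_le_cent α hα hd
      have h24 : Fintype.card D ≤ 24 := by rw [← Nat.card_eq_fintype_card]; omega
      refine le_trans (by omega : 12 ≤ (Finset.univ.filter fun a : D => a * d = d * a).card) ?_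
      refine Finset.card_le_card_of_injOn ρ (fun a ha => ?_) hinj.injOn
      simp only [Finset.coe_filter, Finset.mem_univ, true_and, Set.mem_setOf_eq] at ha ⊢
      rw [← map_mul, ha, map_mul]
    have h8 := le_trans (Finset.card_le_card_of_injOn ρ hsub hinj.injOn) bigCent_card
    omega

/-- The reflections are at least as many as predicted. -/
theorem refl_count [Fintype G] [DecidablePred (IsRefl θ k)] :
    rk k ≤ (Finset.univ.filter (IsRefl θ k)).card := by
  classical
  obtain ⟨t, ht, ht1⟩ := C.exists_refl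
  have hex : ∀ w, ∃ s : G, cls k w = true → Acts θ s w ∧ s * s = 1 := by
    intro w
    by_cases h : cls k w = true
    · obtain ⟨a, ha, rfl⟩ := (cls_iff k w).1 h
      obtain ⟨n, hn⟩ := (hk a).2 ha
      refine ⟨n * t * n⁻¹, fun _ => ⟨?_, by rw [conj_mul, ht1, mul_one, mul_inv_cancel]⟩⟩
      refine acts_mul (acts_mul hn ht) fun v => ?_
      have h := hn (act a⁻¹ v)
      rw [act_act_inv] at h
      rw [← h]; group
    · exact ⟨1, fun e => absurd e h⟩
  choose s hs using hex
  rw [← pairs_card k]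
  refine Finset.card_le_card_of_injOn (fun p => θ p.2 * s p.1) (fun p hp => ?_) (fun p hp q hq e => ?_)
  · simp only [Finset.coe_filter, Finset.mem_univ, true_and, Set.mem_setOf_eq] at hp ⊢
    obtain ⟨h1, h2⟩ := hs p.1 hp.1
    refine ⟨?_, p.1, hp.1, ?_⟩
    · calc θ p.2 * s p.1 * (θ p.2 * s p.1) = θ p.2 * (s p.1 * θ p.2 * (s p.1)⁻¹) * (s p.1 * s p.1) := by
            group
        _ = 1 := by rw [h1 p.2, hp.2, h2, mul_one, ← map_mul, mul_inv_cancel, map_one]
    · have h := acts_mul (acts_J (θ := θ) p.2) h1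
      rwa [one_mul] at h
  · simp only [Finset.coe_filter, Finset.mem_univ, true_and, Set.mem_setOf_eq] at hp hq
    dsimp only at e
    have hw : p.1 = q.1 := by
      have h1 := acts_mul (acts_J (θ := θ) p.2) (hs p.1 hp.1).1
      have h2 := acts_mul (acts_J (θ := θ) q.2) (hs q.1 hq.1).1
      rw [one_mul] at h1 h2
      exact C.acts_unique h1 (e ▸ h2)
    rw [← hw, mul_left_inj] at e
    exact Prod.ext hw (C.inj e)

/-- The small case. -/
theorem small_normal : θ.range.Normal := by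
  classical
  haveI := Fintype.ofFinite G
  haveI : Fact (Nat.Prime 3) := ⟨Nat.prime_three⟩
  set R := Finset.univ.filter (IsRefl θ k) with hR
  have hr := C.refl_count hk hsmall
  rw [← hR] at hr
  let ω0 : G ⧸ NJ θ := QuotientGroup.mk 1
  let sp : (G ⧸ NJ θ) × G → G := fun p => p.1.out * p.2 * p.1.out⁻¹
  have hout : ∀ ω : G ⧸ NJ θ, (QuotientGroup.mk ω.out : G ⧸ NJ θ) = ω := fun ω =>
    QuotientGroup.out_eq' ω
  have hω0 : ∀ {g : G}, (QuotientGroup.mk g : G ⧸ NJ θ) = ω0 ↔ g ∈ NJ θ := fun {g} => by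
    rw [QuotientGroup.eq, mul_one, inv_mem_iff]
  set P := (Finset.univ : Finset (G ⧸ NJ θ)) ×ˢ R with hP
  have hPm : ∀ p ∈ P, IsRefl θ k p.2 := fun p hp => (Finset.mem_filter.1 (Finset.mem_product.1 hp).2).2
  have sinj : ∀ p ∈ P, ∀ q ∈ P, sp p = sp q → p = q := by
    intro p hp q hq e
    obtain ⟨t, ht, ht1⟩ := C.exists_refl
    obtain ⟨m, hm, hmp⟩ := C.refl_conj hk hsmall ht ht1 (hPm p hp)
    obtain ⟨m', hm', hmq⟩ := C.refl_conj hk hsmall ht ht1 (hPm q hq)
    simp only [sp] at e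
    rw [hmp, hmq] at e
    have h : m'⁻¹ * q.1.out⁻¹ * p.1.out * m * t = t * (m'⁻¹ * q.1.out⁻¹ * p.1.out * m) := by
      calc m'⁻¹ * q.1.out⁻¹ * p.1.out * m * t
          = m'⁻¹ * q.1.out⁻¹ * (p.1.out * (m * t * m⁻¹) * p.1.out⁻¹) * (p.1.out * m) := by group
        _ = m'⁻¹ * q.1.out⁻¹ * (q.1.out * (m' * t * m'⁻¹) * q.1.out⁻¹) * (p.1.out * m) := by rw [e]
        _ = _ := by group
    have h1 := mul_mem (mul_mem hm' (C.cg_refl hk hsmall ht ht1 h)) (inv_mem hm)
    rw [show m' * (m'⁻¹ * q.1.out⁻¹ * p.1.out * m) * m⁻¹ = q.1.out⁻¹ * p.1.out by group] at h1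
    have hfst : q.1 = p.1 := by rw [← hout q.1, ← hout p.1]; exact QuotientGroup.eq.2 h1
    refine Prod.ext hfst.symm ?_
    rw [← hmp, ← hmq, hfst] at e
    exact mul_left_cancel (mul_right_cancel e)
  let φ : (G ⧸ NJ θ) × G → G ⧸ NJ θ := fun p => QuotientGroup.mk (sp p)
  have hsq : ∀ p ∈ P, sp p * sp p = 1 := fun p hp => by
    show _ * _ = _
    rw [conj_mul, (hPm p hp).1, mul_one, mul_inv_cancel]
  -- the pairs inside the normaliser
  set E := P.filter fun p => φ p = ω0 ∧ p.1 ≠ ω0 with hE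
  have hEneg : ∀ p ∈ E, Acts θ (sp p) neg := by
    intro p hp
    obtain ⟨hpP, hp0, hp1⟩ := Finset.mem_filter.1 hp
    exact C.extra_neg hk hsmall (hPm p hpP) (fun h => hp1 (by rw [← hout p.1]; exact hω0.2 h))
      (hω0.1 hp0)
  have hE27 : E.card ≤ 27 := by
    rcases E.eq_empty_or_nonempty with h | ⟨p0, hp0⟩
    · rw [h]; simp
    have hex : ∀ p ∈ E, ∃ c, sp p = θ c * sp p0 := fun p hp => by
      obtain ⟨a, -, ha, -⟩ := C.involution_conj (hEneg p hp) (hEneg p0 hp0)
        (hsq p (Finset.mem_filter.1 hp).1) (hsq p0 (Finset.mem_filter.1 hp0).1)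
      exact ⟨a, ha⟩
    choose! c hc using hex
    refine le_trans (Finset.card_le_card_of_injOn c (t := (Finset.univ : Finset V))
      (fun p _ => Finset.mem_coe.2 (Finset.mem_univ _)) fun p hp q hq e => ?_) (by decide)
    exact sinj p (Finset.mem_filter.1 hp).1 q (Finset.mem_filter.1 hq).1
      (by rw [hc p hp, hc q hq, e])
  have hfib0 : (P.filter fun p => φ p = ω0).card ≤ R.card + E.card := by
    have hsub : (P.filter fun p => φ p = ω0) ⊆ ({ω0} ×ˢ R) ∪ E := by
      intro p hp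
      obtain ⟨hpP, hp0⟩ := Finset.mem_filter.1 hp
      by_cases h : p.1 = ω0
      · exact Finset.mem_union_left _ (Finset.mem_product.2 ⟨by rw [h]; simp,
          (Finset.mem_product.1 hpP).2⟩)
      · exact Finset.mem_union_right _ (Finset.mem_filter.2 ⟨hpP, hp0, h⟩)
    refine le_trans (Finset.card_le_card hsub) (le_trans (Finset.card_union_le _ _) ?_)
    rw [Finset.card_product, Finset.card_singleton, one_mul]
  -- the other fibres
  let β : G ⧸ NJ θ → ℕ := fun ω => if Bad θ ω then 6 else rk k - 1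
  have hfib : ∀ ω, ω ≠ ω0 → (P.filter fun p => φ p = ω).card ≤ β ω := by
    intro ω hω
    rcases (P.filter fun p => φ p = ω).eq_empty_or_nonempty with h | ⟨p0, hp0⟩
    · rw [h]; simp
    obtain ⟨hp0P, hp0ω⟩ := Finset.mem_filter.1 hp0
    set t0 := sp p0 with ht0def
    have ht0 : t0 * t0 = 1 := hsq p0 hp0P
    have hinv : t0⁻¹ = t0 := inv_eq_of_mul_eq_one_right ht0
    have htout : t0 ∉ NJ θ := fun h => hω (hp0ω ▸ hω0.2 h)
    have hS : ∀ d ∈ (P.filter fun p => φ p = ω).image fun p => t0 * sp p,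
        d ∈ NJ θ ∧ t0 * d * t0 = d⁻¹ := by
      intro d hd
      obtain ⟨p, hp, rfl⟩ := Finset.mem_image.1 hd
      obtain ⟨hpP, hpω⟩ := Finset.mem_filter.1 hp
      refine ⟨?_, ?_⟩
      · have h := QuotientGroup.eq.1 (hp0ω.trans hpω.symm)
        rwa [hinv] at h
      · rw [mul_inv_rev, hinv, inv_eq_of_mul_eq_one_right (hsq p hpP),
          show t0 * (t0 * sp p) * t0 = t0 * t0 * (sp p * t0) by group, ht0, one_mul]
    rw [← Finset.card_image_of_injOn (f := fun p => t0 * sp p) fun p hp q hq e =>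
      sinj p (Finset.mem_filter.1 hp).1 q (Finset.mem_filter.1 hq).1 (mul_left_cancel e)]
    have hbad : ∀ a, θ a • ω = ω ↔ t0 * θ a * t0 ∈ NJ θ := fun a => by
      rw [← hp0ω, show φ p0 = QuotientGroup.mk t0 from rfl, fixes_iff, hinv]
    simp only [β]
    split_ifs with hb
    · obtain ⟨a, ha, haω⟩ := hb
      exact C.bad_bound hk hsmall ht0 htout ha ((hbad a).1 haω) _ hS
    · exact Nat.le_sub_one_of_lt (C.good_bound hk hsmall ht0 htout
        (fun a ha h => hb ⟨a, ha, (hbad a).2 h⟩) _ hS)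
  have hsum : Fintype.card (G ⧸ NJ θ) * R.card ≤
      R.card + E.card + ∑ ω ∈ (Finset.univ.erase ω0), β ω := by
    have h1 : P.card = ∑ ω, (P.filter fun p => φ p = ω).card :=
      Finset.card_eq_sum_card_fiberwise fun p _ => Finset.mem_coe.2 (Finset.mem_univ _)
    rw [hP, Finset.card_product, Finset.card_univ, ← Finset.sum_erase_add _ _ (Finset.mem_univ ω0),
      ← hP] at h1
    rw [h1, add_comm]
    exact add_le_add hfib0 (Finset.sum_le_sum fun ω hω => hfib ω (Finset.ne_of_mem_erase hω))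
  set O' := (Finset.univ : Finset (G ⧸ NJ θ)).erase ω0 with hO'
  have hI : Fintype.card (G ⧸ NJ θ) = O'.card + 1 := by
    rw [hO', Finset.card_erase_of_mem (Finset.mem_univ _), Finset.card_univ,
      Nat.sub_add_cancel Fintype.card_pos]
  set b := (O'.filter (Bad θ)).card with hb
  set g := (O'.filter fun ω => ¬ Bad θ ω).card with hg
  have hbg : b + g = O'.card := Finset.card_filter_add_card_filter_not _
  have hβ : ∑ ω ∈ O', β ω = 6 * b + (rk k - 1) * g := by
    simp only [β]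
    rw [Finset.sum_ite, Finset.sum_const, Finset.sum_const, smul_eq_mul, smul_eq_mul, mul_comm b,
      mul_comm g]
  rw [hI, hβ, ← hbg, add_mul, one_mul, add_mul] at hsum
  have hr9 : 9 ≤ rk k := by simp only [rk]; split_ifs <;> omega
  -- the bound on good cosets is one less
  have hgood : (rk k - 1) * g + g ≤ R.card * g := by
    rw [← Nat.succ_mul]
    exact Nat.mul_le_mul_right g (by omega)
  have hb9 : 9 * b ≤ R.card * b := Nat.mul_le_mul_right b (by omega)
  rcases E.eq_empty_or_nonempty with hE0 | ⟨p1, hp1⟩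
  · rw [hE0, Finset.card_empty] at hsum
    rw [mul_comm b R.card, mul_comm g R.card] at hsum
    have h0 : O'.card = 0 := by omega
    refine Subgroup.normalizer_eq_top_iff.1 (top_unique fun y _ => ?_)
    refine hω0.1 (Classical.byContradiction fun hne => ?_)
    have hmem : (QuotientGroup.mk y : G ⧸ NJ θ) ∈ O' :=
      Finset.mem_erase.2 ⟨hne, Finset.mem_univ _⟩
    rw [Finset.card_eq_zero.1 h0] at hmem
    simp at hmem
  exfalso
  obtain ⟨hp1P, hp10, hp1ne⟩ := Finset.mem_filter.1 hp1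
  have hg1 : p1.1.out ∉ NJ θ := fun h => hp1ne (by rw [← hout p1.1]; exact hω0.2 h)
  obtain ⟨hfix, y, v, hy1, hy, hyc⟩ :=
    C.extra_bad hk hsmall (hPm p1 hp1P) hg1 (hω0.1 hp10)
  rw [hout] at hfix
  have hk13 : k = 1 ∨ k = 3 := by
    obtain ⟨-, -, -, -, -, -, h, -⟩ := neg_facts
    exact h k ((hk neg).1 ⟨_, hEneg p1 hp1⟩)
  have hy3 : cyc * cyc * cyc = 1 ∧ cyc ≠ 1 := ⟨neg_facts.2.1, neg_facts.2.2.1⟩
  -- the stabiliser in `J` of the bad coset
  have hstab : ∀ c : V, θ c • p1.1 = p1.1 → act cyc c = c := by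
    intro c hc
    rw [← hout p1.1, fixes_iff] at hc
    set h := p1.1.out⁻¹ * θ c * p1.1.out with hh
    obtain ⟨w, hw⟩ := C.monomial h hc
    have e : y * θ c * y⁻¹ * (θ c)⁻¹ = p1.1.out * θ (v * act w v⁻¹) * p1.1.out⁻¹ := by
      rw [map_mul, ← hw, map_inv, hy, hh]; group
    have e2 : y * θ c * y⁻¹ * (θ c)⁻¹ = θ (act cyc c * c⁻¹) := by rw [map_mul, map_inv, hyc]
    by_contra hne
    exact hg1 (C.ti hsmall (u := act cyc c * c⁻¹) (fun h => hne (mul_inv_eq_one.1 h))
      (e.symm.trans e2))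
  let orbit : Finset (G ⧸ NJ θ) := Finset.univ.image fun c : V => θ c • p1.1
  have horb : orbit ⊆ O'.filter (Bad θ) := by
    intro ω hω
    obtain ⟨c, -, rfl⟩ := Finset.mem_image.1 hω
    refine Finset.mem_filter.2 ⟨Finset.mem_erase.2 ⟨fun e => hp1ne ?_, Finset.mem_univ _⟩,
      vx, neg_facts.2.2.2.2.1, ?_⟩
    · rw [← inv_smul_smul (θ c) p1.1, e]
      exact hω0.2 (by
        show (θ c)⁻¹ * 1 ∈ NJ θ
        rw [mul_one]; exact inv_mem (J_le_NJ ⟨c, rfl⟩))
    · rw [← mul_smul, commute_J, mul_smul, hfix]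
  have hO9 : 9 ≤ orbit.card := by
    have h := Finset.card_le_mul_card_image (f := fun c : V => θ c • p1.1) Finset.univ 3
      fun ω hω => ?_
    · rw [Finset.card_univ, show Fintype.card V = 27 by decide] at h
      change 27 ≤ 3 * orbit.card at h
      omega
    obtain ⟨c0, -, rfl⟩ := Finset.mem_image.1 hω
    refine le_trans (Finset.card_le_card_of_injOn (fun c => c0⁻¹ * c)
      (t := Finset.univ.filter fun x : V => act cyc x = x) (fun c hc => ?_)
      fun a _ b _ e => mul_left_cancel e) (fixed_three cyc hy3.1 hy3.2).le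
    simp only [Finset.coe_filter, Finset.mem_univ, true_and, Set.mem_setOf_eq] at hc ⊢
    refine hstab _ ?_
    rw [map_mul, mul_smul, hc, map_inv, inv_smul_smul]
  have hb9' : 9 ≤ b := le_trans hO9 (Finset.card_le_card horb)
  rcases hk13 with rfl | rfl
  swap
  · simp only [rk] at hr hgood
    have : 18 * b ≤ R.card * b := Nat.mul_le_mul_right b hr
    rw [mul_comm b R.card, mul_comm g R.card] at hsum
    simp [rk] at hsum hgood
    omega
  simp [rk] at hsum hgood
  rw [mul_comm b R.card, mul_comm g R.card] at hsum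
  have hgb : g = 0 ∧ b = 9 := by omega
  have horbit : orbit = O'.filter (Bad θ) :=
    Finset.eq_of_subset_of_card_le horb (by omega)
  have hall : ∀ ω : G ⧸ NJ θ, θ vx • ω = ω := by
    intro ω
    by_cases h : ω = ω0
    · subst h
      exact fixes_iff.2 (by rw [inv_one, one_mul, mul_one]; exact J_le_NJ ⟨vx, rfl⟩)
    have hb' : ω ∈ O'.filter (Bad θ) := by
      refine Finset.mem_filter.2 ⟨Finset.mem_erase.2 ⟨h, Finset.mem_univ _⟩, ?_⟩
      by_contra hb'
      have : ω ∈ O'.filter fun ω => ¬ Bad θ ω :=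
        Finset.mem_filter.2 ⟨Finset.mem_erase.2 ⟨h, Finset.mem_univ _⟩, hb'⟩
      rw [Finset.card_eq_zero.1 hgb.1] at this
      simp at this
    rw [← horbit] at hb'
    obtain ⟨c, -, rfl⟩ := Finset.mem_image.1 hb'
    rw [← mul_smul, commute_J, mul_smul, hfix]
  have hv1 : v ≠ 1 := fun h => hy1 (by rw [hy, h, map_one, mul_one, mul_inv_cancel])
  -- the other element is conjugate to the central one
  obtain ⟨e, he⟩ : ∃ e : Fin 3, v = vx ^ e.val := by
    have hmem := fixes_iff.1 ((hout p1.1).symm ▸ hfix :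
      θ vx • (QuotientGroup.mk p1.1.out : G ⧸ NJ θ) = QuotientGroup.mk p1.1.out)
    obtain ⟨w, hw⟩ := C.monomial _ hmem
    have hw3 : w * w * w = 1 := C.cube_of_pGroup hw (k := 1) (by
      rw [show p1.1.out⁻¹ * θ vx * p1.1.out = p1.1.out⁻¹ * θ vx * p1.1.out⁻¹⁻¹ by group, conj_pow,
        pow_one, ← map_pow, cube_eq_one, map_one, mul_one, mul_inv_cancel])
    have hw1 : w ≠ 1 := fun h => by
      obtain ⟨u, hu⟩ := C.mem_J_of_acts_one (h ▸ hw)
      exact hg1 (C.ti hsmall neg_facts.2.2.2.2.1 (g := p1.1.out) (v := u) (by rw [hu]; group))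
    have hwv : act w v = v := (C.acts_commute hw v).1 (by
      have hc := (C.acts_commute hyc vx).2 neg_facts.2.2.2.1
      rw [hy] at hc
      calc p1.1.out⁻¹ * θ vx * p1.1.out * θ v
          = p1.1.out⁻¹ * (θ vx * (p1.1.out * θ v * p1.1.out⁻¹)) * p1.1.out := by group
        _ = p1.1.out⁻¹ * (p1.1.out * θ v * p1.1.out⁻¹ * θ vx) * p1.1.out := by rw [hc]
        _ = _ := by group)
    rcases one_three w ((hk w).1 ⟨_, hw⟩) hw3 hw1 v hwv with h | h | h
    · exact absurd h hv1
    · exact ⟨1, by rw [h]; simp⟩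
    · exact ⟨2, by rw [h, eq_comm, eq_inv_iff_mul_eq_one, ← pow_succ]; exact cube_eq_one vx⟩
  have hyall : ∀ ω : G ⧸ NJ θ, y • ω = ω := by
    intro ω
    have hpow : ∀ (n : ℕ) (ω : G ⧸ NJ θ), θ vx ^ n • ω = ω := by
      intro n
      induction n with
      | zero => intro ω; rw [pow_zero, one_smul]
      | succ n ih => intro ω; rw [pow_succ, mul_smul, hall, ih]
    rw [hy, he, map_pow, mul_smul, mul_smul, hpow, smul_inv_smul]
  have hz : θ (act cyc v1 * v1⁻¹) • p1.1 = p1.1 := by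
    rw [map_mul, ← hyc, map_inv, mul_smul, mul_smul, mul_smul,
      inv_smul_eq_iff.2 (hyall ((θ v1)⁻¹ • p1.1)).symm, hyall, smul_inv_smul]
  obtain ⟨i, hi⟩ := neg_facts.2.2.2.2.2.2.2 _ (hstab _ hz)
  exact comm_cyc_v1 i hi

end

end Loc

end Cfsg.Agent.S9Three
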