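import Cfsg.Agent.Lib.S9Three.Facts

/-!
S3343: finite facts on pairs of translations.
-/

set_option autoImplicit false
set_option maxRecDepth 100000
set_option synthInstance.maxSize 4000

namespace Cfsg.Agent.S9Three

open Cfsg.Agent.ThreeTI.Mono
open Cfsg.Agent.ThreeTI.Cube (V)

theorem refl_common : ∀ a : W, nfix a = 9 → ∀ b : W, nfix b = 9 → a ≠ b →
    (Finset.univ.filter fun v : V => act a v = v ∧ act b v = v).card ≤ 3 := by decide +kernel

/-- The subgroup spanned by two translations, as a finite set. -/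
def span2 (u v : V) : Finset V :=
  (Finset.univ : Finset (Fin 3 × Fin 3)).image fun p => u ^ p.1.val * v ^ p.2.val

theorem span2_card : ∀ u : V, u ≠ 1 → ∀ v : V, v ≠ 1 → v ≠ u → v ≠ u⁻¹ → (span2 u v).card = 9 := by
  decide +kernel

theorem nm_self : ∀ k : Fin 4, ∀ u : V, u ≠ 1 → central k u = false → nm (stab k u) u ≠ 1 := by
  decide +kernel

theorem nm_id : ∀ k : Fin 4, ∀ u : V, u ≠ 1 → central k u = false → 1 ∈ stab k u := by
  decide +kernel

theorem allW_nodup : allW.Nodup := by decide +kernel

theorem stab_nodup (k : Fin 4) (u : V) : (stab k u).Nodup := allW_nodup.filter _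

end Cfsg.Agent.S9Three
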