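import Cfsg.Agent.Lib.S9Three.Gen
import Cfsg.Agent.Lib.Solvable.Coprime
import Cfsg.Agent.Lib.Transfer.Abelian
import Cfsg.Agent.Lib.ThreeTI.Grid.Build
import Cfsg.Agent.Lib.SmithTyrer.Main
import Cfsg.Agent.Lib.A9Three.CentB
import Mathlib.GroupTheory.SpecificGroups.KleinFour

/-!
S3343: groups with a self-centralising Sylow subgroup of order nine containing the centralisers of
its elements in its normaliser.
-/

set_option autoImplicit false
set_option maxRecDepth 20000
set_option linter.style.haveILetI false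

namespace Cfsg.Agent.S9Three

open Cfsg

universe u

/-- The configuration. -/
structure Nine {Y : Type u} [Group Y] (P : Sylow 3 Y) : Prop where
  card : Nat.card (P : Subgroup Y) = 9
  exp : ∀ e ∈ (P : Subgroup Y), e ^ 3 = 1
  comm : IsMulCommutative (P : Subgroup Y)
  selfc : Subgroup.centralizer ((P : Subgroup Y) : Set Y) ≤ (P : Subgroup Y)
  loc : ∀ e ∈ (P : Subgroup Y), e ≠ 1 → ∀ g, g * e = e * g →
    g ∈ Subgroup.normalizer ((P : Subgroup Y) : Set Y)

namespace Nine

variable {Y : Type u} [Group Y] [Finite Y] {P : Sylow 3 Y} (H : Nine P)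
include H

theorem centralizer_eq : Subgroup.centralizer ((P : Subgroup Y) : Set Y) = (P : Subgroup Y) := by
  haveI := H.comm
  exact le_antisymm H.selfc (Subgroup.le_centralizer _)

theorem not_cyclic : ¬ IsCyclic (P : Subgroup Y) := fun hc => by
  have h1 := IsCyclic.exponent_eq_card (α := (P : Subgroup Y))
  have h2 : Monoid.exponent (P : Subgroup Y) ∣ 3 :=
    Monoid.exponent_dvd_of_forall_pow_eq_one fun x => Subtype.ext (H.exp x x.2)
  rw [h1, H.card] at h2
  norm_num at h2

omit H in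
/-- The 3-elements of the normaliser lie in the Sylow subgroup. -/
theorem mem_of_norm {g : Y} (hg : g ∈ Subgroup.normalizer ((P : Subgroup Y) : Set Y)) {k : ℕ}
    (hk : g ^ 3 ^ k = 1) : g ∈ (P : Subgroup Y) := by
  haveI : Fact (Nat.Prime 3) := ⟨Nat.prime_three⟩
  obtain ⟨j, -, hj⟩ := (Nat.dvd_prime_pow Nat.prime_three).1 (orderOf_dvd_of_pow_eq_one hk)
  have hp : IsPGroup 3 ((Subgroup.zpowers g ⊔ P : Subgroup Y)) :=
    (IsPGroup.of_card (n := j) (by rw [Nat.card_zpowers, hj])).to_sup_of_normal_right' P.isPGroup'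
      (Subgroup.zpowers_le.2 hg)
  exact P.is_maximal' hp le_sup_right ▸ (le_sup_left : Subgroup.zpowers g ≤ _) (Subgroup.mem_zpowers g)

/-- No invariant subgroup of order prime to three. -/
theorem sig (R : Subgroup Y) (hcop : (Nat.card R).Coprime 3)
    (hR : ∀ e ∈ (P : Subgroup Y), ∀ r ∈ R, e * r * e⁻¹ ∈ R) : R = ⊥ := by
  haveI : Fact (Nat.Prime 3) := ⟨Nat.prime_three⟩
  haveI := H.comm
  have hnorm : (P : Subgroup Y) ≤ Subgroup.normalizer (R : Set Y) := fun e he =>
    Subgroup.mem_normalizer_iff.2 fun r => ⟨hR e he r, fun hr => by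
      have := hR e⁻¹ (inv_mem he) _ hr
      rwa [inv_inv, show e⁻¹ * (e * r * e⁻¹) * e = r by group] at this⟩
  have hco : (Nat.card (P : Subgroup Y)).Coprime (Nat.card R) := by
    rw [H.card, show (9 : ℕ) = 3 ^ 2 by norm_num]
    exact (Nat.Coprime.pow_left 2 hcop.symm)
  have hgen := CoprimeAct.generated_by_centralizers (A := (P : Subgroup Y)) (K := R) H.not_cyclic
    hnorm hco
  -- everything lies in the normaliser
  have hRN : R ≤ Subgroup.normalizer ((P : Subgroup Y) : Set Y) := by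
    rw [← hgen]
    refine iSup₂_le fun e he r hr => ?_
    exact H.loc e he.1 he.2 r (Subgroup.mem_centralizer_singleton_iff.1 hr.2)
  rw [eq_bot_iff]
  intro r hr
  have hc : r ∈ Subgroup.centralizer ((P : Subgroup Y) : Set Y) := by
    refine Subgroup.mem_centralizer_iff.2 fun e he => ?_
    have h1 : e * r * e⁻¹ * r⁻¹ ∈ R := mul_mem (hR e he r hr) (inv_mem hr)
    have h2 : e * r * e⁻¹ * r⁻¹ ∈ (P : Subgroup Y) := by
      rw [show e * r * e⁻¹ * r⁻¹ = e * (r * e⁻¹ * r⁻¹) by group]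
      exact mul_mem he ((Subgroup.mem_normalizer_iff.1 (hRN hr) e⁻¹).1 (inv_mem he))
    have h3 : e * r * e⁻¹ * r⁻¹ = 1 := orderOf_eq_one_iff.1 (Nat.eq_one_of_dvd_coprimes hco
      (Subgroup.orderOf_dvd_natCard _ h2) (Subgroup.orderOf_dvd_natCard _ h1))
    calc e * r = e * r * e⁻¹ * r⁻¹ * (r * e) := by group
      _ = r * e := by rw [h3, one_mul]
  rw [Subgroup.mem_bot, ← orderOf_eq_one_iff]
  exact Nat.eq_one_of_dvd_coprimes hco (Subgroup.orderOf_dvd_natCard _ (H.selfc hc))
    (Subgroup.orderOf_dvd_natCard _ hr)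

theorem core_bot : Cfsg.pPrimeCore 3 Y = ⊥ := by
  haveI : Fact (Nat.Prime 3) := ⟨Nat.prime_three⟩
  haveI := PBasic.pPrimeCore_characteristic 3 Y
  exact H.sig _ (PBasic.pPrimeCore_coprime 3 Y) fun e _ r hr =>
    Subgroup.Normal.conj_mem inferInstance r hr e

/-- The normaliser centralises the Sylow subgroup. -/
theorem trivial_case (h : Subgroup.normalizer ((P : Subgroup Y) : Set Y) ≤ (P : Subgroup Y)) :
    (P : Subgroup Y).Normal := by
  haveI : Fact (Nat.Prime 3) := ⟨Nat.prime_three⟩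
  haveI := H.comm
  have hc := MonoidHom.ker_transferSylow_isComplement' P
    (h.trans (Subgroup.le_centralizer _))
  set R := (MonoidHom.transferSylow P (h.trans (Subgroup.le_centralizer _))).ker
  have hR : R = ⊥ := by
    refine H.sig R ?_ fun e _ r hr => Subgroup.Normal.conj_mem inferInstance r hr e
    rw [← hc.index_eq_card, Nat.coprime_comm, Nat.prime_three.coprime_iff_not_dvd]
    exact P.not_dvd_index
  rw [hR] at hc
  rw [Subgroup.isComplement'_bot_left.1 hc]
  infer_instance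

/-- The normaliser inverts. -/
theorem inverted_case {n : Y} (hn : n ∈ Subgroup.normalizer ((P : Subgroup Y) : Set Y))
    (hinv : ∀ e ∈ (P : Subgroup Y), n * e * n⁻¹ = e⁻¹)
    (hall : ∀ g ∈ Subgroup.normalizer ((P : Subgroup Y) : Set Y),
      (∀ e ∈ (P : Subgroup Y), g * e * g⁻¹ = e) ∨ ∀ e ∈ (P : Subgroup Y), g * e * g⁻¹ = e⁻¹) :
    (P : Subgroup Y).Normal := by
  classical
  haveI : Fact (Nat.Prime 3) := ⟨Nat.prime_three⟩
  haveI := Fintype.ofFinite Y
  have hI : SmithTyrer.Inverted P n := ⟨by norm_num, H.comm, hn, hinv, hall⟩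
  exact A9Three.sylow_normal_of_pLength_one (SmithTyrer.pLength_one hI H.not_cyclic H.core_bot)
    H.core_bot P

/-- The automiser is a four-group. -/
theorem klein_case {A : Type*} [Group A] [IsKleinFour A]
    (π : Subgroup.normalizer ((P : Subgroup Y) : Set Y) →* A) (hπ : Function.Surjective π)
    (hker : ∀ g, π g = 1 ↔ (g : Y) ∈ (P : Subgroup Y)) : (P : Subgroup Y).Normal := by
  haveI : Fact (Nat.Prime 3) := ⟨Nat.prime_three⟩
  have hk : (P : Subgroup Y).subgroupOf (Subgroup.normalizer ((P : Subgroup Y) : Set Y)) = π.ker :=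
    Subgroup.ext fun g => (hker g).symm
  haveI hn : ((P : Subgroup Y).subgroupOf
      (Subgroup.normalizer ((P : Subgroup Y) : Set Y))).Normal := hk ▸ π.normal_ker
  let e : Subgroup.normalizer ((P : Subgroup Y) : Set Y) ⧸ (P : Subgroup Y).subgroupOf
      (Subgroup.normalizer ((P : Subgroup Y) : Set Y)) ≃* A :=
    (QuotientGroup.quotientMulEquivOfEq hk).trans (QuotientGroup.quotientKerEquivOfSurjective π hπ)
  have hK : IsKleinFour (Subgroup.normalizer ((P : Subgroup Y) : Set Y) ⧸ (P : Subgroup Y).subgroupOf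
      (Subgroup.normalizer ((P : Subgroup Y) : Set Y))) :=
    ⟨by rw [Nat.card_congr e.toEquiv, IsKleinFour.card_four],
      by rw [Monoid.exponent_eq_of_mulEquiv e, IsKleinFour.exponent_two]⟩
  have hT : Cfsg.IsElementaryAbelian 3 (P : Subgroup Y) := ⟨H.comm, H.exp⟩
  obtain ⟨ι, hι⟩ := ThreeTI.Grid.exists_hyp P hT H.card H.centralizer_eq hK fun t ht ht1 g hg =>
    H.loc t ht ht1 g (Subgroup.mem_centralizer_singleton_iff.1 hg)
  exact Subgroup.normalizer_eq_top_iff.1 (ThreeTI.Grid.normal P H.comm H.card H.exp hι)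

/-- The automiser is generated by a reflection. -/
theorem reflection_case {n z : Y} (hn : n ∈ Subgroup.normalizer ((P : Subgroup Y) : Set Y))
    (hz : z ∈ (P : Subgroup Y)) (hz1 : z ≠ 1) (hnz : n * z * n⁻¹ = z⁻¹)
    (hn2 : ∀ e ∈ (P : Subgroup Y), n * (n * e * n⁻¹) * n⁻¹ = e)
    (hfix : ∀ e ∈ (P : Subgroup Y), n * e * n⁻¹ = e⁻¹ → e ∈ Subgroup.zpowers z)
    (hall : ∀ g ∈ Subgroup.normalizer ((P : Subgroup Y) : Set Y),
      (∀ e ∈ (P : Subgroup Y), g * e * g⁻¹ = e) ∨
        ∀ e ∈ (P : Subgroup Y), g * e * g⁻¹ = n * e * n⁻¹) :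
    (P : Subgroup Y).Normal := by
  haveI : Fact (Nat.Prime 3) := ⟨Nat.prime_three⟩
  letI : CommGroup (P : Subgroup Y) :=
    { (inferInstance : Group (P : Subgroup Y)) with
      mul_comm := fun a b => H.comm.is_comm.comm a b }
  have conjP : ∀ e : (P : Subgroup Y), n * e * n⁻¹ ∈ (P : Subgroup Y) := fun e =>
    (Subgroup.mem_normalizer_iff.1 hn e).1 e.2
  let s : (P : Subgroup Y) →* (P : Subgroup Y) :=
    MonoidHom.mk' (fun e => ⟨n * e * n⁻¹, conjP e⟩) fun a b => Subtype.ext (conj_mul (a := (a : Y)) (b := n) (c := (b : Y))).symm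
  let φ : (P : Subgroup Y) →* (P : Subgroup Y) := MonoidHom.id _ * s
  have hφ : ∀ e : (P : Subgroup Y), φ e = 1 ↔ n * (e : Y) * n⁻¹ = (e : Y)⁻¹ := by
    intro e
    rw [show φ e = e * s e from rfl, mul_eq_one_iff_inv_eq, Subtype.ext_iff]
    exact ⟨fun h => h.symm, fun h => h.symm⟩
  obtain ⟨f, hf⟩ := A9Three.exists_transfer P φ.rangeRestrict (by
    intro x y g e
    obtain ⟨v, hv, hve⟩ := AbelianSylow.fusion_normalizer P H.comm x x.2 g (e ▸ y.2)
    rw [e] at hve
    refine Subtype.ext ?_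
    show φ x = φ y
    rcases hall v hv with h | h
    · rw [h x x.2] at hve
      rw [Subtype.ext hve]
    · rw [h x x.2] at hve
      have hy : y = s x := Subtype.ext hve.symm
      have h2 : s (s x) = x := Subtype.ext (hn2 x x.2)
      rw [show φ x = x * s x from rfl, show φ y = y * s y from rfl, hy, h2, mul_comm])
  set K := f.ker with hKdef
  have hcube : ∀ w : φ.range, w ^ 3 = 1 := fun w =>
    Subtype.ext (Subtype.ext (H.exp _ (w : (P : Subgroup Y)).2))
  have hpow : ∀ w : φ.range, w ^ (P : Subgroup Y).index = 1 → w = 1 := by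
    intro w hw
    rw [← orderOf_eq_one_iff]
    exact Nat.eq_one_of_dvd_coprimes
      (Nat.prime_three.coprime_iff_not_dvd.2 P.not_dvd_index)
      (orderOf_dvd_of_pow_eq_one (hcube w)) (orderOf_dvd_of_pow_eq_one hw)
  have hKP : ∀ e : (P : Subgroup Y), (e : Y) ∈ K ↔ φ e = 1 := by
    intro e
    rw [hKdef, MonoidHom.mem_ker, hf]
    exact ⟨fun h => congrArg Subtype.val (hpow _ h),
      fun h => by rw [show φ.rangeRestrict e = 1 from Subtype.ext h, one_pow]⟩
  have hzK : z ∈ K := (hKP ⟨z, hz⟩).2 ((hφ _).2 hnz)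
  have hz3 : orderOf z = 3 := orderOf_eq_prime (H.exp z hz) hz1
  have hC : ∀ k ∈ K, k * z = z * k → k ∈ Subgroup.zpowers z := by
    intro k hk hkz
    have hkN := H.loc z hz hz1 k hkz
    rcases hall k hkN with h | h
    · have hkP : k ∈ (P : Subgroup Y) := H.selfc (Subgroup.mem_centralizer_iff.2 fun e he => by
        conv_lhs => rw [← h e he]
        group)
      exact hfix k hkP ((hφ ⟨k, hkP⟩).1 ((hKP ⟨k, hkP⟩).1 hk))
    · have h1 := h z hz
      rw [hnz, hkz, mul_inv_cancel_right] at h1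
      exfalso
      have h2 : z * z = 1 := mul_eq_one_iff_eq_inv.2 h1
      have := orderOf_dvd_of_pow_eq_one (x := z) (n := 2) (by rw [pow_two, h2])
      rw [hz3] at this
      norm_num at this
  have hnorm := self_three K hzK hz3 hC P.isPGroup' fun R _ hcop hR => H.sig R hcop fun e he r hr =>
    (hR e he).le ⟨r, hr, rfl⟩
  -- every element normalising `⟨z⟩` normalises the Sylow subgroup
  have key : ∀ y : Y, y * z * y⁻¹ ∈ Subgroup.zpowers z →
      y ∈ Subgroup.normalizer ((P : Subgroup Y) : Set Y) := by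
    intro y hy
    have one : ∀ e ∈ (P : Subgroup Y), y * e * y⁻¹ ∈ (P : Subgroup Y) := by
      intro e he
      have hc : (y * z * y⁻¹) * (y * e * y⁻¹) = (y * e * y⁻¹) * (y * z * y⁻¹) := by
        rw [conj_mul, conj_mul, show z * e = e * z from congrArg Subtype.val
          (H.comm.is_comm.comm (⟨z, hz⟩ : (P : Subgroup Y)) ⟨e, he⟩)]
      obtain ⟨i, hi⟩ := hy
      have hne : y * z * y⁻¹ ≠ 1 := fun h => hz1 (by simpa using conj_eq_one_iff.1 h)
      refine mem_of_norm (H.loc _ ?_ hne _ hc.symm) (k := 1) ?_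
      · rw [← hi]; exact zpow_mem hz i
      · rw [pow_one, conj_pow, H.exp e he, mul_one, mul_inv_cancel]
    refine Subgroup.mem_normalizer_iff.2 fun e => ⟨one e, fun he => ?_⟩
    have hmap : (P : Subgroup Y).map (MulAut.conj y).toMonoidHom = (P : Subgroup Y) := by
      refine Subgroup.eq_of_le_of_card_ge (by rintro _ ⟨w, hw, rfl⟩; exact one w hw) ?_
      rw [Subgroup.card_map_of_injective (MulEquiv.injective _)]
    rw [← hmap] at he
    obtain ⟨w, hw, hwe⟩ := he
    rwa [show e = w from ((MulAut.conj y).injective hwe).symm]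
  refine Subgroup.normalizer_eq_top_iff.1 (top_unique fun y _ => ?_)
  obtain ⟨q, hq⟩ := (f y).2
  obtain ⟨m, hm⟩ : ∃ m : ℕ, ∀ w : φ.range, (w ^ m) ^ (P : Subgroup Y).index = w := by
    obtain ⟨m, hm⟩ : ∃ m : ℕ, m * (P : Subgroup Y).index % 3 = 1 := by
      obtain ⟨m, hm⟩ := Nat.exists_mul_mod_eq_one_of_coprime
        (Nat.prime_three.coprime_iff_not_dvd.2 P.not_dvd_index).symm (by norm_num)
      exact ⟨m, by rw [mul_comm]; exact hm.2⟩
    refine ⟨m, fun w => ?_⟩
    rw [← pow_mul, pow_eq_pow_mod _ (hcube w), hm, pow_one]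
  let e : (P : Subgroup Y) := q ^ m
  have he : f e = f y := by
    rw [hf, show φ.rangeRestrict e = φ.rangeRestrict q ^ m from map_pow _ _ _, hm]
    exact Subtype.ext hq
  have hk : y * (e : Y)⁻¹ ∈ K := by
    rw [hKdef, MonoidHom.mem_ker, map_mul, map_inv, he, mul_inv_cancel]
  rw [show y = y * (e : Y)⁻¹ * e by group]
  exact mul_mem (key _ (hnorm _ hk)) (Subgroup.le_normalizer e.2)

end Nine

end Cfsg.Agent.S9Three
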