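import Cfsg.Agent.Lib.S9Three.Split
import Cfsg.Agent.Lib.S9Three.FactsTwo
import Cfsg.Agent.Lib.S9Three.Nine

/-!
S3343: the centralisers of pairs and of single elements of the elementary abelian subgroup.
-/

set_option autoImplicit false
set_option maxRecDepth 20000
set_option linter.style.haveILetI false

namespace Cfsg.Agent.S9Three

open Cfsg.Agent.ThreeTI.Cube (V)

universe u

variable {G : Type u} [Group G]

theorem mem_cg_one {θ : V →* G} {u : V} {g : G} : g ∈ cg θ ![u] ↔ g * θ u = θ u * g := by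
  rw [mem_cg, Fin.forall_fin_one, Matrix.cons_val_zero]

theorem mem_cg_two {θ : V →* G} {u v : V} {g : G} :
    g ∈ cg θ ![u, v] ↔ g * θ u = θ u * g ∧ g * θ v = θ v * g := by
  rw [mem_cg, Fin.forall_fin_two, Matrix.cons_val_zero, Matrix.cons_val_one, Matrix.cons_val_zero]

namespace Loc

variable {θ : V →* G} (C : Loc θ)
include C

/-- The centraliser of two independent elements of `J` lies in the normaliser. -/
theorem cg_pair [Finite G] {u v : V} (hu : u ≠ 1) (hv : v ≠ 1) (h1 : v ≠ u) (h2 : v ≠ u⁻¹) :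
    cg θ ![u, v] ≤ NJ θ := by
  classical
  set s := span2 u v with hs
  have h9 : s.card = 9 := span2_card u hu v hv h1 h2
  have hfix : ∀ w, act w u = u → act w v = v → ∀ x ∈ s, act w x = x := by
    intro w hwu hwv x hx
    obtain ⟨p, -, rfl⟩ := Finset.mem_image.1 hx
    rw [act_mul, act_pow, act_pow, hwu, hwv]
  have hrefl : ∀ w, act w u = u → act w v = v → w = 1 ∨ (w * w = 1 ∧ nfix w = 9) := by
    intro w hwu hwv
    refine fix_two w (lt_of_lt_of_le (by omega : 3 < s.card) (Finset.card_le_card fun x hx => ?_))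
    exact Finset.mem_filter.2 ⟨Finset.mem_univ _, hfix w hwu hwv x hx⟩
  obtain ⟨a, hau, hav, ha, huniq⟩ : ∃ a, act a u = u ∧ act a v = v ∧
      (a * a = 1 ∧ (a = 1 ∨ nfix a = 9)) ∧
      ∀ w, Lift θ w → act w u = u → act w v = v → w = 1 ∨ w = a := by
    by_cases h : ∃ w, Lift θ w ∧ act w u = u ∧ act w v = v ∧ w ≠ 1
    · obtain ⟨a, -, hau, hav, ha1⟩ := h
      obtain ⟨haa, ha9⟩ := (hrefl a hau hav).resolve_left ha1
      refine ⟨a, hau, hav, ⟨haa, Or.inr ha9⟩, fun w _ hwu hwv => ?_⟩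
      rcases hrefl w hwu hwv with h | ⟨-, hw9⟩
      · exact Or.inl h
      refine Or.inr (Classical.byContradiction fun hne => ?_)
      have h3 := refl_common w hw9 a ha9 hne
      have : s.card ≤ 3 := le_trans (Finset.card_le_card fun x hx =>
        Finset.mem_filter.2 ⟨Finset.mem_univ _, hfix w hwu hwv x hx, hfix a hau hav x hx⟩) h3
      omega
    · exact ⟨1, act_id u, act_id v, ⟨one_mul 1, Or.inl rfl⟩, fun w hw hwu hwv =>
        Or.inl (Classical.byContradiction fun h' => h ⟨w, hw, hwu, hwv, h'⟩)⟩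
  obtain ⟨hker, hinv, hneg⟩ := refl_facts a ha
  have hys : ∀ w, (∀ i, act w (![u, v] i) = ![u, v] i) → act w u = u ∧ act w v = v :=
    fun w h => ⟨h 0, h 1⟩
  refine C.small_kernel ![u, v] ?_ (nm [1, a]) ?_ hker ?_
  · intro w hw hf h3
    rcases huniq w hw (hys w hf).1 (hys w hf).2 with rfl | rfl
    · rfl
    · rwa [ha.1, one_mul] at h3
  · intro w hw hf x
    rcases huniq w hw (hys w hf).1 (hys w hf).2 with rfl | rfl
    · rw [act_id]
    · exact hinv x
  · intro z hz0 hz1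
    have hzs : z ∉ s := fun hz => hneg z hz1 hz0 (hfix a hau hav z hz)
    have gen : ∀ (H : Subgroup V), u ∈ H → v ∈ H → z ∈ H → H = ⊤ := by
      intro H hHu hHv hHz
      have hsub : insert z s ⊆ Finset.univ.filter fun x => x ∈ H := fun x hx => by
        refine Finset.mem_filter.2 ⟨Finset.mem_univ _, ?_⟩
        rcases Finset.mem_insert.1 hx with rfl | hx
        · exact hHz
        · obtain ⟨p, -, rfl⟩ := Finset.mem_image.1 hx
          exact mul_mem (pow_mem hHu _) (pow_mem hHv _)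
      have h10 : 10 ≤ Nat.card H := by
        rw [Nat.card_eq_fintype_card, Fintype.card_subtype]
        refine le_trans ?_ (Finset.card_le_card hsub)
        rw [Finset.card_insert_of_notMem hzs, h9]
      have hdvd := Subgroup.card_subgroup_dvd_card H
      rw [Nat.card_eq_fintype_card (α := V), show Fintype.card V = 27 by decide] at hdvd
      refine Subgroup.eq_top_of_card_eq H ?_
      rw [Nat.card_eq_fintype_card (α := V), show Fintype.card V = 27 by decide]
      obtain ⟨i, hi, e⟩ := (Nat.dvd_prime_pow Nat.prime_three (m := 3)).1 hdvd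
      interval_cases i <;> omega
    refine ⟨fun g hg hgz => ?_, fun w _ hf hwz => ?_⟩
    · refine J_le_NJ (C.selfc g fun x => ?_)
      have hx : x ∈ (Subgroup.centralizer ({g} : Set G)).comap θ := by
        rw [gen ((Subgroup.centralizer ({g} : Set G)).comap θ) ?_ ?_ ?_]
        · exact Subgroup.mem_top x
        all_goals rw [Subgroup.mem_comap, Subgroup.mem_centralizer_singleton_iff]
        · exact (mem_cg_two.1 hg).1.symm
        · exact (mem_cg_two.1 hg).2.symm
        · exact hgz.symm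
      exact (Subgroup.mem_centralizer_singleton_iff.1 hx).symm
    · refine faithful fun x => ?_
      rw [act_id]
      have hx : x ∈ (actHom w).eqLocus (MonoidHom.id V) := by
        rw [gen ((actHom w).eqLocus (MonoidHom.id V)) (hys w hf).1 (hys w hf).2 hwz]
        exact Subgroup.mem_top x
      exact hx

/-- Centralisers of conjugates of the central element. -/
theorem cg_central [Finite G] {u : V} {w : W} (hw : Lift θ w) (hu : act w vx = u ∨ act w vx = u⁻¹) :
    cg θ ![u] ≤ NJ θ := by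
  obtain ⟨n, hn⟩ := hw
  intro g hg
  have hc : g * θ (act w vx) = θ (act w vx) * g := by
    have h := mem_cg_one.1 hg
    rcases hu with e | e <;> rw [e]
    · exact h
    · rw [map_inv]; exact (Commute.inv_right h : Commute g (θ u)⁻¹)
  rw [← hn vx] at hc
  have h2 : n⁻¹ * g * n * θ vx = θ vx * (n⁻¹ * g * n) := by
    calc n⁻¹ * g * n * θ vx = n⁻¹ * (g * (n * θ vx * n⁻¹)) * n := by group
      _ = n⁻¹ * (n * θ vx * n⁻¹ * g) * n := by rw [hc]
      _ = _ := by group
  have h3 := mul_mem (mul_mem (acts_mem hn) (C.centX _ h2)) (inv_mem (acts_mem hn))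
  rwa [show n * (n⁻¹ * g * n) * n⁻¹ = g by group] at h3

/-- The elementary abelian subgroup as a Sylow subgroup of a centraliser. -/
theorem sylow_cg [Finite G] {n : ℕ} (ys : Fin n → V)
    (huniq : ∀ Q : Subgroup G, IsPGroup 3 Q → θ.range ≤ Q → Q ≤ cg θ ys → Q = θ.range) :
    ∃ P : Sylow 3 (cg θ ys), (P : Subgroup (cg θ ys)) = θ.range.subgroupOf (cg θ ys) := by
  obtain ⟨P, hP⟩ := (C.J_isPGroup.comap_of_injective (cg θ ys).subtype
    Subtype.coe_injective).exists_le_sylow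
  refine ⟨P, le_antisymm (fun x hx => ?_) hP⟩
  exact (huniq ((P : Subgroup (cg θ ys)).map (cg θ ys).subtype) (P.isPGroup'.map _)
    (fun y hy => ⟨⟨y, J_le_cg θ ys hy⟩, hP hy, rfl⟩) (Subgroup.map_subtype_le _)).le ⟨x, hx, rfl⟩

/-- The kernel of the transfer in the centraliser of one element, when it is large. -/
theorem nine_single [Finite G] {k : Fin 4} (hk : ∀ w, Lift θ w ↔ inQ k w = true) {u : V}
    (hu : u ≠ 1) (hc : central k u = false) (h9 : (kerN k u).card = 9)
    (hdec : ∀ x : V, ∃ i : Fin 3, nm (stab k u) (x * u ^ i.val) = 1) :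
    ∃ (f : cg θ ![u] →* V) (P : Sylow 3 f.ker)
      (ρ : Subgroup.normalizer ((P : Subgroup f.ker) : Set f.ker) →* W),
      (∀ (x : V) (h : θ x ∈ cg θ ![u]), f ⟨θ x, h⟩ = 1 ↔ nm (stab k u) x = 1) ∧
      (∀ y : f.ker, y ∈ (P : Subgroup f.ker) ↔ ((y : cg θ ![u]) : G) ∈ θ.range) ∧
      Nine P ∧
      (∀ g : Subgroup.normalizer ((P : Subgroup f.ker) : Set f.ker),
        Acts θ (((g : f.ker) : cg θ ![u]) : G) (ρ g)) ∧
      (∀ g, ρ g = 1 ↔ (g : f.ker) ∈ (P : Subgroup f.ker)) ∧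
      ∀ w, w ∈ ρ.range ↔ w ∈ stab k u := by
  classical
  haveI : Fact (Nat.Prime 3) := ⟨Nat.prime_three⟩
  have hst : ∀ w, Lift θ w → (∀ i, act w (![u] i) = ![u] i) → w ∈ stab k u :=
    fun w hw hf => (mem_stab k u w).2 ⟨(hk w).1 hw, hf 0⟩
  obtain ⟨f, hf, huniq⟩ := C.split ![u]
    (fun w hw hfx h3 => stab_three k u hu hc w (hst w hw hfx) h3) (nm (stab k u))
    (fun w hw hfx => stab_inv k u hu hc w (hst w hw hfx))
  obtain ⟨P0, hP0⟩ := C.sylow_cg ![u] huniq
  obtain ⟨P, hP⟩ := PBasic.exists_sylow_subgroupOf P0 f.ker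
  have hmem : ∀ y : f.ker, y ∈ (P : Subgroup f.ker) ↔ ((y : cg θ ![u]) : G) ∈ θ.range := by
    intro y
    rw [hP, Subgroup.mem_subgroupOf, hP0, Subgroup.mem_subgroupOf]
  have hP' : ∀ y : f.ker, y ∈ (P : Subgroup f.ker) →
      ∃ x, θ x = ((y : cg θ ![u]) : G) ∧ nm (stab k u) x = 1 := by
    intro y hy
    obtain ⟨x, hx⟩ := (hmem y).1 hy
    refine ⟨x, hx, (hf x (J_le_cg θ _ ⟨x, rfl⟩)).1 ?_⟩
    rw [show (⟨θ x, _⟩ : cg θ ![u]) = y from Subtype.ext hx]
    exact y.2
  let q : {x : V // nm (stab k u) x = 1} → (P : Subgroup f.ker) := fun x =>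
    ⟨⟨⟨θ x, J_le_cg θ _ ⟨x, rfl⟩⟩, (hf _ _).2 x.2⟩, (hmem _).2 ⟨x, rfl⟩⟩
  have hq : Function.Bijective q := ⟨fun a b e => Subtype.ext (C.inj
    (congrArg (fun y : (P : Subgroup f.ker) => (((y : f.ker) : cg θ ![u]) : G)) e)), fun y => by
    obtain ⟨x, hx, hx1⟩ := hP' y y.2
    exact ⟨⟨x, hx1⟩, Subtype.ext (Subtype.ext (Subtype.ext hx))⟩⟩
  -- the normaliser of the Sylow subgroup of the kernel normalises `J`
  have hJdec : ∀ y : G, y ∈ cg θ ![u] → (∀ x, nm (stab k u) x = 1 → y * θ x * y⁻¹ ∈ θ.range) →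
      y ∈ NJ θ := by
    intro y hy hx
    refine mem_NJ_of_map (Subgroup.eq_of_le_of_card_ge ?_ ?_)
    · rintro _ ⟨_, ⟨x, rfl⟩, rfl⟩
      show y * θ x * y⁻¹ ∈ θ.range
      obtain ⟨i, hi⟩ := hdec x
      rw [show θ x = θ (x * u ^ i.val) * (θ (u ^ i.val))⁻¹ by rw [map_mul, mul_inv_cancel_right],
        ← conj_mul]
      refine mul_mem (hx _ hi) ?_
      rw [← map_inv, show y * θ (u ^ i.val)⁻¹ * y⁻¹ = θ (u ^ i.val)⁻¹ by
        rw [map_inv, map_pow, ((Commute.pow_right (mem_cg_one.1 hy) i.val).inv_right).eq,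
          mul_inv_cancel_right]]
      exact ⟨_, rfl⟩
    · rw [Subgroup.card_map_of_injective (MulEquiv.injective _)]
  have hN : ∀ g : Subgroup.normalizer ((P : Subgroup f.ker) : Set f.ker),
      (((g : f.ker) : cg θ ![u]) : G) ∈ NJ θ := fun g => hJdec _ (g : f.ker).1.2 fun x hx =>
    (hmem _).1 ((Subgroup.mem_normalizer_iff.1 g.2 (q ⟨x, hx⟩).1).1 (q ⟨x, hx⟩).2)
  let ρ : Subgroup.normalizer ((P : Subgroup f.ker) : Set f.ker) →* W :=
    C.pi.comp (((cg θ ![u]).subtype.comp (f.ker.subtype.comp (Subgroup.subtype _))).codRestrict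
      (NJ θ) hN)
  have hρ : ∀ g : Subgroup.normalizer ((P : Subgroup f.ker) : Set f.ker),
      Acts θ (((g : f.ker) : cg θ ![u]) : G) (ρ g) := fun g => C.pi_spec ⟨_, hN g⟩
  have hnine : Nine P := by
    refine ⟨?_, fun e he => ?_, ⟨⟨fun a b => ?_⟩⟩, fun y hy => ?_, fun e he he1 g hge => ?_⟩
    · rw [← Nat.card_eq_of_bijective q hq, Nat.card_eq_fintype_card, Fintype.card_subtype]
      exact h9
    · obtain ⟨x, hx, -⟩ := hP' e he
      refine Subtype.ext (Subtype.ext ?_)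
      show ((e : cg θ ![u]) : G) ^ 3 = 1
      rw [← hx, ← map_pow, cube_eq_one, map_one]
    · obtain ⟨x, hx, -⟩ := hP' a a.2
      obtain ⟨z, hz, -⟩ := hP' b b.2
      refine Subtype.ext (Subtype.ext (Subtype.ext ?_))
      show ((a : f.ker) : cg θ ![u]).1 * ((b : f.ker) : cg θ ![u]).1 = _ * _
      rw [← hx, ← hz, commute_J]
    · refine (hmem y).2 (C.selfc _ fun x => ?_)
      obtain ⟨i, hi⟩ := hdec x
      have hz : Commute (θ (x * u ^ i.val)) ((y : cg θ ![u]) : G) :=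
        congrArg (fun z : f.ker => ((z : cg θ ![u]) : G))
          (Subgroup.mem_centralizer_iff.1 hy _ (q ⟨_, hi⟩).2)
      have hu' : Commute ((y : cg θ ![u]) : G) (θ (u ^ i.val))⁻¹ := by
        rw [map_pow]; exact (Commute.pow_right (mem_cg_one.1 (y : cg θ ![u]).2) _).inv_right
      rw [show θ x = θ (x * u ^ i.val) * (θ (u ^ i.val))⁻¹ by rw [map_mul, mul_inv_cancel_right]]
      exact (hz.symm.mul_right hu').eq
    · obtain ⟨z, hz, hz0⟩ := hP' e he
      have hz1 : z ≠ 1 := fun h => he1 (Subtype.ext (Subtype.ext (by rw [← hz, h, map_one]; rfl)))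
      have hne : ∀ z' : V, nm (stab k u) z' = 1 → z' ≠ u ∧ z' ≠ u⁻¹ := fun z' h =>
        ⟨fun e' => nm_self k u hu hc (e' ▸ h), fun e' => nm_self k u hu hc (by
          rw [e', map_inv, inv_eq_one] at h; exact h)⟩
      have hgN : ((g : cg θ ![u]) : G) ∈ NJ θ := C.cg_pair hu hz1 (hne z hz0).1 (hne z hz0).2
        (mem_cg_two.2 ⟨mem_cg_one.1 (g : cg θ ![u]).2, by
          rw [hz]; exact congrArg (fun y : f.ker => ((y : cg θ ![u]) : G)) hge⟩)
      refine Subgroup.mem_normalizer_iff.2 fun y => ?_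
      rw [hmem, hmem]
      exact Subgroup.mem_normalizer_iff.1 hgN _
  refine ⟨f, P, ρ, hf, hmem, hnine, hρ, fun g => ?_, fun w => ⟨?_, fun hw => ?_⟩⟩
  · rw [hmem]
    exact C.pi_eq_one ⟨_, hN g⟩
  · rintro ⟨g, rfl⟩
    exact (mem_stab k u _).2 ⟨(hk _).1 ⟨_, hρ g⟩,
      (C.acts_commute (hρ g) u).1 (mem_cg_one.1 (g : f.ker).1.2)⟩
  · obtain ⟨hwQ, hwu⟩ := (mem_stab k u w).1 hw
    obtain ⟨n, hn⟩ := (hk w).2 hwQ
    have hpow : ∀ j : ℕ, Acts θ (n ^ j) (w ^ j) := by
      intro j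
      induction j with
      | zero => simpa using acts_one
      | succ j ih => rw [pow_succ, pow_succ]; exact acts_mul ih hn
    have hw8 := stab_eight k u hu hc w hw
    obtain ⟨v, hv⟩ := C.mem_J_of_acts_one (hw8 ▸ hpow 8)
    have h24 : n ^ 24 = 1 := by
      rw [show 24 = 8 * 3 by norm_num, pow_mul, ← hv, ← map_pow, cube_eq_one, map_one]
    have hw81 : w ^ 81 = w := by
      rw [show 81 = 8 * 10 + 1 by norm_num, pow_add, pow_mul, hw8, one_pow, one_mul, pow_one]
    have hm : Acts θ (n ^ 81) w := hw81 ▸ hpow 81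
    have hmc : n ^ 81 ∈ cg θ ![u] := mem_cg_one.2 ((C.acts_commute hm u).2 hwu)
    have hmK : (⟨n ^ 81, hmc⟩ : cg θ ![u]) ∈ f.ker := by
      rw [MonoidHom.mem_ker]
      have h8 : (⟨n ^ 81, hmc⟩ : cg θ ![u]) ^ 8 = 1 := Subtype.ext (by
        show (n ^ 81) ^ 8 = 1
        rw [← pow_mul, show 81 * 8 = 24 * 27 by norm_num, pow_mul, h24, one_pow])
      exact (pow_eq_one_iff_V _ (show ¬ 3 ∣ 8 by norm_num)).1 (by rw [← map_pow, h8, map_one])
    have hmN : (⟨_, hmK⟩ : f.ker) ∈ Subgroup.normalizer ((P : Subgroup f.ker) : Set f.ker) := by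
      refine Subgroup.mem_normalizer_iff.2 fun y => ?_
      rw [hmem, hmem]
      exact Subgroup.mem_normalizer_iff.1 (acts_mem hm) _
    exact ⟨⟨_, hmN⟩, C.acts_unique (hρ _) hm⟩

/-- A normal Sylow subgroup of the kernel puts the centraliser into the normaliser. -/
theorem cg_le_of_normal [Finite G] {k : Fin 4} {u : V} (f : cg θ ![u] →* V) (P : Sylow 3 f.ker)
    (hf : ∀ (x : V) (h : θ x ∈ cg θ ![u]), f ⟨θ x, h⟩ = 1 ↔ nm (stab k u) x = 1)
    (hmem : ∀ y : f.ker, y ∈ (P : Subgroup f.ker) ↔ ((y : cg θ ![u]) : G) ∈ θ.range)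
    (hdec : ∀ x : V, ∃ i : Fin 3, nm (stab k u) (x * u ^ i.val) = 1)
    (hn : (P : Subgroup f.ker).Normal) : cg θ ![u] ≤ NJ θ := by
  haveI : Fact (Nat.Prime 3) := ⟨Nat.prime_three⟩
  haveI : (P : Subgroup f.ker).Characteristic := P.characteristic_of_normal hn
  haveI hQn : ((P : Subgroup f.ker).map f.ker.subtype).Normal := inferInstance
  intro g hg
  refine mem_NJ_of_map (Subgroup.eq_of_le_of_card_ge ?_ ?_)
  · rintro _ ⟨_, ⟨x, rfl⟩, rfl⟩
    show g * θ x * g⁻¹ ∈ θ.range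
    obtain ⟨i, hi⟩ := hdec x
    rw [show θ x = θ (x * u ^ i.val) * (θ (u ^ i.val))⁻¹ by rw [map_mul, mul_inv_cancel_right],
      ← conj_mul]
    refine mul_mem ?_ ?_
    · obtain ⟨y, hy, hye⟩ := hQn.conj_mem _
        ⟨⟨⟨θ (x * u ^ i.val), J_le_cg θ _ ⟨_, rfl⟩⟩, (hf _ _).2 hi⟩, (hmem _).2 ⟨_, rfl⟩, rfl⟩
        ⟨g, hg⟩
      have h := (hmem y).1 hy
      rwa [show (y : cg θ ![u]) = _ from hye] at h
    · rw [← map_inv, show g * θ (u ^ i.val)⁻¹ * g⁻¹ = θ (u ^ i.val)⁻¹ by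
        rw [map_inv, map_pow, ((Commute.pow_right (mem_cg_one.1 hg) i.val).inv_right).eq,
          mul_inv_cancel_right]]
      exact ⟨_, rfl⟩
  · rw [Subgroup.card_map_of_injective (MulEquiv.injective _)]

/-- The centraliser of one element. -/
theorem cg_single [Finite G] {k : Fin 4} (hk : ∀ w, Lift θ w ↔ inQ k w = true) {u : V}
    (hu : u ≠ 1) : cg θ ![u] ≤ NJ θ ∨ (k = 3 ∧ ∃ w : W, act w v3 = u) := by
  classical
  haveI : Fact (Nat.Prime 3) := ⟨Nat.prime_three⟩
  by_cases hc : central k u = true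
  · left
    rw [central, Bool.or_eq_true] at hc
    rcases hc with h | h
    · obtain ⟨w, hw, he⟩ := inO_iff k u h
      exact C.cg_central ((hk w).2 hw) (Or.inl he)
    · obtain ⟨w, hw, he⟩ := inO_iff k u⁻¹ h
      exact C.cg_central ((hk w).2 hw) (Or.inr he)
  rw [Bool.not_eq_true] at hc
  have hs := shape_true k u hu hc
  simp only [shape, Bool.or_eq_true, Bool.and_eq_true, decide_eq_true_eq, List.all_eq_true] at hs
  have hst : ∀ w, Lift θ w → (∀ i, act w (![u] i) = ![u] i) → w ∈ stab k u :=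
    fun w hw hf => (mem_stab k u w).2 ⟨(hk w).1 hw, hf 0⟩
  rcases hs with ⟨h3, hall⟩ | ⟨⟨h9, hdec⟩, hkind⟩
  · left
    refine C.small_kernel ![u] (fun w hw hf h => stab_three k u hu hc w (hst w hw hf) h)
      (nm (stab k u)) (fun w hw hf => stab_inv k u hu hc w (hst w hw hf)) h3 fun z hz0 hz1 => ?_
    refine ⟨fun g hg hgz => ?_, fun w hw hf hwz => hall w (hst w hw hf) z
      (Finset.mem_filter.2 ⟨Finset.mem_univ _, hz0⟩) hz1 hwz⟩
    refine C.cg_pair hu hz1 (fun e => ?_) (fun e => ?_) (mem_cg_two.2 ⟨mem_cg_one.1 hg, hgz⟩)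
    · exact nm_self k u hu hc (e ▸ hz0)
    · rw [e, map_inv, inv_eq_one] at hz0
      exact nm_self k u hu hc hz0
  · by_cases haxis : k = 3 ∧ ∃ w : W, act w v3 = u
    · exact Or.inr haxis
    left
    obtain ⟨f, P, ρ, hf, hmem, hN, hρ, hker, hrange⟩ := C.nine_single hk hu hc h9 hdec
    refine C.cg_le_of_normal f P hf hmem hdec ?_
    rcases hkind with (⟨hlen, hall⟩ | ⟨hlen, hall⟩) | hax
    · obtain ⟨s, hs, hs1⟩ : ∃ s ∈ stab k u, s ≠ 1 := by
        by_contra hno
        push Not at hno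
        have h1 : (stab k u).toFinset ⊆ {1} := fun s hs =>
          Finset.mem_singleton.2 (hno s (List.mem_toFinset.1 hs))
        have h2 := Finset.card_le_card h1
        rw [List.toFinset_card_of_nodup (stab_nodup k u), hlen, Finset.card_singleton] at h2
        omega
      have hinv : ∀ g, ρ g ≠ 1 → ∀ e ∈ (P : Subgroup f.ker), (g : f.ker) * e * (g : f.ker)⁻¹ = e⁻¹ := by
        intro g hg e he
        obtain ⟨x, hx⟩ := (hmem e).1 he
        have h1 := (hall (ρ g) ((hrange _).1 ⟨g, rfl⟩)).resolve_left hg x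
          (Finset.mem_filter.2 ⟨Finset.mem_univ _, (hf x (J_le_cg θ _ ⟨x, rfl⟩)).1 (by
            rw [show (⟨θ x, _⟩ : cg θ ![u]) = e from Subtype.ext hx]; exact e.2)⟩)
        refine Subtype.ext (Subtype.ext ?_)
        show ((g : f.ker) : cg θ ![u]).1 * (e : cg θ ![u]).1 * ((g : f.ker) : cg θ ![u]).1⁻¹ = _
        rw [← hx, hρ g x, h1, map_inv, hx]
        rfl
      obtain ⟨n, hn⟩ := (hrange s).2 hs
      refine hN.inverted_case n.2 (hinv n (hn ▸ hs1)) fun g hg => ?_
      by_cases h1 : ρ ⟨g, hg⟩ = 1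
      · refine Or.inl fun e he => ?_
        have := congrArg Subtype.val (hN.comm.is_comm.comm
          (⟨g, (hker ⟨g, hg⟩).1 h1⟩ : (P : Subgroup f.ker)) ⟨e, he⟩)
        exact mul_inv_eq_iff_eq_mul.2 this
      · exact Or.inr (hinv ⟨g, hg⟩ h1)
    · have h4 : Nat.card ρ.range = 4 := by
        rw [← hlen, ← List.toFinset_card_of_nodup (stab_nodup k u), ← Fintype.card_coe,
          ← Nat.card_eq_fintype_card]
        exact Nat.card_congr (Equiv.subtypeEquivRight fun w => by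
          rw [List.mem_toFinset]; exact hrange w)
      haveI : Nontrivial ρ.range := Finite.one_lt_card_iff_nontrivial.1 (by omega)
      haveI : IsKleinFour ρ.range := by
        refine ⟨h4, (Monoid.exponent_eq_prime_iff Nat.prime_two).2 fun y hy => orderOf_eq_prime ?_ hy⟩
        exact Subtype.ext (by rw [Subgroup.coe_pow, pow_two]; exact hall y ((hrange _).1 y.2))
      exact hN.klein_case ρ.rangeRestrict ρ.rangeRestrict_surjective fun g =>
        Subtype.ext_iff.trans (hker g)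
    · exact absurd hax haxis

end Loc

end Cfsg.Agent.S9Three
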