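import Cfsg.Agent.Lib.S9Three.LabelFacts

/-!
S3343: finite facts on centralisers of involutions and elements of order three.
-/

set_option autoImplicit false
set_option maxRecDepth 100000
set_option synthInstance.maxSize 4000

namespace Cfsg.Agent.S9Three

open Cfsg.Agent.ThreeTI.Cube (V)
open Cfsg.Agent.A9Three (six)
open Equiv

/-- The centraliser in the model of an element and a translation. -/
def centM (x : Mw) (v : V) : Finset Mw :=
  Finset.univ.filter fun m => m * x = x * m ∧ m * inV v = inV v * m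

/-- An axis. -/
def axis (v : V) : Prop := v ∈ [v1, v1⁻¹, v2, v2⁻¹, v3, v3⁻¹]

instance : DecidablePred axis := fun _ => by unfold axis; infer_instance

theorem axis_iff : ∀ v : V, (∃ w : W, act w v3 = v) → axis v := by decide +kernel

theorem cent_T : ∀ v : V, v.toAdd.2.2 = 0 → v ≠ 1 → ¬ axis v → ¬ 27 ∣ (centM mC0 v).card := by
  decide +kernel

theorem axis_T : ∀ v : V, v.toAdd.2.2 = 0 → axis v →
    ∃ i : Fin 3, (act ((mPi ^ i.val).right) v3 = v ∨ act ((mPi ^ i.val).right) v3 = v⁻¹) ∧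
      (m9 ((mPi ^ i.val)⁻¹ * mC0 * mPi ^ i.val) = six (swap 0 1) ∨
        m9 ((mPi ^ i.val)⁻¹ * mC0 * mPi ^ i.val) = six (swap 3 4)) := by
  decide +kernel

theorem cent_E : ∀ m : Mw, m * m * m = 1 → m * mC0 = mC0 * m → m * inV v1 = inV v1 * m →
    m * inV v2 = inV v2 * m → m.right = 1 ∧ m.left.toAdd.2.2 = 0 := by decide +kernel

theorem cent_q : ¬ axis (v1 * v2) ∧ v1 * v2 ≠ 1 ∧ ¬ 9 ∣ (centM (mP * mC0) (v1 * v2)).card ∧
    (mP * mC0) * inV (v1 * v2) = inV (v1 * v2) * (mP * mC0) := by decide +kernel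

theorem cent_D : m9 (mA0 * mB0) = six (swap 0 1 * swap 3 4) ∧
    (mA0 * mB0) * inV v3 = inV v3 * (mA0 * mB0) := by decide +kernel

theorem cent_six :
    (Finset.univ.filter fun s : Perm (Fin 6) => s * swap 0 1 = swap 0 1 * s).card = 48 ∧
    (Finset.univ.filter fun s : Perm (Fin 6) => s * swap 3 4 = swap 3 4 * s).card = 48 ∧
    (Finset.univ.filter fun s : Perm (Fin 6) =>
      s * (swap 0 1 * swap 3 4) = swap 0 1 * swap 3 4 * s).card = 16 := by decide +kernel

theorem E_facts : mC0 * inV v1 = inV v1 * mC0 ∧ mC0 * inV v2 = inV v2 * mC0 ∧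
    mP * inV vx = inV vx * mP ∧ (∀ w : W, (act w vx).toAdd.2.2 ≠ 0) ∧
    (∀ w : W, act w (v1 * v2) ≠ v3 ∧ act w (v1 * v2) ≠ v3⁻¹) := by decide +kernel

theorem E_set : ∀ v : V, v.toAdd.2.2 = 0 → ∃ i j : Fin 3, v = v1 ^ i.val * v2 ^ j.val := by
  decide +kernel

theorem E_count : (Finset.univ.filter fun v : V => v.toAdd.2.2 = 0).card = 9 := by decide +kernel

end Cfsg.Agent.S9Three
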