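import Cfsg.Agent.Lib.S9Three.Classes

/-!
S3343: a transposition is conjugate neither to a product of two, nor of four transpositions, nor
to a triple commuting with an element conjugate to the central one; products of two and of four
transpositions are not conjugate.
-/

set_option autoImplicit false
set_option maxRecDepth 20000
set_option linter.style.haveILetI false

namespace Cfsg.Agent.S9Three

open Cfsg.Agent.ThreeTI.Cube (V)
open Cfsg.Agent.A9Three (six)
open Equiv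

universe u

variable {G : Type u} [Group G]

theorem conj_comm {g x y : G} (h : y * x = x * y) :
    g * y * g⁻¹ * (g * x * g⁻¹) = g * x * g⁻¹ * (g * y * g⁻¹) :=
  ((show Commute y x from h).map (MulAut.conj g).toMonoidHom).eq

/-- The case of a subgroup of prime order. -/
theorem sylow_cent_order [Finite G] (x e : G) (he3 : e ^ 3 = 1) (he1 : e ≠ 1) (hex : e * x = x * e)
    (hQ : ∀ Q : Subgroup G, IsPGroup 3 Q → Q ≤ C2 x e → Nat.card Q ≤ 3) :
    (∀ Q : Subgroup G, IsPGroup 3 Q → Q ≤ Subgroup.centralizer ({x} : Set G) → Nat.card Q ≤ 3) ∧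
    ∀ y, y ^ 3 = 1 → y * x = x * y → ∃ g, g * y * g⁻¹ ∈ Subgroup.zpowers e := by
  classical
  haveI : Fact (Nat.Prime 3) := ⟨Nat.prime_three⟩
  have hc : ∀ {z : G}, z ^ 3 = 1 → z ≠ 1 → Nat.card (Subgroup.zpowers z) = 3 := fun h h' => by
    rw [Nat.card_zpowers]; exact orderOf_eq_prime h h'
  have hp : ∀ {z : G}, z ^ 3 = 1 → z ≠ 1 → IsPGroup 3 (Subgroup.zpowers z) := fun h h' =>
    IsPGroup.of_card (n := 1) ((hc h h').trans (pow_one 3).symm)
  obtain ⟨h1, h2⟩ := sylow_cent (p := 3) x (Subgroup.zpowers e)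
    (Subgroup.zpowers_le.2 (Subgroup.mem_centralizer_singleton_iff.2 hex)) (hp he3 he1)
    (fun z hz3 hzx hze => by
      by_contra hmem
      have hz1 : z ≠ 1 := fun h => hmem (h ▸ one_mem _)
      have hnorm : Subgroup.zpowers z ≤ Subgroup.normalizer (Subgroup.zpowers e : Set G) := by
        refine le_trans (Subgroup.zpowers_le.2 ?_) (Subgroup.centralizer_le_normalizer _)
        exact Subgroup.mem_centralizer_iff.2 fun a ha => (hze a ha).symm
      have hQp := (hp hz3 hz1).to_sup_of_normal_right' (hp he3 he1) hnorm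
      have hle : Subgroup.zpowers z ⊔ Subgroup.zpowers e ≤ C2 x e := sup_le
        (Subgroup.zpowers_le.2 (mem_C2.2 ⟨hzx, hze _ (Subgroup.mem_zpowers _)⟩))
        (Subgroup.zpowers_le.2 (mem_C2.2 ⟨hex, rfl⟩))
      exact hmem ((Subgroup.eq_of_le_of_card_ge
        (le_sup_right : Subgroup.zpowers e ≤ Subgroup.zpowers z ⊔ Subgroup.zpowers e)
        (by rw [hc he3 he1]; exact hQ _ hQp hle)).symm ▸
          Subgroup.mem_sup_left (Subgroup.mem_zpowers z)))
    (fun z hz hz1 Q hQp hle => by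
      rw [hc he3 he1]
      refine hQ Q hQp fun q hq => mem_C2.2 ⟨(mem_C2.1 (hle hq)).1, ?_⟩
      have hgen : Subgroup.zpowers z = Subgroup.zpowers e :=
        Subgroup.eq_of_le_of_card_ge (Subgroup.zpowers_le.2 hz) (by
          rw [hc he3 he1, hc ?_ hz1]
          obtain ⟨k, rfl⟩ := Subgroup.mem_zpowers_iff.1 hz
          rw [← zpow_natCast, ← zpow_mul, mul_comm, zpow_mul, zpow_natCast, he3, one_zpow])
      have h : Subgroup.zpowers z ≤ Subgroup.centralizer ({q} : Set G) :=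
        Subgroup.zpowers_le.2 (Subgroup.mem_centralizer_singleton_iff.2 (mem_C2.1 (hle hq)).2.symm)
      rw [hgen] at h
      exact (Subgroup.mem_centralizer_singleton_iff.1 (h (Subgroup.mem_zpowers _))).symm)
  exact ⟨fun Q hQ' hle => hc he3 he1 ▸ h1 Q hQ' hle, h2⟩

theorem v3_sq : v3 ^ 2 = v3⁻¹ := by decide +kernel

namespace Base

variable {θ : V →* G} {ι : Mw →* G} (B : Base θ ι) {Ψ : Perm (Fin 6) →* G} (S : Psi6 θ ι Ψ)
include B S

omit S in
theorem v3_one : θ v3 ≠ 1 := fun h => (by decide +kernel : v3 ≠ 1)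
  (B.loc.inj (h.trans (map_one θ).symm))

theorem double_eq : Ψ (swap 0 1 * swap 3 4) = ι (mA0 * mB0) := S.agree _ _ cent_D.1

/-- The centraliser of a product of two transpositions. -/
theorem cent_double [Finite G] :
    (∀ Q : Subgroup G, IsPGroup 3 Q → Q ≤ Subgroup.centralizer ({ι (mA0 * mB0)} : Set G) →
      Nat.card Q ≤ 3) ∧
    ∀ y, y ^ 3 = 1 → y * ι (mA0 * mB0) = ι (mA0 * mB0) * y →
      ∃ g, g * y * g⁻¹ ∈ Subgroup.zpowers (θ v3) := by
  haveI : Fact (Nat.Prime 3) := ⟨Nat.prime_three⟩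
  refine sylow_cent_order (ι (mA0 * mB0)) (θ v3) (by rw [← map_pow, cube_eq_one, map_one]) B.v3_one
    (by rw [← B.onV, ← map_mul, ← map_mul, cent_D.2]) fun Q hQ hle => ?_
  refine pGroup_card_le (k := 1) hQ hle fun h => ?_
  have hd := Base.card_C2_axis S B.v3_one (swap 0 1 * swap 3 4)
  rw [B.double_eq S] at hd
  have h2 := h.trans hd
  rw [cent_six.2.2] at h2
  norm_num at h2

omit S in
/-- The centraliser of a product of four transpositions. -/
theorem cent_quad [Finite G] :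
    (∀ Q : Subgroup G, IsPGroup 3 Q → Q ≤ Subgroup.centralizer ({ι (mP * mC0)} : Set G) →
      Nat.card Q ≤ 3) ∧ θ (v1 * v2) * ι (mP * mC0) = ι (mP * mC0) * θ (v1 * v2) := by
  haveI : Fact (Nat.Prime 3) := ⟨Nat.prime_three⟩
  obtain ⟨hax, hne, hcard, hcomm⟩ := cent_q
  have hu : θ (v1 * v2) * ι (mP * mC0) = ι (mP * mC0) * θ (v1 * v2) := by
    rw [← B.onV, ← map_mul, ← map_mul, hcomm]
  refine ⟨(sylow_cent_order (ι (mP * mC0)) (θ (v1 * v2)) (by rw [← map_pow, cube_eq_one, map_one])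
    (fun h => hne (B.loc.inj (h.trans (map_one θ).symm))) hu fun Q hQ hle => ?_).1, hu⟩
  refine pGroup_card_le (k := 1) hQ hle fun h => hcard ?_
  rw [← B.card_C2_nonaxis _ hne hax]
  exact h

omit S in
/-- The nine translations commuting with a transposition. -/
theorem exists_E [Finite G] : ∃ E : Subgroup G, IsPGroup 3 E ∧ Nat.card E = 9 ∧
    E ≤ Subgroup.centralizer ({ι mC0} : Set G) ∧
    ∀ z, z ∈ E ↔ ∃ v : V, v.toAdd.2.2 = 0 ∧ θ v = z := by
  classical
  let K : Subgroup V :=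
    { carrier := {v | v.toAdd.2.2 = 0}
      one_mem' := rfl
      mul_mem' := fun {a b} (ha : a.toAdd.2.2 = 0) (hb : b.toAdd.2.2 = 0) => by
        show (a * b).toAdd.2.2 = 0
        rw [toAdd_mul, Prod.snd_add, Prod.snd_add, ha, hb, add_zero]
      inv_mem' := fun {a} (ha : a.toAdd.2.2 = 0) => by
        show (a⁻¹).toAdd.2.2 = 0
        rw [toAdd_inv, Prod.snd_neg, Prod.snd_neg, ha, neg_zero] }
  have hc : Nat.card (K.map θ) = 9 := by
    rw [Subgroup.card_map_of_injective B.loc.inj, ← E_count, ← Fintype.card_coe,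
      ← Nat.card_eq_fintype_card]
    exact Nat.card_congr (Equiv.subtypeEquivRight fun v => by
      rw [Finset.mem_filter]; exact ⟨fun h => ⟨Finset.mem_univ _, h⟩, fun h => h.2⟩)
  haveI : Fact (Nat.Prime 3) := ⟨Nat.prime_three⟩
  refine ⟨K.map θ, IsPGroup.of_card (n := 2) hc, hc, ?_, fun z => Iff.rfl⟩
  rintro _ ⟨v, hv, rfl⟩
  rw [Subgroup.mem_centralizer_singleton_iff]
  obtain ⟨i, j, rfl⟩ := E_set v hv
  obtain ⟨h1, h2, -⟩ := E_facts
  rw [map_mul, map_pow, map_pow, ← B.onV, ← B.onV]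
  exact (((show Commute (inV v1) mC0 from h1.symm).map ι).pow_left _).mul_left
    (((show Commute (inV v2) mC0 from h2.symm).map ι).pow_left _)

/-- The centraliser of a transposition. -/
theorem cent_transposition [Finite G] {E : Subgroup G} (hEp : IsPGroup 3 E) (hE9 : Nat.card E = 9)
    (hEC : E ≤ Subgroup.centralizer ({ι mC0} : Set G))
    (hEmem : ∀ z, z ∈ E ↔ ∃ v : V, v.toAdd.2.2 = 0 ∧ θ v = z) :
    ∀ y, y ^ 3 = 1 → y * ι mC0 = ι mC0 * y → ∃ g, g * y * g⁻¹ ∈ E := by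
  classical
  haveI : Fact (Nat.Prime 3) := ⟨Nat.prime_three⟩
  refine (sylow_cent (p := 3) (ι mC0) E hEC hEp ?_ ?_).2
  · intro z hz3 hzx hzE
    have hv : ∀ v : V, v.toAdd.2.2 = 0 → z * θ v = θ v * z := fun v hv =>
      hzE _ ((hEmem _).2 ⟨v, hv, rfl⟩)
    have hzN : z ∈ NJ θ := B.loc.cg_pair (u := v1) (v := v2) (by decide +kernel) (by decide +kernel)
      (by decide +kernel) (by decide +kernel)
      (mem_cg_two.2 ⟨hv v1 (by rfl), hv v2 (by rfl)⟩)
    rw [← B.range] at hzN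
    obtain ⟨m, rfl⟩ := hzN
    obtain ⟨hr, hl⟩ := cent_E m
      (B.inj (by rw [map_mul, map_mul, map_one, ← hz3, pow_three']))
      (B.inj (by rw [map_mul, map_mul]; exact hzx))
      (B.inj (by rw [map_mul, map_mul, B.onV]; exact hv _ rfl))
      (B.inj (by rw [map_mul, map_mul, B.onV]; exact hv _ rfl))
    refine (hEmem _).2 ⟨m.left, hl, ?_⟩
    rw [← B.onV]
    exact congrArg ι ((SemidirectProduct.ext rfl hr.symm))
  · intro z hz hz1 Q hQ hle
    obtain ⟨v, hv, rfl⟩ := (hEmem z).1 hz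
    have hv1 : v ≠ 1 := fun h => hz1 (by rw [h, map_one])
    rw [hE9]
    by_cases hax : axis v
    · obtain ⟨i, hi, hsix⟩ := axis_T v hv hax
      obtain ⟨τ, hτ, h48⟩ : ∃ τ, m9 ((mPi ^ i.val)⁻¹ * mC0 * mPi ^ i.val) = six τ ∧
          (Finset.univ.filter fun s : Perm (Fin 6) => s * τ = τ * s).card = 48 := by
        rcases hsix with h | h
        exacts [⟨_, h, cent_six.1⟩, ⟨_, h, cent_six.2.1⟩]
      set g := ι (mPi ^ i.val) with hg
      have hQ' : Nat.card (Q.map (MulAut.conj g⁻¹).toMonoidHom) = Nat.card Q :=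
        Subgroup.card_map_of_injective (MulAut.conj g⁻¹).injective
      rw [← hQ']
      refine pGroup_card_le (k := 2) (hQ.map _) (H := C2 (Ψ τ) (θ v3)) ?_ fun h => ?_
      · rintro _ ⟨q, hq, rfl⟩
        obtain ⟨h1, h2⟩ := mem_C2.1 (hle hq)
        have a1 := conj_comm (g := g⁻¹) h1
        have a2 := conj_comm (g := g⁻¹) h2
        refine mem_C2.2 ⟨?_, ?_⟩
        · rw [MulEquiv.coe_toMonoidHom, MulAut.conj_apply, S.agree _ _ hτ]
          rwa [show g⁻¹ * ι mC0 * g⁻¹⁻¹ = ι ((mPi ^ i.val)⁻¹ * mC0 * mPi ^ i.val) by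
            rw [inv_inv, map_mul, map_mul, map_inv]] at a1
        · have hconj : g * θ v3 * g⁻¹ = θ (act (mPi ^ i.val).right v3) := B.acts _ v3
          rw [MulEquiv.coe_toMonoidHom, MulAut.conj_apply]
          rcases hi with e | e
          · rwa [show g⁻¹ * θ v * g⁻¹⁻¹ = θ v3 by rw [← e, ← hconj]; group] at a2
          · rw [show g⁻¹ * θ v * g⁻¹⁻¹ = (θ v3)⁻¹ by
              rw [← inv_inv v, ← e, map_inv, ← hconj]; group] at a2
            exact (inv_inv (θ v3) ▸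
              (show Commute (g⁻¹ * q * g⁻¹⁻¹) (θ v3)⁻¹ from a2).inv_right : Commute _ _).eq
      · have h2 := h.trans (Base.card_C2_axis S B.v3_one τ)
        rw [h48] at h2
        norm_num at h2
    · refine pGroup_card_le (k := 2) hQ hle fun h => cent_T v hv hv1 hax ?_
      rw [← B.card_C2_nonaxis _ hv1 hax]
      exact h

/-- The four separations. -/
theorem separations [Finite G] :
    ¬ IsConj (ι mC0) (ι (mA0 * mB0)) ∧ ¬ IsConj (ι mC0) (ι mP) ∧
    ¬ IsConj (ι mC0) (ι (mP * mC0)) ∧ ¬ IsConj (ι (mA0 * mB0)) (ι (mP * mC0)) := by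
  haveI : Fact (Nat.Prime 3) := ⟨Nat.prime_three⟩
  obtain ⟨E, hEp, hE9, hEC, hEmem⟩ := B.exists_E
  obtain ⟨hD1, hD2⟩ := B.cent_double S
  obtain ⟨hq1, hu⟩ := B.cent_quad
  have push : ∀ {g x : G}, g * ι mC0 * g⁻¹ = x →
      ∃ Q : Subgroup G, IsPGroup 3 Q ∧ Q ≤ Subgroup.centralizer ({x} : Set G) ∧ Nat.card Q = 9 := by
    intro g x hg
    refine ⟨E.map (MulAut.conj g).toMonoidHom, hEp.map _, ?_,
      (Subgroup.card_map_of_injective (MulAut.conj g).injective).trans hE9⟩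
    rintro _ ⟨y, hy, rfl⟩
    rw [Subgroup.mem_centralizer_singleton_iff, ← hg]
    exact conj_comm (Subgroup.mem_centralizer_singleton_iff.1 (hEC hy))
  refine ⟨fun h => ?_, fun h => ?_, fun h => ?_, fun h => ?_⟩
  · obtain ⟨g, hg⟩ := isConj_iff.1 h
    obtain ⟨Q, hQ, hle, h9⟩ := push hg
    have := hD1 Q hQ hle
    omega
  · obtain ⟨g, hg⟩ := isConj_iff.1 h
    have hx : θ vx * ι mP = ι mP * θ vx := by
      rw [← B.onV, ← map_mul, ← map_mul, E_facts.2.2.1]
    have hback := conj_comm (g := g⁻¹) hx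
    rw [show g⁻¹ * ι mP * g⁻¹⁻¹ = ι mC0 by rw [← hg]; group] at hback
    obtain ⟨k, hk⟩ := B.cent_transposition S hEp hE9 hEC hEmem (g⁻¹ * θ vx * g⁻¹⁻¹)
      (by rw [conj_pow, ← map_pow, cube_eq_one, map_one, mul_one, mul_inv_cancel]) hback
    obtain ⟨v, hv0, hv⟩ := (hEmem _).1 hk
    obtain ⟨w, -, hw⟩ := B.loc.fusion_one (u := vx) (v := v) (g := k * g⁻¹) (by rw [hv]; group)
    exact E_facts.2.2.2.1 w (hw ▸ hv0)
  · obtain ⟨g, hg⟩ := isConj_iff.1 h
    obtain ⟨Q, hQ, hle, h9⟩ := push hg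
    have := hq1 Q hQ hle
    omega
  · obtain ⟨g, hg⟩ := isConj_iff.1 h
    have hback := conj_comm (g := g⁻¹) hu
    rw [show g⁻¹ * ι (mP * mC0) * g⁻¹⁻¹ = ι (mA0 * mB0) by rw [← hg]; group] at hback
    obtain ⟨k, hk⟩ := hD2 (g⁻¹ * θ (v1 * v2) * g⁻¹⁻¹)
      (by rw [conj_pow, ← map_pow, cube_eq_one, map_one, mul_one, mul_inv_cancel]) hback
    obtain ⟨j, hj⟩ := Subgroup.mem_zpowers_iff.1 hk
    obtain ⟨c, hc⟩ : ∃ c : V, v3 ^ j = c := ⟨_, rfl⟩
    obtain ⟨w, -, hw⟩ := B.loc.fusion_one (u := v1 * v2) (v := c) (g := k * g⁻¹) (by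
      rw [← hc, map_zpow, hj]; group)
    have hcases : c = 1 ∨ c = v3 ∨ c = v3⁻¹ := by
      rw [← hc, ← Int.emod_add_mul_ediv j 3, zpow_add, zpow_mul,
        show v3 ^ (3 : ℤ) = 1 from by rw [show (3 : ℤ) = ((3 : ℕ) : ℤ) from rfl, zpow_natCast]; exact cube_eq_one v3,
        one_zpow, mul_one]
      have h0 := Int.emod_nonneg j (show (3 : ℤ) ≠ 0 by norm_num)
      have h3 := Int.emod_lt_of_pos j (show (0 : ℤ) < 3 by norm_num)
      obtain e | e | e : j % 3 = 0 ∨ j % 3 = 1 ∨ j % 3 = 2 := by omega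
      · exact Or.inl (by rw [e, zpow_zero])
      · exact Or.inr (Or.inl (by rw [e, zpow_one]))
      · refine Or.inr (Or.inr ?_)
        rw [e, show (2 : ℤ) = ((2 : ℕ) : ℤ) from rfl, zpow_natCast]
        exact v3_sq
    rcases hcases with e | e | e <;> rw [e] at hw
    · exact cent_q.2.1 (by rw [← act_inv_act w (v1 * v2), hw, act_one])
    · exact (E_facts.2.2.2.2 w).1 hw
    · exact (E_facts.2.2.2.2 w).2 hw

end Base

end Cfsg.Agent.S9Three
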