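import Cfsg.Agent.Lib.S9Three.Psi
import Cfsg.Agent.Lib.S9Three.ClassFacts

/-!
S3343: Sylow 3-subgroups of the centralisers of a transposition, of products of two and of four
transpositions, and the resulting separation of classes.
-/

set_option autoImplicit false
set_option maxRecDepth 20000
set_option linter.style.haveILetI false

namespace Cfsg.Agent.S9Three

open Cfsg.Agent.ThreeTI.Cube (V)
open Cfsg.Agent.A9Three (six ce)
open Equiv

universe u

variable {G : Type u} [Group G]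

/-- The common centraliser of two elements. -/
abbrev C2 (x y : G) : Subgroup G := Subgroup.centralizer ({x, y} : Set G)

theorem mem_C2 {x y g : G} : g ∈ C2 x y ↔ g * x = x * g ∧ g * y = y * g := by
  rw [Subgroup.mem_centralizer_iff]
  refine ⟨fun h => ⟨(h x (Or.inl rfl)).symm, (h y (Or.inr rfl)).symm⟩, ?_⟩
  rintro ⟨h1, h2⟩ z (rfl | rfl)
  exacts [h1.symm, h2.symm]

/-- A criterion for a subgroup to be a Sylow subgroup of a centraliser. -/
theorem sylow_cent [Finite G] {p : ℕ} [Fact p.Prime] (x : G) (E : Subgroup G)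
    (hE : E ≤ Subgroup.centralizer ({x} : Set G)) (hEp : IsPGroup p E)
    (h1 : ∀ z, z ^ p = 1 → z * x = x * z → (∀ e ∈ E, z * e = e * z) → z ∈ E)
    (h2 : ∀ z ∈ E, z ≠ 1 → ∀ Q : Subgroup G, IsPGroup p Q → Q ≤ C2 x z →
      Nat.card Q ≤ Nat.card E) :
    (∀ Q : Subgroup G, IsPGroup p Q → Q ≤ Subgroup.centralizer ({x} : Set G) →
      Nat.card Q ≤ Nat.card E) ∧
    ∀ y, y ^ p = 1 → y * x = x * y → ∃ g, g * y * g⁻¹ ∈ E := by
  classical
  set C := Subgroup.centralizer ({x} : Set G)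
  obtain ⟨P, hP⟩ := (hEp.comap_of_injective C.subtype Subtype.coe_injective).exists_le_sylow
  set PG := (P : Subgroup C).map C.subtype with hPG
  have hEP : E ≤ PG := fun e he => ⟨⟨e, hE he⟩, hP he, rfl⟩
  have hPp : IsPGroup p PG := P.isPGroup'.map _
  have hPC : PG ≤ C := Subgroup.map_subtype_le _
  have hle : Nat.card PG ≤ Nat.card E := by
    by_cases hbot : PG = ⊥
    · rw [hbot, Subgroup.card_bot]; exact Nat.card_pos
    haveI : Nontrivial PG := (Subgroup.nontrivial_iff_ne_bot _).2 hbot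
    haveI : Nontrivial (Subgroup.center PG) := hPp.center_nontrivial
    obtain ⟨n, hn, hcard⟩ :=
      (hPp.to_subgroup (Subgroup.center PG)).nontrivial_iff_card.1 inferInstance
    obtain ⟨z, hz⟩ := exists_prime_orderOf_dvd_card' (G := Subgroup.center PG) p
      (hcard ▸ dvd_pow_self _ (Nat.pos_iff_ne_zero.1 hn))
    have hz1 : ((z : PG) : G) ≠ 1 := by
      intro h
      have : z = 1 := Subtype.ext (Subtype.ext h)
      rw [this, orderOf_one] at hz
      exact (Fact.out : p.Prime).ne_one hz.symm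
    have hcomm : ∀ g ∈ PG, g * ((z : PG) : G) = (z : PG) * g := fun g hg =>
      congrArg Subtype.val (Subgroup.mem_center_iff.1 z.2 ⟨g, hg⟩)
    have hzx : ((z : PG) : G) * x = x * (z : PG) :=
      Subgroup.mem_centralizer_singleton_iff.1 (hPC (z : PG).2)
    have hzE := h1 ((z : PG) : G) (by
      have h := congrArg (fun a : Subgroup.center PG => ((a : PG) : G)) (pow_orderOf_eq_one z)
      rw [hz] at h
      simpa using h) hzx (fun e he => (hcomm e (hEP he)).symm)
    exact h2 _ hzE hz1 PG hPp fun g hg =>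
      mem_C2.2 ⟨Subgroup.mem_centralizer_singleton_iff.1 (hPC hg), hcomm g hg⟩
  have heq : PG = E := (Subgroup.eq_of_le_of_card_ge hEP hle).symm
  have hconj : ∀ Q : Subgroup G, IsPGroup p Q → Q ≤ C → ∃ c : G, ∀ q ∈ Q, c * q * c⁻¹ ∈ E := by
    intro Q hQ hle
    obtain ⟨Q', hQ'⟩ := (hQ.comap_of_injective C.subtype Subtype.coe_injective).exists_le_sylow
    obtain ⟨c, hc⟩ := MulAction.exists_smul_eq C Q' P
    refine ⟨c, fun q hq => ?_⟩
    rw [← heq, hPG]
    refine ⟨c * ⟨q, hle hq⟩ * c⁻¹, ?_, rfl⟩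
    rw [← hc, Sylow.coe_subgroup_smul]
    exact Subgroup.smul_mem_pointwise_smul _ _ _ (hQ' hq)
  refine ⟨fun Q hQ hle => ?_, fun y hy hyx => ?_⟩
  · obtain ⟨c, hc⟩ := hconj Q hQ hle
    exact Nat.card_le_card_of_injective (fun q : Q => (⟨_, hc q q.2⟩ : E)) fun a b h =>
      Subtype.ext ((MulAut.conj c).injective (congrArg Subtype.val h))
  · obtain ⟨c, hc⟩ := hconj (Subgroup.zpowers y)
      (fun ⟨a, ha⟩ => ⟨1, Subtype.ext (by
        obtain ⟨k, rfl⟩ := Subgroup.mem_zpowers_iff.1 ha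
        show (y ^ k) ^ p ^ 1 = 1
        rw [pow_one, ← zpow_natCast, ← zpow_mul, mul_comm, zpow_mul, zpow_natCast, hy, one_zpow])⟩)
      (Subgroup.zpowers_le.2 (Subgroup.mem_centralizer_singleton_iff.2 hyx))
    exact ⟨c, hc y (Subgroup.mem_zpowers y)⟩

theorem pGroup_card_le [Finite G] {Q : Subgroup G} (hQ : IsPGroup 3 Q) {H : Subgroup G}
    (hQH : Q ≤ H) {k : ℕ} (hH : ¬ 3 ^ (k + 1) ∣ Nat.card H) : Nat.card Q ≤ 3 ^ k := by
  haveI : Fact (Nat.Prime 3) := ⟨Nat.prime_three⟩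
  obtain ⟨n, hn⟩ := IsPGroup.iff_card.1 hQ
  rw [hn]
  refine Nat.pow_le_pow_right (by norm_num) (Nat.le_of_not_lt fun hlt => hH ?_)
  exact ((Nat.pow_dvd_pow 3 hlt).trans (dvd_of_eq hn.symm)).trans (Subgroup.card_dvd_of_le hQH)

namespace Base

variable {θ : V →* G} {ι : Mw →* G} (B : Base θ ι) {Ψ : Perm (Fin 6) →* G} (S : Psi6 θ ι Ψ)
include B

theorem cg_nonaxis [Finite G] {v : V} (h1 : v ≠ 1) (hax : ¬ axis v) : cg θ ![v] ≤ ι.range := by
  rw [B.range]
  exact (B.loc.cg_single B.hk h1).resolve_right fun h => hax (axis_iff v h.2)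

theorem card_C2_nonaxis [Finite G] (x : Mw) {v : V} (h1 : v ≠ 1) (hax : ¬ axis v) :
    Nat.card (C2 (ι x) (θ v)) = (centM x v).card := by
  rw [← Fintype.card_coe, ← Nat.card_eq_fintype_card]
  have hm : ∀ m : centM x v, ι m.1 ∈ C2 (ι x) (θ v) := fun m => by
    obtain ⟨h2, h3⟩ := (Finset.mem_filter.1 m.2).2
    refine mem_C2.2 ⟨by rw [← map_mul, ← map_mul, h2], ?_⟩
    rw [← B.onV, ← map_mul, ← map_mul, h3]
  refine (Nat.card_eq_of_bijective (fun m : centM x v => (⟨_, hm m⟩ : C2 (ι x) (θ v)))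
    ⟨fun a b h => Subtype.ext (B.inj (congrArg Subtype.val h)), fun g => ?_⟩).symm
  obtain ⟨hgx, hgv⟩ := mem_C2.1 g.2
  obtain ⟨m, hm'⟩ := B.cg_nonaxis h1 hax (mem_cg_one.2 hgv)
  refine ⟨⟨m, Finset.mem_filter.2 ⟨Finset.mem_univ _, B.inj ?_, B.inj ?_⟩⟩, Subtype.ext hm'⟩
  · rw [map_mul, map_mul, hm', hgx]
  · rw [map_mul, map_mul, hm', B.onV, hgv]

include S

omit B in
theorem card_C2_axis [Finite G] (hv3 : θ v3 ≠ 1) (τ : Perm (Fin 6)) :
    Nat.card (C2 (Ψ τ) (θ v3)) ∣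
      3 * (Finset.univ.filter fun s : Perm (Fin 6) => s * τ = τ * s).card := by
  classical
  set F := Finset.univ.filter fun s : Perm (Fin 6) => s * τ = τ * s
  -- the product map is bijective
  have h3 : θ v3 ^ 3 = 1 := by rw [← map_pow, cube_eq_one, map_one]
  have hmem : ∀ q : Fin 3 × F, θ v3 ^ q.1.val * Ψ q.2.1 ∈ C2 (Ψ τ) (θ v3) := fun q => by
    refine mem_C2.2 ⟨?_, ?_⟩
    · exact ((show Commute (θ v3) (Ψ τ) from (S.le τ).symm).pow_left _).mul_left
        ((show Commute q.2.1 τ from (Finset.mem_filter.1 q.2.2).2).map Ψ)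
    · exact ((Commute.refl (θ v3)).pow_left _).mul_left (S.le q.2.1)
  have hbij : Function.Bijective
      (fun q : Fin 3 × F => (⟨_, hmem q⟩ : C2 (Ψ τ) (θ v3))) := by
    refine ⟨fun a b h => ?_, fun g => ?_⟩
    · have h' : θ v3 ^ a.1.val * Ψ a.2.1 = θ v3 ^ b.1.val * Ψ b.2.1 := congrArg Subtype.val h
      have hs : a.2.1 = b.2.1 := by
        refine (inv_mul_eq_one.1 (center6' _ fun t => S.inj ?_)).symm
        have e : Ψ (b.2.1⁻¹ * a.2.1) = θ v3 ^ b.1.val * (θ v3 ^ a.1.val)⁻¹ := by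
          rw [map_mul, map_inv, inv_mul_eq_iff_eq_mul, ← mul_assoc,
            ← ((show Commute (θ v3) (Ψ b.2.1) from (S.le _).symm).pow_left b.1.val).eq, ← h',
            ((show Commute (θ v3) (Ψ a.2.1) from (S.le _).symm).pow_left a.1.val).eq,
            mul_inv_cancel_right]
        rw [map_mul Ψ _ t, map_mul Ψ t _, e]
        exact (((show Commute (θ v3) (Ψ t) from (S.le t).symm).pow_left _).mul_left
          (((show Commute (θ v3) (Ψ t) from (S.le t).symm).pow_left _).inv_left)).eq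
      rw [hs, mul_left_inj] at h'
      refine Prod.ext (Fin.ext ?_) (Subtype.ext hs)
      have h31 : θ v3 ≠ 1 := hv3
      have ho : orderOf (θ v3) = 3 := by
        haveI : Fact (Nat.Prime 3) := ⟨Nat.prime_three⟩
        exact orderOf_eq_prime h3 h31
      rw [pow_eq_pow_iff_modEq, ho] at h'
      have := a.1.isLt; have := b.1.isLt
      unfold Nat.ModEq at h'
      omega
    · obtain ⟨hgτ, hgv⟩ := mem_C2.1 g.2
      obtain ⟨i, s, hs⟩ := S.cover _ hgv
      have hsF : s * τ = τ * s := S.inj (by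
        rw [map_mul, map_mul]
        have hc : Commute (θ v3 ^ i) (Ψ τ) :=
          (show Commute (θ v3) (Ψ τ) from (S.le τ).symm).pow_left _
        have h := hgτ
        rw [hs, mul_assoc, ← mul_assoc (Ψ τ), ← hc.eq, mul_assoc, mul_right_inj] at h
        exact h)
      refine ⟨(⟨i % 3, Nat.mod_lt _ (by norm_num)⟩, ⟨s, Finset.mem_filter.2 ⟨Finset.mem_univ _, hsF⟩⟩),
        Subtype.ext ?_⟩
      show θ v3 ^ (i % 3) * Ψ s = g
      rw [hs, ← pow_eq_pow_mod i h3]
  rw [← Nat.card_eq_of_bijective _ hbij, Nat.card_prod, Nat.card_eq_fintype_card,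
    Fintype.card_fin, Nat.card_eq_fintype_card, Fintype.card_coe]

end Base

end Cfsg.Agent.S9Three
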