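import Cfsg.Agent.Lib.S9Three.Facts

/-!
S3343: finite facts for counting involutions.
-/

set_option autoImplicit false
set_option maxRecDepth 100000
set_option synthInstance.maxSize 4000

namespace Cfsg.Agent.S9Three

open Cfsg.Agent.ThreeTI.Cube (V)

/-- The class of the reflection. -/
def cls (k : Fin 4) (w : W) : Bool := allW.any fun a => inQ k a && decide (a * tau * a⁻¹ = w)

theorem cls_iff (k : Fin 4) (w : W) :
    cls k w = true ↔ ∃ a, inQ k a = true ∧ a * tau * a⁻¹ = w := by
  simp only [cls, List.any_eq_true, Bool.and_eq_true, decide_eq_true_eq]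
  exact ⟨fun ⟨a, _, h⟩ => ⟨a, h⟩, fun ⟨a, h⟩ => ⟨a, mem_allW a, h⟩⟩

/-- The number of reflections in the normaliser. -/
def rk (k : Fin 4) : ℕ := if k.val < 2 then 9 else 18

theorem pairs_card : ∀ k : Fin 4, (Finset.univ.filter fun p : W × V =>
    cls k p.1 = true ∧ act p.1 p.2 = p.2⁻¹).card = rk k := by decide +kernel

theorem cls_facts : ∀ k : Fin 4, ∀ w : W, cls k w = true →
    inQ k w = true ∧ w * w = 1 ∧ w ≠ 1 ∧ ∀ c : W, c * c * c = 1 → c * w = w * c → c = 1 := by
  decide +kernel

theorem tau_cls : ∀ k : Fin 4, cls k tau = true := by decide +kernel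

theorem invol_neg : ∀ w : W, w * w = 1 → (∀ v : V, act w v = v → v = 1) → w = neg := by
  decide +kernel

theorem neg_facts : neg * cyc = cyc * neg ∧ cyc * cyc * cyc = 1 ∧ cyc ≠ 1 ∧ act cyc vx = vx ∧
    vx ≠ 1 ∧ (∀ v : V, act neg v = v⁻¹) ∧ (∀ k : Fin 4, inQ k neg = true → k = 1 ∨ k = 3) ∧
    ∀ v : V, act cyc v = v → ∃ i : Fin 3, v = vx ^ i.val := by decide +kernel

/-- An element commuting with an element of order three and fixing its fixed vector. -/
theorem cent_three : ∀ w : W, w * w * w = 1 → w ≠ 1 → ∀ v : V, v ≠ 1 → act w v = v →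
    ∀ a : W, a * w = w * a → act a v = v → a = 1 ∨ a = w ∨ a = w * w := by decide +kernel

theorem one_three : ∀ w : W, inQ 1 w = true → w * w * w = 1 → w ≠ 1 → ∀ v : V, act w v = v →
    v = 1 ∨ v = vx ∨ v = vx⁻¹ := by decide +kernel

theorem comm_cyc_v1 : ∀ i : Fin 3, act cyc v1 * v1⁻¹ ≠ vx ^ i.val := by decide +kernel

theorem q_card : ∀ k : Fin 4, (allW.filter fun w => inQ k w).length = ![6, 12, 24, 48] k := by
  decide +kernel

/-- The elements of the full group with a centraliser of order at least twelve. -/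
def bigCent : Finset W :=
  Finset.univ.filter fun w => 12 ≤ (Finset.univ.filter fun a : W => a * w = w * a).card

theorem bigCent_card : bigCent.card ≤ 8 := by decide +kernel

end Cfsg.Agent.S9Three
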