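import Cfsg.Agent.Lib.S9Three.Refl
import Cfsg.Agent.Lib.S9Three.FactsCount
import Mathlib.GroupTheory.GroupAction.Quotient

/-!
S3343: when all centralisers in the elementary abelian subgroup are small, counting the involutions
conjugate to a reflection shows that the subgroup is normal.
-/

set_option autoImplicit false
set_option maxRecDepth 40000
set_option linter.style.haveILetI false

namespace Cfsg.Agent.S9Three

open Cfsg.Agent.ThreeTI.Cube (V)

universe u

variable {G : Type u} [Group G]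

/-- Many elements inverted by an automorphism force large centralisers. -/
theorem two_mul_le_cent {D : Type*} [Group D] [Fintype D] [DecidableEq D] (α : D ≃* D)
    {S : Finset D} (hS : ∀ s ∈ S, α s = s⁻¹) {d : D} (hd : d ∈ S) :
    2 * S.card ≤ Fintype.card D + (Finset.univ.filter fun a : D => a * d = d * a).card := by
  have h1 := Finset.card_union_add_card_inter S (S.image fun s => d⁻¹ * s)
  rw [Finset.card_image_of_injective S (mul_right_injective d⁻¹)] at h1
  have h2 := Finset.card_le_univ (S ∪ S.image fun s => d⁻¹ * s)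
  have h3 : (S ∩ S.image fun s => d⁻¹ * s).card ≤
      (Finset.univ.filter fun a : D => a * d = d * a).card := by
    refine Finset.card_le_card fun a ha => ?_
    obtain ⟨ha1, ha2⟩ := Finset.mem_inter.1 ha
    obtain ⟨s, hs, rfl⟩ := Finset.mem_image.1 ha2
    refine Finset.mem_filter.2 ⟨Finset.mem_univ _, ?_⟩
    have e := hS _ ha1
    rw [map_mul, map_inv, hS d hd, hS s hs, inv_inv, mul_inv_rev, inv_inv] at e
    -- `d * s⁻¹ = s⁻¹ * d`
    have e' : Commute d s⁻¹ := e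
    exact (((Commute.refl d).inv_right.mul_right (Commute.inv_right_iff.1 e')).symm).eq
  omega

namespace Loc

variable {θ : V →* G} (C : Loc θ)
include C

theorem exists_refl [Finite G] : ∃ t : G, Acts θ t tau ∧ t * t = 1 := by
  obtain ⟨n, hn⟩ := C.perm tau (perms_fix tau (by decide))
  have h2 := acts_mul hn hn
  rw [tau_facts.1] at h2
  obtain ⟨v, hv⟩ := C.mem_J_of_acts_one h2
  refine ⟨n * n * n, ?_, ?_⟩
  · have h := acts_mul (acts_mul hn hn) hn
    rwa [tau_facts.1, one_mul] at h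
  · calc n * n * n * (n * n * n) = (n * n) ^ 3 := by rw [pow_three']; group
      _ = 1 := by rw [← hv, ← map_pow, cube_eq_one, map_one]

omit C in
/-- The reflections of the normaliser. -/
def IsRefl (θ : V →* G) (k : Fin 4) (s : G) : Prop :=
  s * s = 1 ∧ ∃ w, cls k w = true ∧ Acts θ s w

omit C in
/-- Two distinct conjugates of the normaliser with a common part of `J`. -/
def Bad (θ : V →* G) (ω : G ⧸ NJ θ) : Prop := ∃ v : V, v ≠ 1 ∧ θ v • ω = ω

omit C in
theorem fixes_iff {g : G} {y : G} :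
    y • (QuotientGroup.mk g : G ⧸ NJ θ) = QuotientGroup.mk g ↔ g⁻¹ * y * g ∈ NJ θ := by
  show (QuotientGroup.mk (y * g) : G ⧸ NJ θ) = QuotientGroup.mk g ↔ _
  rw [eq_comm, QuotientGroup.eq, ← mul_assoc]

omit C in
theorem inv_mem_J {g : G} {v : V} : g⁻¹ * θ v⁻¹ * g = (g⁻¹ * θ v * g)⁻¹ := by
  rw [map_inv]; group

/-- `J` is a TI subgroup. -/
theorem ti [Finite G] (hsmall : ∀ u, u ≠ 1 → cg θ ![u] ≤ NJ θ) {g : G} {u v : V} (hu : u ≠ 1)
    (h : g * θ v * g⁻¹ = θ u) : g ∈ NJ θ := by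
  refine mem_NJ_of_map (C.eq_J_of_le ?_ (C.J_isPGroup.map _) ?_ ?_)
  · rintro _ ⟨_, ⟨w, rfl⟩, rfl⟩
    refine hsmall u hu (mem_cg_one.2 ?_)
    show g * θ w * g⁻¹ * θ u = θ u * (g * θ w * g⁻¹)
    rw [← h, conj_mul, conj_mul, commute_J]
  · rintro _ ⟨_, ⟨a, rfl⟩, rfl⟩ _ ⟨_, ⟨b, rfl⟩, rfl⟩
    simp only [← map_mul]
    rw [mul_comm]
  · rw [Subgroup.card_map_of_injective (MulEquiv.injective _), C.card_J]

section

variable [Finite G] {k : Fin 4} (hk : ∀ w, Lift θ w ↔ inQ k w = true)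
  (hsmall : ∀ u, u ≠ 1 → cg θ ![u] ≤ NJ θ)
include hk hsmall

theorem refl_conj {t : G} (ht : Acts θ t tau) (ht1 : t * t = 1) {r : G} (hr : IsRefl θ k r) :
    ∃ m ∈ NJ θ, r = m * t * m⁻¹ := by
  obtain ⟨hr1, w, hw, hrw⟩ := hr
  obtain ⟨a, ha, haw⟩ := (cls_iff k w).1 hw
  obtain ⟨n, hn⟩ := (hk a).2 ha
  have hni : Acts θ n⁻¹ a⁻¹ := fun v => by
    have h := hn (act a⁻¹ v)
    rw [act_act_inv] at h
    rw [← h]; group
  have hs : Acts θ (n * t * n⁻¹) w := haw ▸ acts_mul (acts_mul hn ht) hni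
  obtain ⟨c, -, -, hc⟩ := C.involution_conj hrw hs hr1 (by rw [conj_mul, ht1, mul_one, mul_inv_cancel])
  exact ⟨θ (c ^ 2) * n, mul_mem (J_le_NJ ⟨_, rfl⟩) (acts_mem hn), by rw [hc]; group⟩

theorem refl_cent {r : G} (hr : IsRefl θ k r) {g : G} (hg : g * r = r * g) : g ∈ NJ θ := by
  obtain ⟨t, ht, ht1⟩ := C.exists_refl
  obtain ⟨m, hm, rfl⟩ := C.refl_conj hk hsmall ht ht1 hr
  have h : m⁻¹ * g * m * t = t * (m⁻¹ * g * m) := by
    calc m⁻¹ * g * m * t = m⁻¹ * (g * (m * t * m⁻¹)) * m := by group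
      _ = m⁻¹ * (m * t * m⁻¹ * g) * m := by rw [hg]
      _ = _ := by group
  have h2 := mul_mem (mul_mem hm (C.cg_refl hk hsmall ht ht1 h)) (inv_mem hm)
  rwa [show m * (m⁻¹ * g * m) * m⁻¹ = g by group] at h2

theorem three_cent_refl {r : G} (hr : IsRefl θ k r) {y : G} (hy : y * r = r * y) (hy3 : y ^ 3 = 1) :
    y ∈ θ.range := by
  obtain ⟨w, hw⟩ := C.monomial y (C.refl_cent hk hsmall hr hy)
  obtain ⟨-, u, hu, hru⟩ := hr
  have hc : w * w * w = 1 := C.cube_of_pGroup hw (k := 1) (by simpa using hy3)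
  have hcomm : w * u = u * w := C.acts_unique (hy ▸ acts_mul hw hru) (acts_mul hru hw)
  exact C.mem_J_of_acts_one ((cls_facts k u hu).2.2.2 w hc hcomm ▸ hw)

/-- A reflection of another conjugate lying in the normaliser inverts `J`. -/
theorem extra_neg {g r : G} (hr : IsRefl θ k r) (hg : g ∉ NJ θ) (hmem : g * r * g⁻¹ ∈ NJ θ) :
    Acts θ (g * r * g⁻¹) neg := by
  obtain ⟨w, hw⟩ := C.monomial _ hmem
  have h2 : w * w = 1 := C.acts_unique (n := 1)
    (by have h := acts_mul hw hw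
        rwa [conj_mul, hr.1, mul_one, mul_inv_cancel] at h) acts_one
  rw [invol_neg w h2 fun v hv => ?_] at hw
  · exact hw
  by_contra hv1
  have hc := (C.acts_commute hw v).2 hv
  have hy : g⁻¹ * θ v * g * r = r * (g⁻¹ * θ v * g) := by
    calc g⁻¹ * θ v * g * r = g⁻¹ * (θ v * (g * r * g⁻¹)) * g := by group
      _ = g⁻¹ * (g * r * g⁻¹ * θ v) * g := by rw [hc]
      _ = _ := by group
  obtain ⟨v', hv'⟩ := C.three_cent_refl hk hsmall hr hy (by
    rw [show g⁻¹ * θ v * g = g⁻¹ * θ v * (g⁻¹)⁻¹ by group, conj_pow, ← map_pow, cube_eq_one, map_one,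
      mul_one, mul_inv_cancel])
  exact hg (C.ti hsmall hv1 (g := g) (v := v') (by rw [hv']; group))

/-- Such a reflection makes the coset bad, with the central element fixing it. -/
theorem extra_bad {g r : G} (hr : IsRefl θ k r) (hg : g ∉ NJ θ) (hmem : g * r * g⁻¹ ∈ NJ θ) :
    θ vx • (QuotientGroup.mk g : G ⧸ NJ θ) = QuotientGroup.mk g ∧
      ∃ (y : G) (v : V), y ≠ 1 ∧ y = g * θ v * g⁻¹ ∧ Acts θ y cyc := by
  have hneg := C.extra_neg hk hsmall hr hg hmem
  obtain ⟨n1, n2, n3, n4, n5, n6, -, -⟩ := neg_facts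
  obtain ⟨m, hm, hme⟩ := C.lift_commute hneg (by rw [conj_mul, hr.1, mul_one, mul_inv_cancel])
    (C.perm cyc n4) n1.symm
  have hm3 : m ^ 3 = 1 := by
    have h := acts_mul (acts_mul hm hm) hm
    rw [n2, ← pow_three'] at h
    obtain ⟨c, hc⟩ := C.mem_J_of_acts_one h
    have h1 : m ^ 3 * (g * r * g⁻¹) = g * r * g⁻¹ * m ^ 3 := (Commute.pow_left hme 3).eq
    rw [← hc] at h1
    have h2 : c⁻¹ = c := (n6 c).symm.trans ((C.acts_commute hneg c).1 h1.symm)
    rw [← hc, show c = 1 from Classical.byContradiction fun h => ne_inv_V c h h2.symm, map_one]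
  have hm1 : m ≠ 1 := fun h => n3 (C.acts_unique (n := (1 : G)) (h ▸ hm) acts_one)
  obtain ⟨v, hv⟩ := C.three_cent_refl hk hsmall hr (y := g⁻¹ * m * g) (by
    calc g⁻¹ * m * g * r = g⁻¹ * (m * (g * r * g⁻¹)) * g := by group
      _ = g⁻¹ * (g * r * g⁻¹ * m) * g := by rw [hme]
      _ = _ := by group) (by
    rw [show g⁻¹ * m * g = g⁻¹ * m * (g⁻¹)⁻¹ by group, conj_pow, hm3, mul_one, mul_inv_cancel])
  have hy : m = g * θ v * g⁻¹ := by rw [hv]; group
  refine ⟨fixes_iff.2 (hsmall v (fun h => hm1 (by rw [hy, h, map_one]; group)) (mem_cg_one.2 ?_)),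
    m, v, hm1, hy, hm⟩
  have hc := (C.acts_commute hm vx).2 n4
  rw [hy] at hc
  calc g⁻¹ * θ vx * g * θ v = g⁻¹ * (θ vx * (g * θ v * g⁻¹)) * g := by group
    _ = g⁻¹ * (g * θ v * g⁻¹ * θ vx) * g := by rw [hc]
    _ = _ := by group

/-- Facts on a swap of two conjugates. -/
theorem swap_data {t0 : G} (ht0 : t0 * t0 = 1) (hout : t0 ∉ NJ θ) {a : V} (ha : a ≠ 1)
    (hmem : t0 * θ a * t0 ∈ NJ θ) :
    ∃ w, Acts θ (t0 * θ a * t0) w ∧ w * w * w = 1 ∧ w ≠ 1 ∧ act w a = a := by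
  obtain ⟨w, hw⟩ := C.monomial _ hmem
  have hinv : t0⁻¹ = t0 := inv_eq_of_mul_eq_one_right ht0
  have e3 : (t0 * θ a * t0) ^ 3 = 1 := by
    rw [show t0 * θ a * t0 = t0 * θ a * t0⁻¹ by rw [hinv], conj_pow, ← map_pow, cube_eq_one,
      map_one, mul_one, mul_inv_cancel]
  refine ⟨w, hw, C.cube_of_pGroup hw (k := 1) (by simpa using e3), fun h => ?_, ?_⟩
  · obtain ⟨v, hv⟩ := C.mem_J_of_acts_one (h ▸ hw)
    refine hout (C.ti hsmall (g := t0) (u := v) (v := a) (fun e => ha (C.inj ?_)) ?_)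
    · rw [e, map_one] at hv
      rw [map_one]
      calc θ a = t0 * (t0 * θ a * t0) * t0 := by
            rw [show t0 * (t0 * θ a * t0) * t0 = t0 * t0 * θ a * (t0 * t0) by group, ht0, one_mul,
              mul_one]
        _ = 1 := by rw [← hv, mul_one, ht0]
    · rw [hv, hinv]
  · -- the commutator lies in both conjugates
    set y := t0 * θ a * t0 with hy
    have hb : ∀ b, b = y * θ a * y⁻¹ * (θ a)⁻¹ → t0 * b * t0 ∈ θ.range := by
      rintro b rfl
      have e : t0 * (y * θ a * y⁻¹ * (θ a)⁻¹) * t0 = θ a * (y * (θ a)⁻¹ * y⁻¹) := by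
        rw [hy]
        calc t0 * (t0 * θ a * t0 * θ a * (t0 * θ a * t0)⁻¹ * (θ a)⁻¹) * t0
            = (t0 * t0) * θ a * (t0 * θ a * t0⁻¹) * (θ a)⁻¹ * (t0⁻¹ * (θ a)⁻¹ * t0) := by group
          _ = θ a * (t0 * θ a * t0) * (θ a)⁻¹ * (t0 * (θ a)⁻¹ * t0) := by rw [ht0, hinv, one_mul]
          _ = _ := by rw [mul_inv_rev, mul_inv_rev, hinv]; group
      rw [e]
      exact mul_mem ⟨a, rfl⟩ ((Subgroup.mem_normalizer_iff.1 hmem _).1 (inv_mem ⟨a, rfl⟩))
    obtain ⟨v, hv⟩ := hb _ rfl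
    have h2 : θ (act w a * a⁻¹) = y * θ a * y⁻¹ * (θ a)⁻¹ := by rw [map_mul, map_inv, ← hw]
    have h3 : t0 * θ (act w a * a⁻¹) * t0⁻¹ = θ v := by rw [h2, hinv, hv]
    by_cases hv1 : v = 1
    · rw [hv1, map_one, conj_eq_one_iff] at h3
      have h4 : act w a * a⁻¹ = 1 := C.inj (h3.trans (map_one θ).symm)
      exact mul_inv_eq_one.1 h4
    · exact absurd (C.ti hsmall hv1 h3) hout

/-- Few inverted elements in a bad intersection. -/
theorem bad_bound {t0 : G} (ht0 : t0 * t0 = 1) (hout : t0 ∉ NJ θ) {a : V} (ha : a ≠ 1)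
    (hmem : t0 * θ a * t0 ∈ NJ θ) (S : Finset G)
    (hS : ∀ d ∈ S, d ∈ NJ θ ∧ t0 * d * t0 = d⁻¹) : S.card ≤ 6 := by
  classical
  have hinv : t0⁻¹ = t0 := inv_eq_of_mul_eq_one_right ht0
  obtain ⟨w, hw, hw3, hw1, hwa⟩ := C.swap_data hk hsmall ht0 hout ha hmem
  set y := t0 * θ a * t0 with hy
  -- an element of `J` sent into the normaliser
  have line : ∀ c : V, t0 * θ c * t0 ∈ NJ θ → ∃ i : Fin 3, c = a ^ i.val := by
    intro c hc
    by_cases hc1 : c = 1
    · exact ⟨0, by simp [hc1]⟩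
    obtain ⟨w', hw', -, -, -⟩ := C.swap_data hk hsmall ht0 hout hc1 hc
    have hcomm : Commute y (θ c) := by
      -- both lie in the intersection, and the commutator in both conjugates
      have hwc : act w c = c := by
        have e1 : t0 * (y * θ c * y⁻¹ * (θ c)⁻¹) * t0 ∈ θ.range := by
          have e : t0 * (y * θ c * y⁻¹ * (θ c)⁻¹) * t0 =
              θ a * ((t0 * θ c * t0) * (θ a)⁻¹ * (t0 * θ c * t0)⁻¹) := by
            rw [hy]
            calc t0 * (t0 * θ a * t0 * θ c * (t0 * θ a * t0)⁻¹ * (θ c)⁻¹) * t0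
                = (t0 * t0) * θ a * (t0 * θ c * t0⁻¹) * (θ a)⁻¹ * (t0⁻¹ * (θ c)⁻¹ * t0) := by group
              _ = θ a * (t0 * θ c * t0) * (θ a)⁻¹ * (t0 * (θ c)⁻¹ * t0) := by
                rw [ht0, hinv, one_mul]
              _ = _ := by rw [mul_inv_rev, mul_inv_rev, hinv]; group
          rw [e]
          exact mul_mem ⟨a, rfl⟩ ((Subgroup.mem_normalizer_iff.1 hc _).1 (inv_mem ⟨a, rfl⟩))
        obtain ⟨v, hv⟩ := e1
        have h2 : θ (act w c * c⁻¹) = y * θ c * y⁻¹ * (θ c)⁻¹ := by rw [map_mul, map_inv, ← hw]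
        have h3 : t0 * θ (act w c * c⁻¹) * t0⁻¹ = θ v := by rw [h2, hinv, hv]
        by_cases hv1 : v = 1
        · rw [hv1, map_one, conj_eq_one_iff] at h3
          exact mul_inv_eq_one.1 (C.inj (h3.trans (map_one θ).symm))
        · exact absurd (C.ti hsmall hv1 h3) hout
      exact (C.acts_commute hw c).2 hwc
    have hcard : ({1, a, a⁻¹} : Finset V) = Finset.univ.filter fun v => act w v = v := by
      refine Finset.eq_of_subset_of_card_le (fun v hv => ?_) ?_
      · simp only [Finset.mem_insert, Finset.mem_singleton] at hv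
        rcases hv with rfl | rfl | rfl <;>
          simp [act_one, act_inv, hwa]
      · rw [fixed_three w hw3 hw1, Finset.card_insert_of_notMem, Finset.card_insert_of_notMem,
          Finset.card_singleton] <;> simp [Ne.symm ha, ne_inv_V a ha, ha]
    have hmem' : c ∈ ({1, a, a⁻¹} : Finset V) := by
      rw [hcard]
      exact Finset.mem_filter.2 ⟨Finset.mem_univ _, (C.acts_commute hw c).1 hcomm.eq⟩
    simp only [Finset.mem_insert, Finset.mem_singleton] at hmem'
    rcases hmem' with h | h | h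
    · exact absurd h hc1
    · exact ⟨1, by rw [h]; simp⟩
    · refine ⟨2, ?_⟩
      rw [h, eq_comm, eq_inv_iff_mul_eq_one]
      show a ^ 2 * a = 1
      rw [← pow_succ, cube_eq_one]
  have hyJ : Commute (θ a) y := ((C.acts_commute hw a).2 hwa).symm
  -- the action on the two lines
  have sign : ∀ d ∈ S, ∃ e : ℤˣ, d * θ a * d⁻¹ = θ a ^ (e : ℤ) ∧ d * y * d⁻¹ = y ^ (e : ℤ) := by
    intro d hd
    obtain ⟨hdN, hdt⟩ := hS d hd
    have one : ∀ x ∈ NJ θ, t0 * x * t0 ∈ NJ θ →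
        ∃ e : ℤˣ, x * θ a * x⁻¹ = θ a ^ (e : ℤ) := by
      intro x hx hx'
      obtain ⟨u, hu⟩ := C.monomial x hx
      have hmem' : t0 * θ (act u a) * t0 ∈ NJ θ := by
        rw [← hu, show t0 * (x * θ a * x⁻¹) * t0 = (t0 * x * t0⁻¹) * (t0 * θ a * t0⁻¹) *
            (t0 * x * t0⁻¹)⁻¹ * (t0 * t0) by group, hinv, ht0, mul_one]
        exact mul_mem (mul_mem hx' hmem) (inv_mem hx')
      obtain ⟨i, hi⟩ := line _ hmem'
      have hne : act u a ≠ 1 := fun h => ha (by rw [← act_inv_act u a, h, act_one])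
      fin_cases i
      · exact absurd (hi.trans (pow_zero a)) hne
      · exact ⟨1, by rw [hu a, hi]; simp⟩
      · refine ⟨-1, ?_⟩
        rw [hu a, hi, Units.val_neg, Units.val_one, zpow_neg, zpow_one, eq_inv_iff_mul_eq_one,
          map_pow]
        show θ a ^ 2 * θ a = 1
        rw [← pow_succ, ← map_pow, cube_eq_one, map_one]
    obtain ⟨e, he⟩ := one d hdN (by rw [hdt]; exact inv_mem hdN)
    obtain ⟨e', he'⟩ := one d⁻¹ (inv_mem hdN) (by
      rw [show t0 * d⁻¹ * t0 = (t0⁻¹ * d * t0⁻¹)⁻¹ by group, hinv, hdt, inv_inv]; exact hdN)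
    have hdy : d * y * d⁻¹ = y ^ (e' : ℤ) := by
      have h1 : d = (t0 * d * t0)⁻¹ := by rw [hdt, inv_inv]
      rw [hy]
      calc d * (t0 * θ a * t0) * d⁻¹ = (t0 * d * t0)⁻¹ * (t0 * θ a * t0) * (t0 * d * t0) := by
            rw [← h1, hdt]
        _ = t0 * (d⁻¹ * θ a * d⁻¹⁻¹) * t0 := by
            rw [mul_inv_rev, mul_inv_rev, hinv, inv_inv]
            calc t0 * (d⁻¹ * t0) * (t0 * θ a * t0) * (t0 * d * t0)
                = t0 * d⁻¹ * (t0 * t0) * θ a * (t0 * t0) * d * t0 := by group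
              _ = _ := by rw [ht0]; group
        _ = t0 * θ a ^ (e' : ℤ) * t0 := by rw [he']
        _ = _ := by
            rw [show t0 * θ a * t0 = t0 * θ a * t0⁻¹ by rw [hinv], conj_zpow, hinv]
    -- both signs agree
    refine ⟨e, he, ?_⟩
    have h2 : θ a = θ a ^ ((e : ℤ) * e') := by
      calc θ a = d⁻¹ * (d * θ a * d⁻¹) * d⁻¹⁻¹ := by group
        _ = (d⁻¹ * θ a * d⁻¹⁻¹) ^ (e : ℤ) := by rw [he, conj_zpow]
        _ = _ := by rw [he', ← zpow_mul, mul_comm]
    rcases Int.units_eq_one_or e with rfl | rfl <;> rcases Int.units_eq_one_or e' with rfl | rfl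
    · exact hdy
    · exfalso
      simp at h2
      exact ne_inv_V a ha (C.inj (h2.trans (map_inv θ a).symm))
    · exfalso
      simp at h2
      exact ne_inv_V a ha (C.inj (h2.trans (map_inv θ a).symm))
    · exact hdy
  choose! e he hey using sign
  -- two elements with the same signs differ by an element fixed by the swap
  have fibre : ∀ ε : ℤˣ, (S.filter fun d => e d = ε).card ≤ 3 := by
    intro ε
    rcases (S.filter fun d => e d = ε).eq_empty_or_nonempty with h | ⟨d0, hd0⟩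
    · rw [h]; simp
    obtain ⟨hd0S, hd0e⟩ := Finset.mem_filter.1 hd0
    obtain ⟨hd0N, hd0t⟩ := hS d0 hd0S
    refine le_trans (Finset.card_le_card_of_surjOn
      (fun i : Fin 3 => if ε = 1 then θ a ^ i.val * (y ^ i.val)⁻¹ * d0 else θ a ^ i.val * y ^ i.val * d0)
      (s := Finset.univ) fun d hd => ?_) (by simp)
    obtain ⟨hdS, hde⟩ := Finset.mem_filter.1 hd
    obtain ⟨hdN, hdt⟩ := hS d hdS
    set f := d * d0⁻¹ with hf
    have hfN : f ∈ NJ θ := mul_mem hdN (inv_mem hd0N)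
    have hfa : f * θ a = θ a * f := by
      have h1 := he d hdS
      rw [hde, ← hd0e, ← he d0 hd0S] at h1
      have h6 : d * d0⁻¹ * (d0 * θ a * d0⁻¹) = d0 * θ a * d0⁻¹ * (d * d0⁻¹) := by
        calc d * d0⁻¹ * (d0 * θ a * d0⁻¹) = d * θ a * d⁻¹ * (d * d0⁻¹) := by group
          _ = _ := by rw [h1]
      have h7 : f * θ a ^ ((e d0 : ℤˣ) : ℤ) = θ a ^ ((e d0 : ℤˣ) : ℤ) * f := by
        rw [← he d0 hd0S]; exact h6
      have h8 := (Commute.zpow_right h7 ((e d0 : ℤˣ) : ℤ)).eq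
      rwa [← zpow_mul, ← Units.val_mul, Int.units_mul_self, Units.val_one, zpow_one] at h8
    have hfy : f * y = y * f := by
      have h1 := hey d hdS
      rw [hde, ← hd0e, ← hey d0 hd0S] at h1
      have h6 : d * d0⁻¹ * (d0 * y * d0⁻¹) = d0 * y * d0⁻¹ * (d * d0⁻¹) := by
        calc d * d0⁻¹ * (d0 * y * d0⁻¹) = d * y * d⁻¹ * (d * d0⁻¹) := by group
          _ = _ := by rw [h1]
      have h7 : f * y ^ ((e d0 : ℤˣ) : ℤ) = y ^ ((e d0 : ℤˣ) : ℤ) * f := by
        rw [← hey d0 hd0S]; exact h6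
      have h8 := (Commute.zpow_right h7 ((e d0 : ℤˣ) : ℤ)).eq
      rwa [← zpow_mul, ← Units.val_mul, Int.units_mul_self, Units.val_one, zpow_one] at h8
    -- `f` is in the elementary subgroup spanned by the two lines
    obtain ⟨u, hu⟩ := C.monomial f hfN
    have hu_w : u * w = w * u := C.acts_unique (hfy ▸ acts_mul hu hw) (acts_mul hw hu)
    have hua : act u a = a := (C.acts_commute hu a).1 hfa
    obtain ⟨j, hj⟩ : ∃ j : Fin 3, u = w ^ j.val := by
      rcases cent_three w hw3 hw1 a ha hwa u hu_w hua with h | h | h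
      · exact ⟨0, h.trans (pow_zero w).symm⟩
      · exact ⟨1, h.trans (pow_one w).symm⟩
      · exact ⟨2, h.trans (pow_two w).symm⟩
    have hypow : ∀ n : ℕ, Acts θ (y ^ n) (w ^ n) := by
      intro n
      induction n with
      | zero => simpa using acts_one
      | succ n ih => rw [pow_succ, pow_succ]; exact acts_mul ih hw
    have hyi : Acts θ (y ^ j.val)⁻¹ (w ^ j.val)⁻¹ := fun v => by
      have h := hypow j.val (act (w ^ j.val)⁻¹ v)
      rw [act_act_inv] at h
      rw [← h]; group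
    obtain ⟨c, hc⟩ := C.mem_J_of_acts_one (n := f * (y ^ j.val)⁻¹)
      (by have h := acts_mul hu hyi; rwa [hj, mul_inv_cancel] at h)
    have hcy : Commute y (θ c) := by
      rw [hc]; exact ((Commute.mul_left hfy ((Commute.refl y).pow_left _).inv_left)).symm
    have hct : t0 * θ c * t0 ∈ NJ θ := by
      rw [hc, hf]
      have e1 : t0 * (d * d0⁻¹ * (y ^ j.val)⁻¹) * t0 =
          (t0 * d * t0⁻¹) * (t0 * d0 * t0⁻¹)⁻¹ * (t0 * y ^ j.val * t0⁻¹)⁻¹ * (t0 * t0) := by group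
      rw [e1, ← conj_pow, hinv, ht0, mul_one, hdt, hd0t, inv_inv, show t0 * y * t0 = θ a by
        rw [hy, show t0 * (t0 * θ a * t0) * t0 = (t0 * t0) * θ a * (t0 * t0) by group, ht0, one_mul,
          mul_one]]
      exact mul_mem (mul_mem (inv_mem hdN) hd0N) (inv_mem (pow_mem (J_le_NJ ⟨a, rfl⟩) _))
    obtain ⟨i, hi⟩ := line c hct
    have hfe : f = θ a ^ i.val * y ^ j.val := by
      rw [← map_pow, ← hi, hc, inv_mul_cancel_right]
    -- the swap
    have hswap : t0 * f * t0 = y ^ i.val * θ a ^ j.val := by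
      rw [hfe, show t0 * (θ a ^ i.val * y ^ j.val) * t0 =
        (t0 * θ a ^ i.val * t0⁻¹) * (t0 * y ^ j.val * t0⁻¹) * (t0 * t0) by group, ht0, mul_one,
        ← conj_pow, ← conj_pow, hinv, show t0 * y * t0 = θ a by
          rw [hy, show t0 * (t0 * θ a * t0) * t0 = (t0 * t0) * θ a * (t0 * t0) by group, ht0, one_mul,
            mul_one]]
    have hconj : t0 * f * t0 = d⁻¹ * d0 := by
      rw [hf, show t0 * (d * d0⁻¹) * t0 = (t0 * d * t0⁻¹) * (t0 * d0 * t0⁻¹)⁻¹ * (t0 * t0) by group,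
        hinv, ht0, mul_one, hdt, hd0t, inv_inv]
    have hd : d = f * d0 := by rw [hf, inv_mul_cancel_right]
    have hrel : t0 * f * t0 = d0⁻¹ * f⁻¹ * d0 := by rw [hconj, hd, mul_inv_rev]
    -- conjugation by `d0⁻¹` is the sign
    have hconj0 : ∀ n : ℕ, d0⁻¹ * (θ a ^ n) * d0 = (θ a ^ n) ^ (ε : ℤ) ∧
        d0⁻¹ * (y ^ n) * d0 = (y ^ n) ^ (ε : ℤ) := by
      intro n
      have key : ∀ z : G, d0 * z * d0⁻¹ = z ^ (ε : ℤ) → d0⁻¹ * z ^ n * d0 = (z ^ n) ^ (ε : ℤ) := by
        intro z hz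
        have h1 : d0 * (z ^ n) ^ (ε : ℤ) * d0⁻¹ = z ^ n := by
          rw [← conj_zpow, ← conj_pow, hz, ← zpow_natCast, ← zpow_natCast, ← zpow_mul, ← zpow_mul]
          congr 1
          rw [mul_comm ((n : ℕ) : ℤ) (ε : ℤ), ← mul_assoc, ← Units.val_mul, Int.units_mul_self,
            Units.val_one, one_mul]
        calc d0⁻¹ * z ^ n * d0 = d0⁻¹ * (d0 * (z ^ n) ^ (ε : ℤ) * d0⁻¹) * d0 := by rw [h1]
          _ = _ := by group
      exact ⟨key _ (hd0e ▸ he d0 hd0S), key _ (hd0e ▸ hey d0 hd0S)⟩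
    have hij : (i.val + (if ε = 1 then 1 else 2) * j.val) % 3 = 0 := by
      have hlhs : Acts θ (t0 * f * t0) (w ^ i.val) := by
        rw [hswap]
        have h := acts_mul (hypow i.val) (acts_J (θ := θ) (a ^ j.val))
        rwa [map_pow, mul_one] at h
      have key : ∀ m : ℕ, w ^ m = 1 → m % 3 = 0 := by
        intro m hm
        have h := orderOf_dvd_of_pow_eq_one hm
        haveI : Fact (Nat.Prime 3) := ⟨Nat.prime_three⟩
        rw [orderOf_eq_prime (show w ^ 3 = 1 by rw [pow_three']; exact hw3) hw1] at h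
        omega
      rcases Int.units_eq_one_or ε with hε | hε
      · rw [if_pos hε]
        refine key _ ?_
        have hr : t0 * f * t0 = (θ a ^ i.val * y ^ j.val)⁻¹ := by
          rw [hrel, hfe, show d0⁻¹ * (θ a ^ i.val * y ^ j.val)⁻¹ * d0 =
            ((d0⁻¹ * θ a ^ i.val * d0) * (d0⁻¹ * y ^ j.val * d0))⁻¹ by group, (hconj0 _).1,
            (hconj0 _).2, hε, Units.val_one, zpow_one, zpow_one]
        have h1 := acts_mul hlhs (acts_mul (acts_J (θ := θ) (a ^ i.val)) (hypow j.val))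
        rw [map_pow, one_mul, hr, inv_mul_cancel, ← pow_add] at h1
        rw [one_mul]
        exact C.acts_unique h1 acts_one
      · rw [if_neg (by rw [hε]; decide)]
        refine key _ ?_
        have hr : t0 * f * t0 = θ a ^ i.val * y ^ j.val := by
          rw [hrel, hfe, show d0⁻¹ * (θ a ^ i.val * y ^ j.val)⁻¹ * d0 =
            (d0⁻¹ * y ^ j.val * d0)⁻¹ * (d0⁻¹ * θ a ^ i.val * d0)⁻¹ by group, (hconj0 _).1,
            (hconj0 _).2, hε]
          simp only [Units.val_neg, Units.val_one, zpow_neg, zpow_one, inv_inv]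
          exact ((hyJ.pow_pow i.val j.val).eq).symm
        have h2 : Acts θ (θ a ^ i.val * y ^ j.val) (w ^ j.val) := by
          have h := acts_mul (acts_J (θ := θ) (a ^ i.val)) (hypow j.val)
          rwa [map_pow, one_mul] at h
        have h1 := C.acts_unique (hr ▸ hlhs) h2
        rw [show i.val + 2 * j.val = i.val + j.val + j.val by omega, pow_add, pow_add, h1, ← pow_add,
          ← pow_add, show j.val + j.val + j.val = 3 * j.val by omega, pow_mul,
          show w ^ 3 = 1 by rw [pow_three']; exact hw3, one_pow]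
    refine ⟨i, Finset.mem_coe.2 (Finset.mem_univ _), ?_⟩
    have hy3 : y ^ 3 = 1 := by
      rw [hy, show t0 * θ a * t0 = t0 * θ a * t0⁻¹ by rw [hinv], conj_pow, ← map_pow, cube_eq_one,
        map_one, mul_one, mul_inv_cancel]
    dsimp only
    rw [hd, hfe]
    have hi3 := i.2
    have hj3 := j.2
    by_cases hε : ε = 1
    · rw [if_pos hε]
      rw [if_pos hε, one_mul] at hij
      suffices h : (y ^ i.val)⁻¹ = y ^ j.val by rw [h]
      rw [inv_eq_iff_mul_eq_one, ← pow_add]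
      have : 3 ∣ i.val + j.val := Nat.dvd_of_mod_eq_zero hij
      obtain ⟨q, hq⟩ := this
      rw [hq, pow_mul, hy3, one_pow]
    · rw [if_neg hε]
      rw [if_neg hε] at hij
      rw [show j.val = i.val by omega]
  calc S.card = ∑ ε : ℤˣ, (S.filter fun d => e d = ε).card :=
        Finset.card_eq_sum_card_fiberwise fun d _ => Finset.mem_univ _
    _ ≤ ∑ _ε : ℤˣ, 3 := Finset.sum_le_sum fun ε _ => fibre ε
    _ = 6 := by simp

end

end Loc

end Cfsg.Agent.S9Three
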