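import Cfsg.Agent.Lib.SelfThree.Main
import Cfsg.Agent.Lib.SixCent.Omega
import Cfsg.Agent.Lib.Transfer.Basic
import Cfsg.Agent.Lib.Solvable.Coprime
import Mathlib.GroupTheory.PGroup
import Mathlib.GroupTheory.Sylow

/-!
S3343: a normal subgroup with a self-centralising subgroup of order three, acted on by a 3-group
which normalises no nontrivial subgroup of order prime to three.
-/

set_option autoImplicit false
set_option maxRecDepth 20000
set_option linter.style.haveILetI false

namespace Cfsg.Agent.S9Three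

open Cfsg

universe u

/-- A 3-group fixes a Sylow subgroup when their number is prime to three. -/
theorem exists_fixed_sylow {Y : Type u} [Group Y] [Finite Y] {K P : Subgroup Y} [K.Normal]
    (hP : IsPGroup 3 P) {q : ℕ} [Fact q.Prime] (hn : ¬ 3 ∣ Nat.card (Sylow q K)) :
    ∃ S : Sylow q K, ∀ p ∈ P,
      ((S : Subgroup K).map K.subtype).map (MulAut.conj p).toMonoidHom =
        (S : Subgroup K).map K.subtype := by
  haveI : Fact (Nat.Prime 3) := ⟨Nat.prime_three⟩
  let ψ : P →* MulAut K := (MulAut.conjNormal (H := K)).comp P.subtype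
  letI : MulAction P (Sylow q K) := MulAction.compHom _ ψ
  have h := hP.card_modEq_card_fixedPoints (Sylow q K)
  have hne : Nat.card (MulAction.fixedPoints P (Sylow q K)) ≠ 0 := by
    intro h0
    rw [h0] at h
    exact hn (Nat.modEq_zero_iff_dvd.1 h)
  obtain ⟨⟨S, hS⟩⟩ := (Nat.card_ne_zero.1 hne).1
  refine ⟨S, fun p hp => ?_⟩
  have h1 : (ψ ⟨p, hp⟩ • S : Sylow q K) = S := hS ⟨p, hp⟩
  conv_rhs => rw [← h1, Sylow.pointwise_smul_def]
  refine Subgroup.ext fun y => ⟨?_, ?_⟩
  · rintro ⟨_, ⟨w, hw, rfl⟩, rfl⟩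
    exact ⟨_, ⟨w, hw, rfl⟩, rfl⟩
  · rintro ⟨_, ⟨w, hw, rfl⟩, rfl⟩
    exact ⟨_, ⟨w, hw, rfl⟩, rfl⟩

/-- The Sylow 2-subgroups of `A₅` are five in number, in particular not a multiple of three. -/
theorem a5_syl2 : ¬ 3 ∣ Nat.card (Sylow 2 (alternatingGroup (Fin 5))) := by
  intro h3
  let V : Subgroup (alternatingGroup (Fin 5)) :=
    { carrier := {x | (x : Equiv.Perm (Fin 5)) 4 = 4 ∧ x * x = 1}
      one_mem' := ⟨rfl, one_mul 1⟩
      mul_mem' := fun {a b} ha hb => (by decide +kernel : ∀ a b : alternatingGroup (Fin 5),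
        (a : Equiv.Perm (Fin 5)) 4 = 4 ∧ a * a = 1 → (b : Equiv.Perm (Fin 5)) 4 = 4 ∧ b * b = 1 →
          ((a * b : alternatingGroup (Fin 5)) : Equiv.Perm (Fin 5)) 4 = 4 ∧ a * b * (a * b) = 1)
        a b ha hb
      inv_mem' := fun {a} ha => by
        have e : a⁻¹ = a := inv_eq_of_mul_eq_one_right ha.2
        show _ ∧ _
        rw [e]; exact ha }
  have hmemV : ∀ x, x ∈ V ↔ ((x : Equiv.Perm (Fin 5)) 4 = 4 ∧ x * x = 1) := fun _ => Iff.rfl
  have h60 : Nat.card (alternatingGroup (Fin 5)) = 60 := by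
    rw [Nat.card_eq_fintype_card]; decide +kernel
  have hV4 : Nat.card V = 2 ^ 2 := by
    rw [Nat.subtype_card (Finset.univ.filter fun x : alternatingGroup (Fin 5) =>
      (x : Equiv.Perm (Fin 5)) 4 = 4 ∧ x * x = 1) (by simp [hmemV])]
    decide +kernel
  have hidx : V.index = 15 := by
    have := V.card_mul_index
    rw [hV4, h60] at this
    omega
  haveI : Fact (Nat.Prime 2) := ⟨Nat.prime_two⟩
  let S : Sylow 2 (alternatingGroup (Fin 5)) :=
    (IsPGroup.of_card hV4).toSylow (by rw [hidx]; norm_num)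
  rw [Sylow.card_eq_index_normalizer S] at h3
  let t : alternatingGroup (Fin 5) := ⟨Equiv.swap 0 1 * Equiv.swap 1 2, Equiv.Perm.mem_alternatingGroup.2 (by decide +kernel)⟩
  have ht : t ∈ Subgroup.normalizer ((S : Subgroup (alternatingGroup (Fin 5))) :
      Set (alternatingGroup (Fin 5))) := by
    refine Subgroup.mem_normalizer_iff.2 fun x => ?_
    show x ∈ V ↔ t * x * t⁻¹ ∈ V
    rw [hmemV, hmemV]
    exact (by decide +kernel : ∀ x : alternatingGroup (Fin 5),
      ((x : Equiv.Perm (Fin 5)) 4 = 4 ∧ x * x = 1) ↔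
      (((t * x * t⁻¹ : alternatingGroup (Fin 5)) : Equiv.Perm (Fin 5)) 4 = 4 ∧
        t * x * t⁻¹ * (t * x * t⁻¹) = 1)) x
  have h1 := Subgroup.card_mul_index
    (Subgroup.normalizer ((S : Subgroup (alternatingGroup (Fin 5))) :
      Set (alternatingGroup (Fin 5))))
  have h2 := Subgroup.orderOf_dvd_natCard _ ht
  rw [show orderOf t = 3 from by
    haveI : Fact (Nat.Prime 3) := ⟨Nat.prime_three⟩
    exact orderOf_eq_prime (by decide +kernel) (by decide +kernel)] at h2
  rw [h60] at h1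
  simp only [Sylow.coe_coe] at h1 h2 h3
  obtain ⟨a, ha⟩ := h2
  obtain ⟨b, hb⟩ := h3
  rw [ha, hb] at h1
  have : 9 ∣ 60 := ⟨a * b, by rw [← h1]; ring⟩
  omega

/-- `PSL₂(7)` has one or eight Sylow 7-subgroups. -/
theorem psl7_syl7 : ¬ 3 ∣ Nat.card (Sylow 7
    (Matrix.ProjectiveSpecialLinearGroup (Fin 2) (ZMod 7))) := by
  haveI : Fact (Nat.Prime 7) := ⟨by norm_num⟩
  intro h3
  obtain ⟨S⟩ := (inferInstance : Nonempty (Sylow 7
    (Matrix.ProjectiveSpecialLinearGroup (Fin 2) (ZMod 7))))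
  have h := card_sylow_modEq_one 7 (Matrix.ProjectiveSpecialLinearGroup (Fin 2) (ZMod 7))
  have hd := Sylow.card_dvd_index S
  have h1 := (S : Subgroup (Matrix.ProjectiveSpecialLinearGroup (Fin 2) (ZMod 7))).card_mul_index
  rw [Cfsg.Agent.SixCent.card_psl7] at h1
  have h7 := S.dvd_card_of_dvd_card (by rw [Cfsg.Agent.SixCent.card_psl7]; norm_num)
  obtain ⟨a, ha⟩ := h7
  have hidx : (S : Subgroup (Matrix.ProjectiveSpecialLinearGroup (Fin 2) (ZMod 7))).index ∣ 24 :=
    ⟨a, by rw [ha] at h1; nlinarith⟩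
  have h24 := hd.trans hidx
  rw [Nat.ModEq] at h
  have hb : Nat.card (Sylow 7 (Matrix.ProjectiveSpecialLinearGroup (Fin 2) (ZMod 7))) ≤ 24 :=
    Nat.le_of_dvd (by norm_num) h24
  interval_cases hc : Nat.card (Sylow 7 (Matrix.ProjectiveSpecialLinearGroup (Fin 2) (ZMod 7))) <;>
    omega

/-- The number of Sylow subgroups is invariant under isomorphisms. -/
theorem card_syl_congr {A : Type u} {B : Type*} [Group A] [Finite A] [Group B] {q : ℕ} [Fact q.Prime]
    (e : A ≃* B) : Nat.card (Sylow q A) = Nat.card (Sylow q B) :=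
  Nat.card_eq_of_bijective (Sylow.mapSurjective (p := q) (f := e.toMonoidHom) e.surjective)
    ⟨fun S T h => Sylow.ext (Subgroup.map_injective e.injective (congrArg Sylow.toSubgroup h)),
      Sylow.mapSurjective_surjective e.surjective q⟩

/-- With no invariant subgroup of order prime to three, a self-centralising subgroup of order
three is normal. -/
theorem self_three {Y : Type u} [Group Y] [Finite Y] (K : Subgroup Y) [K.Normal] {z : Y}
    (hzK : z ∈ K) (hz : orderOf z = 3) (hC : ∀ k ∈ K, k * z = z * k → k ∈ Subgroup.zpowers z)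
    {P : Subgroup Y} (hP : IsPGroup 3 P)
    (hsig : ∀ R : Subgroup Y, R ≤ K → (Nat.card R).Coprime 3 →
      (∀ p ∈ P, R.map (MulAut.conj p).toMonoidHom = R) → R = ⊥) :
    ∀ k ∈ K, k * z * k⁻¹ ∈ Subgroup.zpowers z := by
  classical
  haveI : Fact (Nat.Prime 3) := ⟨Nat.prime_three⟩
  let z' : K := ⟨z, hzK⟩
  have hz' : orderOf z' = 3 := by rw [← Subgroup.orderOf_coe]; exact hz
  have hcz : Subgroup.centralizer ({z'} : Set K) = Subgroup.zpowers z' := by
    refine le_antisymm (fun k hk => ?_)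
      (Subgroup.zpowers_le.2 (Subgroup.mem_centralizer_singleton_iff.2 rfl))
    obtain ⟨i, hi⟩ := hC k k.2 (congrArg Subtype.val (Subgroup.mem_centralizer_singleton_iff.1 hk))
    exact ⟨i, Subtype.ext (by simpa using hi)⟩
  have hcore : Cfsg.pPrimeCore 3 K = ⊥ := by
    haveI := PBasic.pPrimeCore_characteristic 3 K
    haveI : ((Cfsg.pPrimeCore 3 K).map K.subtype).Normal := inferInstance
    refine (Subgroup.map_eq_bot_iff_of_injective _ K.subtype_injective).1
      (hsig _ (Subgroup.map_subtype_le _) ?_ fun p _ => ?_)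
    · rw [Subgroup.card_map_of_injective K.subtype_injective]
      exact PBasic.pPrimeCore_coprime 3 K
    · refine le_antisymm ?_ fun r hr => ?_
      · rintro _ ⟨r, hr, rfl⟩
        exact Subgroup.Normal.conj_mem inferInstance r hr p
      · have hc := Subgroup.Normal.conj_mem
          (inferInstance : ((Cfsg.pPrimeCore 3 K).map K.subtype).Normal) r hr p⁻¹
        rw [inv_inv] at hc
        exact ⟨p⁻¹ * r * p, hc, by simp [mul_assoc]⟩
  have noSyl : ∀ q : ℕ, [Fact q.Prime] → q ≠ 3 → q ∣ Nat.card K →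
      ¬ 3 ∣ Nat.card (Sylow q K) → False := by
    intro q _ hq hqK hn
    obtain ⟨S, hS⟩ := exists_fixed_sylow (Y := Y) hP hn
    obtain ⟨n, hn'⟩ := IsPGroup.iff_card.1 S.isPGroup'
    have h := hsig ((S : Subgroup K).map K.subtype) (Subgroup.map_subtype_le _) (by
      rw [Subgroup.card_map_of_injective K.subtype_injective, hn']
      exact Nat.Coprime.pow_left _ ((Nat.coprime_primes Fact.out Nat.prime_three).2 hq)) hS
    rw [Subgroup.map_eq_bot_iff_of_injective _ K.subtype_injective] at h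
    have h1 := S.dvd_card_of_dvd_card hqK
    rw [h, Subgroup.card_bot] at h1
    exact (Fact.out : q.Prime).one_lt.ne' (Nat.dvd_one.1 h1)
  rcases SelfThree.main (Nat.card K) K rfl z' hz' hcz with
    ⟨N, hN, -, hcop, hq⟩ | ⟨N, hN, -, hsq, ⟨e⟩⟩ | ⟨⟨e⟩⟩
  · obtain rfl : N = ⊥ := le_bot_iff.1 (hcore ▸ PBasic.le_pPrimeCore hN hcop)
    rw [Nat.card_congr QuotientGroup.quotientBot.toEquiv] at hq
    have hidx : (Subgroup.zpowers z').index ≤ 2 := by
      have h1 := (Subgroup.zpowers z').card_mul_index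
      rw [Nat.card_zpowers, hz'] at h1
      rcases hq with h | ⟨⟨e⟩⟩
      · omega
      · have h6 : Nat.card K = 6 := by
          rw [← Nat.card_congr QuotientGroup.quotientBot.toEquiv, Nat.card_congr e.toEquiv,
            Nat.card_perm, Nat.card_fin]
          rfl
        omega
    intro k hk
    have hnorm : (Subgroup.zpowers z').Normal := by
      rcases Nat.lt_or_ge (Subgroup.zpowers z').index 2 with h | h
      · have h0 := (Subgroup.zpowers z').index_ne_zero_of_finite
        rw [Subgroup.index_eq_one.1 (by omega : (Subgroup.zpowers z').index = 1)]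
        infer_instance
      · exact Subgroup.normal_of_index_eq_two (le_antisymm hidx h)
    obtain ⟨i, hi⟩ := hnorm.conj_mem z' (Subgroup.mem_zpowers z') ⟨k, hk⟩
    exact ⟨i, by simpa [z'] using congrArg Subtype.val hi⟩
  · have hNp : IsPGroup 2 N := fun n => ⟨1, Subtype.ext (by simpa using hsq n n.2)⟩
    obtain ⟨a, ha⟩ := IsPGroup.iff_card.1 hNp
    obtain rfl : N = ⊥ := le_bot_iff.1 (hcore ▸ PBasic.le_pPrimeCore hN (by
      rw [ha]; exact Nat.Coprime.pow_left _ (by norm_num)))
    exfalso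
    let e' : K ≃* alternatingGroup (Fin 5) := QuotientGroup.quotientBot.symm.trans e
    haveI : Fact (Nat.Prime 2) := ⟨Nat.prime_two⟩
    refine noSyl 2 (by norm_num) ?_ ?_
    · rw [Nat.card_congr e'.toEquiv, Nat.card_eq_fintype_card]
      decide +kernel
    · rw [card_syl_congr e']
      exact a5_syl2
  · exfalso
    haveI : Fact (Nat.Prime 7) := ⟨by norm_num⟩
    refine noSyl 7 (by norm_num) ?_ ?_
    · rw [Nat.card_congr e.toEquiv, SixCent.card_psl7]
      norm_num
    · rw [card_syl_congr e]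
      exact psl7_syl7

end Cfsg.Agent.S9Three
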