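import Cfsg.Agent.Lib.S9Three.ClassMain
import Cfsg.Agent.Lib.S9Three.Gen

/-!
S3343: the centraliser of three disjoint transpositions of six points is their product with the
symmetric group on the remaining three points.
-/

set_option autoImplicit false
set_option maxRecDepth 20000
set_option linter.style.haveILetI false

namespace Cfsg.Agent.S9Three

open Cfsg.Agent.ThreeTI.Cube (V)
open Cfsg.Agent.A9Three (six ce)
open Equiv

universe u

variable {G : Type u} [Group G]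

/-- The three transpositions. -/
def r3 : Fin 3 → Perm (Fin 6) := ![swap 0 3, swap 1 4, swap 2 5]

theorem r3_comm : ∀ i j, r3 i * r3 j = r3 j * r3 i := by decide +kernel

/-- The group of order eight spanned by the three transpositions. -/
def r8 (e : Fin 2 × Fin 2 × Fin 2) : Perm (Fin 6) :=
  r3 0 ^ e.1.val * r3 1 ^ e.2.1.val * r3 2 ^ e.2.2.val

theorem r8_facts : (∀ a b, ∃ c, r8 a * r8 b = r8 c) ∧ (∀ a, ∃ c, r8 a * r8 c = 1) ∧
    r8 (0, 0, 0) = 1 ∧ Function.Injective r8 ∧ (∀ a, ∀ i, r8 a * r3 i = r3 i * r8 a) ∧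
    (∀ s : Perm (Fin 6), (∀ i, s * r3 i = r3 i * s) → ∃ a, s = r8 a) ∧
    (∀ i, ∃ a, r3 i = r8 a) ∧ (∀ a, r8 a * r8 a = 1) := by decide +kernel

/-- The permutation `(0 1 2)(3 4 5)`. -/
def rot6 : Perm (Fin 6) := swap 0 1 * swap 1 2 * (swap 3 4 * swap 4 5)

theorem rot6_facts : (∀ i : Fin 6, m9 (inV (v1 * v2)) (ce i) = ce (rot6 i)) ∧
    (∀ a, ∃ b, rot6 * r8 a * rot6⁻¹ = r8 b) ∧ (∀ i : Fin 6, m9 mC1 (ce i) = ce i) ∧
    (∀ i : Fin 6, m9 (inV v3) (ce i) = ce i) := by decide +kernel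

theorem pair_span : ∀ i j : Fin 3, v3 ^ i.val * (v1 * v2) ^ j.val ≠ 1 →
    (j = 0 ∧ (v3 ^ i.val * (v1 * v2) ^ j.val = v3 ∨ v3 ^ i.val * (v1 * v2) ^ j.val = v3⁻¹)) ∨
      ¬ axis (v3 ^ i.val * (v1 * v2) ^ j.val) := by decide +kernel

theorem pair_not_cyclic : v1 * v2 ≠ 1 ∧ ∀ i : Fin 3, v1 * v2 ≠ v3 ^ i.val := by decide +kernel

theorem cyclic_false : ∀ (v : V) (i j : Fin 3), v ^ i.val = v3 → v ^ j.val ≠ v1 * v2 := by
  decide +kernel

theorem mC1_inverts : act mC1.right v3 = v3⁻¹ := by decide +kernel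

namespace Base

variable {θ : V →* G} {ι : Mw →* G} (B : Base θ ι) {Ψ : Perm (Fin 6) →* G} (S : Psi6 θ ι Ψ)
include B S

omit S in
theorem v3_cube : θ v3 ^ 3 = 1 := by rw [← map_pow, cube_eq_one, map_one]

omit B in
theorem v3_comm (s : Perm (Fin 6)) (n : ℕ) : Commute (θ v3 ^ n) (Ψ s) :=
  (show Commute (θ v3) (Ψ s) from (S.le s).symm).pow_left n

/-- The centraliser of three disjoint transpositions. -/
theorem cent_eight [Finite G] {g : G} (hg : ∀ i, g * Ψ (r3 i) = Ψ (r3 i) * g) :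
    ∃ a, ∃ i : Fin 3, ∃ e : Fin 2, g = Ψ (r8 a) * ι (inV v3 ^ i.val * mC1 ^ e.val) := by
  classical
  haveI : Fact (Nat.Prime 3) := ⟨Nat.prime_three⟩
  obtain ⟨r8m, r8i, r81, r8inj, r8c, r8cent, r8r, r8sq⟩ := r8_facts
  let W8 : Subgroup G :=
    { carrier := {x | ∃ a, Ψ (r8 a) = x}
      one_mem' := ⟨(0, 0, 0), by rw [r81, map_one]⟩
      mul_mem' := by
        rintro _ _ ⟨a, rfl⟩ ⟨b, rfl⟩
        obtain ⟨c, hc⟩ := r8m a b
        exact ⟨c, by rw [← hc, map_mul]⟩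
      inv_mem' := by
        rintro _ ⟨a, rfl⟩
        exact ⟨a, (inv_eq_of_mul_eq_one_right (by rw [← map_mul, r8sq, map_one])).symm⟩ }
  have hW8 : ∀ x, x ∈ W8 ↔ ∃ a, Ψ (r8 a) = x := fun _ => Iff.rfl
  let Z : Subgroup G := Subgroup.centralizer (Set.range fun i => Ψ (r3 i))
  have hZ : ∀ x, x ∈ Z ↔ ∀ i, x * Ψ (r3 i) = Ψ (r3 i) * x := fun x =>
    ⟨fun h i => (Subgroup.mem_centralizer_iff.1 h _ ⟨i, rfl⟩).symm,
      fun h => Subgroup.mem_centralizer_iff.2 fun _ ⟨i, hi⟩ => hi ▸ (h i).symm⟩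
  have hWZ : W8 ≤ Z := by
    rintro _ ⟨a, rfl⟩
    exact (hZ _).2 fun i => by rw [← map_mul, ← map_mul, r8c]
  have hcomm : ∀ z ∈ Z, ∀ x ∈ W8, z * x = x * z := by
    rintro z hz _ ⟨a, rfl⟩
    have h := (hZ z).1 hz
    have key : ∀ n : ℕ, ∀ i, Commute z (Ψ (r3 i) ^ n) := fun n i =>
      (show Commute z (Ψ (r3 i)) from h i).pow_right n
    rw [r8, map_mul, map_mul, map_pow, map_pow, map_pow]
    exact (((key _ 0).mul_right (key _ 1)).mul_right (key _ 2)).eq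
  have hW3 : ∀ x ∈ W8, x ^ 3 = 1 → x = 1 := by
    rintro _ ⟨a, rfl⟩ h
    rwa [pow_three, ← map_mul Ψ (r8 a) (r8 a), r8sq, map_one, mul_one] at h
  have hv3Z : θ v3 ∈ Z := (hZ _).2 fun i => (S.le _).symm
  have hcv3 : ∀ x ∈ Z, x * θ v3 = θ v3 * x →
      ∃ i : ℕ, ∃ a, x = θ v3 ^ i * Ψ (r8 a) := by
    intro x hx hxv
    obtain ⟨i, s, rfl⟩ := S.cover x hxv
    have hs : ∀ j, s * r3 j = r3 j * s := fun j => S.inj (by
      have h := (hZ _).1 hx j
      rw [mul_assoc, ← mul_assoc (Ψ (r3 j)), ← (Base.v3_comm S (r3 j) i).eq, mul_assoc,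
        mul_right_inj] at h
      rw [map_mul, map_mul, h])
    obtain ⟨a, rfl⟩ := r8cent s hs
    exact ⟨i, a, rfl⟩
  -- the group of order nine
  let A : Subgroup G := (Subgroup.closure ({v3, v1 * v2} : Set V)).map θ
  have hVexp : ∀ v : V, v ^ 3 = 1 := cube_eq_one
  have hspan : ∀ v ∈ Subgroup.closure ({v3, v1 * v2} : Set V),
      ∃ i j : Fin 3, v = v3 ^ i.val * (v1 * v2) ^ j.val := by
    intro v hv
    induction hv using Subgroup.closure_induction with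
    | mem x hx =>
      rcases hx with rfl | rfl
      exacts [⟨1, 0, by simp⟩, ⟨0, 1, by simp⟩]
    | one => exact ⟨0, 0, by simp⟩
    | mul x y _ _ hx hy =>
      obtain ⟨i, j, rfl⟩ := hx
      obtain ⟨k, l, rfl⟩ := hy
      refine ⟨i + k, j + l, ?_⟩
      rw [mul_mul_mul_comm, ← pow_add, ← pow_add, Fin.val_add, Fin.val_add,
        ← pow_eq_pow_mod _ (hVexp _), ← pow_eq_pow_mod _ (hVexp _)]
    | inv x _ hx =>
      obtain ⟨i, j, rfl⟩ := hx
      refine ⟨i + i, j + j, ?_⟩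
      have hinv : ∀ v : V, v⁻¹ = v * v := fun v => inv_eq_of_mul_eq_one_right (by
        rw [← pow_three]; exact hVexp v)
      rw [mul_inv, hinv, hinv, ← pow_add, ← pow_add, Fin.val_add, Fin.val_add,
        ← pow_eq_pow_mod _ (hVexp _), ← pow_eq_pow_mod _ (hVexp _)]
  have hAp : IsPGroup 3 A := fun ⟨x, v, _, hv⟩ => ⟨1, Subtype.ext (by
    show x ^ 3 ^ 1 = 1
    rw [← hv, pow_one, ← map_pow, hVexp, map_one])⟩
  have hAc : ∀ x ∈ A, ∀ y ∈ A, x * y = y * x := by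
    rintro _ ⟨u, _, rfl⟩ _ ⟨v, _, rfl⟩
    exact Loc.commute_J u v
  haveI : IsMulCommutative A := ⟨⟨fun a b => Subtype.ext (hAc a a.2 b b.2)⟩⟩
  have hAnc : ¬ IsCyclic A := by
    intro hcyc
    obtain ⟨⟨y, hy⟩, hgen⟩ := hcyc.exists_generator
    have h1 : θ v3 ∈ A := ⟨v3, Subgroup.subset_closure (Or.inl rfl), rfl⟩
    have h2 : θ (v1 * v2) ∈ A := ⟨v1 * v2, Subgroup.subset_closure (Or.inr rfl), rfl⟩
    obtain ⟨k, hk'⟩ := hgen ⟨_, h1⟩
    obtain ⟨l, hl'⟩ := hgen ⟨_, h2⟩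
    obtain ⟨v, -, hvy⟩ := id hy
    subst hvy
    have ek : v ^ k = v3 := B.loc.inj (by rw [map_zpow]; exact congrArg Subtype.val hk')
    have el : v ^ l = v1 * v2 := B.loc.inj (by rw [map_zpow]; exact congrArg Subtype.val hl')
    have red : ∀ m : ℤ, ∃ i : Fin 3, v ^ m = v ^ i.val := fun m => by
      refine ⟨⟨(m % 3).toNat, by omega⟩, ?_⟩
      show v ^ m = v ^ (m % 3).toNat
      rw [← zpow_natCast, Int.toNat_of_nonneg (Int.emod_nonneg m (by norm_num))]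
      conv_lhs => rw [← Int.emod_add_mul_ediv m 3]
      rw [zpow_add, zpow_mul, show v ^ (3 : ℤ) = 1 from by
        rw [show (3 : ℤ) = ((3 : ℕ) : ℤ) from rfl, zpow_natCast, hVexp], one_zpow, mul_one]
    obtain ⟨i, hi⟩ := red k
    obtain ⟨j, hj⟩ := red l
    exact (cyclic_false v i j) (hi.symm.trans ek) (hj.symm.trans el)
  have hWA : ∀ v ∈ Subgroup.closure ({v3, v1 * v2} : Set V), ∀ x ∈ W8,
      θ v * x * (θ v)⁻¹ ∈ W8 := by
    intro v hv
    have hgen : ∀ u ∈ ({v3, v1 * v2} : Set V), ∀ x ∈ W8, θ u * x * (θ u)⁻¹ ∈ W8 := by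
      rintro u (rfl | rfl) _ ⟨a, rfl⟩
      · exact ⟨a, by rw [← S.le (r8 a)]; group⟩
      · obtain ⟨b, hb⟩ := rot6_facts.2.1 a
        exact ⟨b, by rw [← B.onV, S.act B _ rot6 rot6_facts.1, hb]⟩
    obtain ⟨i, j, rfl⟩ := hspan v hv
    have hp : ∀ (u : V) (n : ℕ), u ∈ ({v3, v1 * v2} : Set V) → ∀ x ∈ W8,
        θ u ^ n * x * (θ u ^ n)⁻¹ ∈ W8 := by
      intro u n hu
      induction n with
      | zero => intro x hx; simpa using hx
      | succ n ih =>
        intro x hx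
        rw [pow_succ', show θ u * θ u ^ n * x * (θ u * θ u ^ n)⁻¹ =
          θ u * (θ u ^ n * x * (θ u ^ n)⁻¹) * (θ u)⁻¹ by group]
        exact hgen u hu _ (ih x hx)
    intro x hx
    rw [map_mul, map_pow, map_pow, show θ v3 ^ i.val * θ (v1 * v2) ^ j.val * x *
      (θ v3 ^ i.val * θ (v1 * v2) ^ j.val)⁻¹ = θ v3 ^ i.val *
        (θ (v1 * v2) ^ j.val * x * (θ (v1 * v2) ^ j.val)⁻¹) * (θ v3 ^ i.val)⁻¹ by group]
    exact hp v3 _ (Or.inl rfl) _ (hp _ _ (Or.inr rfl) x hx)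
  -- subgroups of order prime to three
  have small : ∀ R : Subgroup G, W8 ≤ R → R ≤ Z → (Nat.card R).Coprime 3 →
      (∀ a ∈ A, ∀ r ∈ R, a * r * a⁻¹ ∈ R) → R ≤ W8 := by
    intro R hWR hRZ hco hinv
    have hnorm : A ≤ Subgroup.normalizer (R : Set G) := fun e he =>
      Subgroup.mem_normalizer_iff.2 fun r => ⟨hinv e he r, fun hr => by
        have := hinv e⁻¹ (inv_mem he) _ hr
        rwa [inv_inv, show e⁻¹ * (e * r * e⁻¹) * e = r by group] at this⟩
    obtain ⟨n, hn⟩ := IsPGroup.iff_card.1 hAp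
    have hco' : (Nat.card A).Coprime (Nat.card R) := by
      rw [hn]; exact Nat.Coprime.pow_left n hco.symm
    rw [← CoprimeAct.generated_by_centralizers (A := A) (K := R) hAnc hnorm hco']
    refine iSup₂_le fun e he r hr => ?_
    obtain ⟨⟨v, hv, hev⟩, he1⟩ := he
    subst hev
    have hr3 : ∀ x, x ∈ R → x ^ 3 = 1 → x = 1 := fun x hx h => orderOf_eq_one_iff.1
      (Nat.eq_one_of_dvd_coprimes hco (Subgroup.orderOf_dvd_natCard _ hx)
        (orderOf_dvd_of_pow_eq_one h))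
    have hrR : r ∈ R := hr.1
    have hrv : r * θ v = θ v * r := Subgroup.mem_centralizer_singleton_iff.1 hr.2
    have conc : r * θ v3 = θ v3 * r → r ∈ W8 := by
      intro hc
      obtain ⟨i, a, rfl⟩ := hcv3 r (hRZ hrR) hc
      have hmem : θ v3 ^ i ∈ R := by
        have := mul_mem hrR (inv_mem (hWR ⟨a, rfl⟩))
        rwa [mul_inv_cancel_right] at this
      rw [hr3 _ hmem (by rw [← pow_mul, mul_comm, pow_mul, B.v3_cube, one_pow]), one_mul]
      exact ⟨a, rfl⟩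
    obtain ⟨i, j, rfl⟩ := hspan v hv
    rcases pair_span i j (fun h => he1 (by rw [h, map_one])) with ⟨-, e | e⟩ | hax
    · exact conc (e ▸ hrv)
    · rw [e, map_inv] at hrv
      exact conc (inv_inv (θ v3) ▸ (show Commute r (θ v3)⁻¹ from hrv).inv_right : Commute _ _).eq
    · have hN := B.cg_nonaxis (fun h => he1 (by rw [h, map_one])) hax (mem_cg_one.2 hrv)
      rw [B.range] at hN
      apply conc
      have h1 : r * θ v3 * r⁻¹ * (θ v3)⁻¹ ∈ R := by
        rw [show r * θ v3 * r⁻¹ * (θ v3)⁻¹ = r * (θ v3 * r⁻¹ * (θ v3)⁻¹) by group]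
        exact mul_mem hrR (hinv _ ⟨v3, Subgroup.subset_closure (Or.inl rfl), rfl⟩ _ (inv_mem hrR))
      obtain ⟨u, hu⟩ := (Subgroup.mem_normalizer_iff.1 hN (θ v3)).1 ⟨v3, rfl⟩
      have h3 := hr3 _ h1 (by
        rw [← hu, ← map_inv, ← map_mul, ← map_pow, cube_eq_one, map_one])
      rw [mul_inv_eq_one, mul_inv_eq_iff_eq_mul] at h3
      exact h3
  -- the quotient by the group of order eight
  let N0 : Subgroup G := Subgroup.normalizer (W8 : Set G)
  let M : Subgroup N0 := W8.subgroupOf N0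
  haveI : M.Normal := Subgroup.normal_in_normalizer
  let q : N0 →* N0 ⧸ M := QuotientGroup.mk' M
  have hqs : Function.Surjective q := QuotientGroup.mk'_surjective M
  have hq1 : ∀ x : N0, q x = 1 ↔ (x : G) ∈ W8 := fun x =>
    (QuotientGroup.eq_one_iff x).trans Subgroup.mem_subgroupOf
  have hZN : Z ≤ N0 := fun z hz => Subgroup.mem_normalizer_iff.2 fun x => by
    constructor
    · intro hx
      rw [hcomm z hz x hx, mul_inv_cancel_right]; exact hx
    · intro hx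
      have h := hcomm z hz _ hx
      have e : z * x * z⁻¹ = x := by
        have := congrArg (fun y => z⁻¹ * y) h
        simpa [mul_assoc] using this
      rwa [e] at hx
  have hAN : A ≤ N0 := by
    rintro _ ⟨v, hv, rfl⟩
    refine Subgroup.mem_normalizer_iff.2 fun x => ⟨hWA v hv x, fun hx => ?_⟩
    have h := hWA v⁻¹ (inv_mem hv) _ hx
    rwa [map_inv, inv_inv, show (θ v)⁻¹ * (θ v * x * (θ v)⁻¹) * θ v = x by group] at h
  haveI : (Z.subgroupOf N0).Normal := ⟨fun z hz n => by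
    rw [Subgroup.mem_subgroupOf] at hz ⊢
    refine (hZ _).2 fun i => ?_
    obtain ⟨a, ha⟩ := r8r i
    have hmem : (n : G)⁻¹ * Ψ (r3 i) * n ∈ W8 := by
      have h := (Subgroup.mem_normalizer_iff.1 (inv_mem n.2) (Ψ (r3 i))).1 ⟨a, by rw [ha]⟩
      rwa [inv_inv] at h
    have h := hcomm _ hz _ hmem
    simp only [Subgroup.coe_mul, Subgroup.coe_inv]
    calc (n : G) * (z : G) * (n : G)⁻¹ * Ψ (r3 i)
        = (n : G) * ((z : G) * ((n : G)⁻¹ * Ψ (r3 i) * n)) * (n : G)⁻¹ := by group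
      _ = _ := by rw [h]; group⟩
  let K : Subgroup (N0 ⧸ M) := (Z.subgroupOf N0).map q
  haveI : K.Normal := Subgroup.Normal.map inferInstance q hqs
  let z : N0 ⧸ M := q ⟨θ v3, hZN hv3Z⟩
  have hz3 : orderOf z = 3 := by
    refine orderOf_eq_prime ?_ ?_
    · rw [← map_pow, hq1]
      simpa [B.v3_cube] using W8.one_mem
    · intro h
      exact B.v3_one (hW3 _ ((hq1 _).1 h) B.v3_cube)
  have hK : ∀ {x : G} (hx : x ∈ Z), q ⟨x, hZN hx⟩ ∈ K := fun {x} hx =>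
    ⟨⟨x, hZN hx⟩, Subgroup.mem_subgroupOf.2 hx, rfl⟩
  have main := self_three (Y := N0 ⧸ M) K (z := z) (hK hv3Z) hz3 ?_
    (P := (A.subgroupOf N0).map q) ((hAp.comap_of_injective N0.subtype Subtype.coe_injective).map q) ?_
  rotate_left
  · rintro _ ⟨x, hx, rfl⟩ hc
    rw [← map_mul, ← map_mul, ← inv_mul_eq_one, ← map_inv, ← map_mul, hq1] at hc
    simp only [Subgroup.coe_mul, Subgroup.coe_inv, mul_inv_rev] at hc
    have hxZ : (x : G) ∈ Z := hx
    set p := (θ v3)⁻¹ * (x : G)⁻¹ * (θ v3 * (x : G)) with hp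
    have hc' : p ∈ W8 := hc
    -- the commutator has order dividing three
    have e : (x : G)⁻¹ * θ v3 * x = θ v3 * p := by rw [hp]; group
    have hp3 : p = 1 := hW3 _ hc' (by
      have hcm : Commute (θ v3) p := hcomm _ hv3Z _ hc'
      have h : ((x : G)⁻¹ * θ v3 * x) ^ 3 = 1 := by
        rw [show (x : G)⁻¹ * θ v3 * x = (x : G)⁻¹ * θ v3 * (x : G)⁻¹⁻¹ by rw [inv_inv], conj_pow,
          B.v3_cube, mul_one, mul_inv_cancel]
      rw [e, hcm.mul_pow, B.v3_cube, one_mul] at h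
      exact h)
    rw [hp3, mul_one] at e
    obtain ⟨i, a, hxa⟩ := hcv3 (x : G) hxZ (by
      calc (x : G) * θ v3 = x * ((x : G)⁻¹ * θ v3 * x) := by rw [e]
        _ = _ := by group)
    refine ⟨(i : ℤ), ?_⟩
    show z ^ (i : ℤ) = q x
    rw [zpow_natCast, eq_comm, ← inv_mul_eq_one, ← map_pow, ← map_inv, ← map_mul, hq1]
    have hc2 := Base.v3_comm S (r8 a) i
    refine ⟨a, ?_⟩
    simp only [Subgroup.coe_mul, Subgroup.coe_inv, SubgroupClass.coe_pow]
    rw [hxa, mul_inv_rev, mul_assoc, inv_mul_cancel, mul_one,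
      inv_eq_of_mul_eq_one_right (by rw [← map_mul, r8sq, map_one] : Ψ (r8 a) * Ψ (r8 a) = 1)]
  · intro R hRK hco hinv
    let R0 : Subgroup G := (R.comap q).map N0.subtype
    have hmem : ∀ {x : N0}, (x : G) ∈ R0 ↔ q x ∈ R := fun {x} => by
      constructor
      · rintro ⟨y, hy, hxy⟩
        rw [show y = x from Subtype.ext hxy] at hy
        exact hy
      · exact fun h => ⟨x, h, rfl⟩
    have hMW : Nat.card M ∣ 2 ^ 3 := by
      rw [Nat.card_congr (Subgroup.subgroupOfEquivOfLe (le_trans hWZ hZN)).toEquiv]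
      rw [show Nat.card W8 = 2 ^ 3 from by
        rw [← (show Nat.card (Fin 2 × Fin 2 × Fin 2) = 2 ^ 3 by simp)]
        exact (Nat.card_eq_of_bijective (fun a => (⟨Ψ (r8 a), a, rfl⟩ : W8))
          ⟨fun a b h => r8inj (S.inj (congrArg Subtype.val h)),
            fun ⟨_, a, ha⟩ => ⟨a, Subtype.ext ha⟩⟩).symm]
    have hco0 : (Nat.card R0).Coprime 3 := by
      rw [Subgroup.card_map_of_injective N0.subtype_injective, Nat.coprime_comm,
        Nat.prime_three.coprime_iff_not_dvd]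
      intro h3
      obtain ⟨y, hy⟩ := exists_prime_orderOf_dvd_card' (G := R.comap q) 3 h3
      have h1 : (⟨q (y : N0), y.2⟩ : R) ^ 3 = 1 := Subtype.ext (by
        show q (y : N0) ^ 3 = 1
        rw [← map_pow, ← Subgroup.coe_pow, ← hy, pow_orderOf_eq_one, Subgroup.coe_one, map_one])
      have h2 : (⟨q (y : N0), y.2⟩ : R) = 1 := orderOf_eq_one_iff.1
        (Nat.eq_one_of_dvd_coprimes hco (orderOf_dvd_natCard _) (orderOf_dvd_of_pow_eq_one h1))
      have h3' : ((y : N0) : G) ∈ W8 := (hq1 _).1 (congrArg Subtype.val h2)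
      have h4 := hW3 _ h3' (by
        have h := congrArg (fun a : R.comap q => ((a : N0) : G)) (pow_orderOf_eq_one y)
        rw [hy] at h
        simpa using h)
      rw [show y = 1 from Subtype.ext (Subtype.ext h4), orderOf_one] at hy
      norm_num at hy
    have hle := small R0 (fun x hx => ⟨⟨x, hZN (hWZ hx)⟩, by
        show q _ ∈ R
        rw [(hq1 _).2 hx]; exact one_mem _, rfl⟩)
      (by
        rintro _ ⟨y, hy, rfl⟩
        obtain ⟨w, hw, hwe⟩ := hRK hy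
        rw [← inv_mul_eq_one, ← map_inv, ← map_mul, hq1] at hwe
        have h := mul_mem (show (w : G) ∈ Z from hw) (hWZ hwe)
        simp only [Subgroup.coe_mul, Subgroup.coe_inv, mul_inv_cancel_left] at h
        exact h) hco0 (by
        rintro a ha r ⟨y, hy, rfl⟩
        refine ⟨⟨a, hAN ha⟩ * y * ⟨a, hAN ha⟩⁻¹, ?_, rfl⟩
        show q _ ∈ R
        rw [map_mul, map_mul, map_inv]
        exact (hinv _ ⟨⟨a, hAN ha⟩, Subgroup.mem_subgroupOf.2 ha, rfl⟩).le ⟨_, hy, rfl⟩)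
    rw [eq_bot_iff]
    intro y hy
    obtain ⟨x, rfl⟩ := hqs y
    rw [Subgroup.mem_bot, hq1]
    exact hle (hmem.2 hy)
  have hgZ : g ∈ Z := (hZ g).2 hg
  -- conclusion
  obtain ⟨l, hl⟩ := main _ (hK hgZ)
  change z ^ l = q ⟨g, _⟩ * q _ * (q ⟨g, _⟩)⁻¹ at hl
  rw [← map_inv, ← map_mul, ← map_mul, ← map_zpow, ← inv_mul_eq_one, ← map_inv, ← map_mul, hq1] at hl
  simp only [Subgroup.coe_mul, Subgroup.coe_inv, SubgroupClass.coe_zpow] at hl
  set p := (θ v3 ^ l)⁻¹ * (g * θ v3 * g⁻¹) with hp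
  have hp1 : p = 1 := hW3 p hl (by
    have e : g * θ v3 * g⁻¹ = θ v3 ^ l * p := by rw [hp]; group
    have hcm : Commute (θ v3 ^ l) p := (show Commute (θ v3) p from hcomm _ hv3Z _ hl).zpow_left l
    have h : (g * θ v3 * g⁻¹) ^ 3 = 1 := by rw [conj_pow, B.v3_cube, mul_one, mul_inv_cancel]
    rw [e, hcm.mul_pow, ← zpow_natCast (θ v3 ^ l), ← zpow_mul, mul_comm, zpow_mul, zpow_natCast,
      B.v3_cube, one_zpow, one_mul] at h
    exact h)
  rw [hp, inv_mul_eq_one] at hp1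
  have hCZ : ι mC1 ∈ Z := (hZ _).2 fun i => (S.comm_of_fix B mC1 rot6_facts.2.2.1 _).eq
  have hshape : ∀ x ∈ Z, x * θ v3 = θ v3 * x →
      ∃ a, ∃ i : Fin 3, x = Ψ (r8 a) * ι (inV v3 ^ i.val) := by
    intro x hx hc
    obtain ⟨i, a, rfl⟩ := hcv3 x hx hc
    refine ⟨a, ⟨i % 3, Nat.mod_lt _ (by norm_num)⟩, ?_⟩
    rw [(Base.v3_comm S (r8 a) i).eq, map_pow, B.onV]
    show _ = Ψ (r8 a) * θ v3 ^ (i % 3)
    rw [← pow_eq_pow_mod i B.v3_cube]
  have hgv : g * θ v3 * g⁻¹ = θ v3 ∨ g * θ v3 * g⁻¹ = (θ v3)⁻¹ := by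
    rw [← hp1, ← Int.emod_add_mul_ediv l 3, zpow_add, zpow_mul,
      show θ v3 ^ (3 : ℤ) = 1 from by
        rw [show (3 : ℤ) = ((3 : ℕ) : ℤ) from rfl, zpow_natCast]; exact B.v3_cube,
      one_zpow, mul_one]
    obtain e | e | e : l % 3 = 0 ∨ l % 3 = 1 ∨ l % 3 = 2 := by omega
    · exfalso
      rw [← Int.emod_add_mul_ediv l 3, e, zero_add, zpow_mul,
        show θ v3 ^ (3 : ℤ) = 1 from by
          rw [show (3 : ℤ) = ((3 : ℕ) : ℤ) from rfl, zpow_natCast]; exact B.v3_cube,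
        one_zpow, eq_comm, conj_eq_one_iff] at hp1
      exact B.v3_one hp1
    · exact Or.inl (by rw [e, zpow_one])
    · refine Or.inr ?_
      rw [e, show (2 : ℤ) = ((2 : ℕ) : ℤ) from rfl, zpow_natCast, eq_inv_iff_mul_eq_one, ← pow_succ,
        B.v3_cube]
  rcases hgv with e | e
  · obtain ⟨a, i, rfl⟩ := hshape g hgZ (mul_inv_eq_iff_eq_mul.1 e)
    exact ⟨a, i, 0, by simp⟩
  · have hm : ι mC1 * θ v3 * (ι mC1)⁻¹ = (θ v3)⁻¹ := by
      rw [B.acts mC1 v3, mC1_inverts, map_inv]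
    have hmm : ι mC1 * ι mC1 = 1 := by
      rw [← map_mul, show mC1 * mC1 = 1 by decide +kernel, map_one]
    obtain ⟨a, i, h⟩ := hshape (g * ι mC1) (mul_mem hgZ hCZ) (by
      rw [← mul_inv_eq_iff_eq_mul, show g * ι mC1 * θ v3 * (g * ι mC1)⁻¹ =
        g * (ι mC1 * θ v3 * (ι mC1)⁻¹) * g⁻¹ by group, hm, ← conj_inv, e, inv_inv])
    refine ⟨a, i, 1, ?_⟩
    rw [map_mul, ← mul_assoc, ← h, show ((1 : Fin 2) : ℕ) = 1 from rfl, pow_one, mul_assoc, hmm,
      mul_one]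

end Base

end Cfsg.Agent.S9Three
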