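import Cfsg.Agent.Lib.S9Three.Mw

/-!
S3343: the model in the group, when every monomial map is induced.
-/

set_option autoImplicit false
set_option maxRecDepth 20000

namespace Cfsg.Agent.S9Three

open Cfsg.Agent.ThreeTI.Cube (V)

universe u

variable {G : Type u} [Group G]

namespace Loc

variable {θ : V →* G} (C : Loc θ)
include C

theorem mem_of_inverted {g : G} {u : V} (hg : Acts θ g neg) (h : g * θ u = θ u * g) : u = 1 := by
  have h1 := (C.acts_commute hg u).1 h
  rw [neg_spec.2.2.1] at h1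
  exact neg_spec.2.2.2 u (mul_eq_one_iff_eq_inv.2 h1.symm)

/-- The embedding of the model. -/
theorem exists_model (hk : ∀ w, Lift θ w) :
    ∃ ι : Mw →* G, Function.Injective ι ∧ (∀ v, ι (inV v) = θ v) ∧
      (∀ w, Acts θ (ι (inW w)) w) ∧ ι.range = NJ θ := by
  obtain ⟨z, hz⟩ := hk neg
  have hzz : z * z = 1 := by
    obtain ⟨u, hu⟩ := C.mem_J_of_acts_one (neg_spec.1 ▸ acts_mul hz hz)
    rw [← hu, C.mem_of_inverted hz (u := u) (by rw [hu]; group), map_one]
  have huniq : ∀ {a b : G} {w : W}, Acts θ a w → Acts θ b w → a * z = z * a → b * z = z * b →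
      a = b := by
    intro a b w ha hb hza hzb
    have h1 : Acts θ (b⁻¹ * a) 1 := by
      intro v
      rw [act_id]
      calc b⁻¹ * a * θ v * (b⁻¹ * a)⁻¹ = b⁻¹ * (a * θ v * a⁻¹) * b := by group
        _ = b⁻¹ * (b * θ v * b⁻¹) * b := by rw [ha, hb]
        _ = _ := by group
    obtain ⟨u, hu⟩ := C.mem_J_of_acts_one h1
    have hc : z * θ u = θ u * z := by
      rw [hu]
      exact ((show Commute z b from hzb.symm).inv_right.mul_right
        (show Commute z a from hza.symm)).eq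
    rw [C.mem_of_inverted hz hc, map_one, eq_comm, inv_mul_eq_one] at hu
    exact hu.symm
  have hex : ∀ w, ∃ n, Acts θ n w ∧ n * z = z * n := by
    intro w
    obtain ⟨n, hn⟩ := hk w
    have hn' : n * z * n⁻¹ ∈ NJ θ := mul_mem (mul_mem (acts_mem hn) (acts_mem hz))
      (inv_mem (acts_mem hn))
    have h1 : Acts θ (z⁻¹ * (n * z * n⁻¹)) 1 := by
      intro v
      rw [act_id]
      have e1 : n * z * n⁻¹ * θ v * (n * z * n⁻¹)⁻¹ = θ (act neg v) := by
        rw [show n * z * n⁻¹ * θ v * (n * z * n⁻¹)⁻¹ =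
          n * (z * (n⁻¹ * θ v * n) * z⁻¹) * n⁻¹ by group,
          show n⁻¹ * θ v * n = θ (act w⁻¹ v) by
            rw [show θ v = n * θ (act w⁻¹ v) * n⁻¹ by rw [hn, act_act_inv]]; group,
          hz, hn, ← act_comp, ← act_comp, neg_spec.2.1 w, mul_assoc neg w, mul_inv_cancel, mul_one]
      rw [show z⁻¹ * (n * z * n⁻¹) * θ v * (z⁻¹ * (n * z * n⁻¹))⁻¹ =
        z⁻¹ * (n * z * n⁻¹ * θ v * (n * z * n⁻¹)⁻¹) * z by group, e1, ← hz]
      group
    obtain ⟨u, hu⟩ := C.mem_J_of_acts_one h1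
    obtain ⟨s, hs⟩ := root_V u⁻¹
    refine ⟨θ s⁻¹ * n, ?_, ?_⟩
    · simpa using acts_mul (acts_J s⁻¹) hn
    · have h3 : n * z = z * θ u * n := by rw [hu]; group
      have h4 : z * θ s = θ s⁻¹ * z := by
        rw [← neg_spec.2.2.1 s, ← hz s]; group
      calc θ s⁻¹ * n * z = θ s⁻¹ * z * θ u * n := by rw [mul_assoc (θ s⁻¹), h3]; group
        _ = z * θ (s * u) * n := by rw [← h4, map_mul, mul_assoc z]
        _ = z * θ s⁻¹ * n := by
          rw [show s * u = s⁻¹ by rw [← inv_inv u, ← hs]; group]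
        _ = _ := mul_assoc _ _ _
  choose r hr1 hr2 using hex
  let ρ : W →* G := MonoidHom.mk' r fun a b => huniq (hr1 _) (acts_mul (hr1 a) (hr1 b)) (hr2 _)
    ((show Commute (r a) z from hr2 a).mul_left (hr2 b)).eq
  let ι : Mw →* G := SemidirectProduct.lift θ ρ fun w => MonoidHom.ext fun v => (hr1 w v).symm
  have hι : ∀ m : Mw, ι m = θ m.left * r m.right := fun m => rfl
  refine ⟨ι, ?_, fun v => SemidirectProduct.lift_inl _ _ _ v,
    fun w => by rw [SemidirectProduct.lift_inr]; exact hr1 w, ?_⟩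
  · refine (injective_iff_map_eq_one ι).2 fun m hm => ?_
    rw [hι] at hm
    have hw : m.right = 1 := by
      refine C.acts_unique (n := r m.right) (hr1 _) ?_
      rw [show r m.right = θ m.left⁻¹ by rw [map_inv]; exact eq_inv_of_mul_eq_one_right hm]
      exact acts_J _
    have hr : r 1 = 1 := huniq (hr1 1) acts_one (hr2 1) (by simp)
    rw [hw, hr, mul_one] at hm
    exact SemidirectProduct.ext (C.inj (hm.trans (map_one θ).symm)) hw
  · refine le_antisymm ?_ fun g hg => ?_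
    · rintro _ ⟨m, rfl⟩
      rw [hι]
      exact mul_mem (J_le_NJ ⟨_, rfl⟩) (acts_mem (hr1 _))
    · obtain ⟨w, hw⟩ := C.monomial g hg
      have h1 : Acts θ (g * (r w)⁻¹) 1 := fun v => by
        rw [act_id, show g * (r w)⁻¹ * θ v * (g * (r w)⁻¹)⁻¹ =
          g * ((r w)⁻¹ * θ v * r w) * g⁻¹ by group,
          show (r w)⁻¹ * θ v * r w = θ (act w⁻¹ v) by
            rw [show θ v = r w * θ (act w⁻¹ v) * (r w)⁻¹ by rw [hr1 w, act_act_inv]]; group,
          hw, act_act_inv]
      obtain ⟨v, hv⟩ := C.mem_J_of_acts_one h1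
      exact ⟨⟨v, w⟩, by rw [hι]; show θ v * r w = g; rw [hv]; group⟩

end Loc

end Cfsg.Agent.S9Three
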