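import Cfsg.Agent.Lib.S9Three.Model

/-!
S3343: finite facts about the stabilisers in the monomial groups.
-/

set_option autoImplicit false
set_option maxRecDepth 100000
set_option synthInstance.maxSize 4000

namespace Cfsg.Agent.S9Three

open Cfsg.Agent.ThreeTI.Mono
open Cfsg.Agent.ThreeTI.Cube (V)
open Cfsg.Agent.A9Three (vec)

/-- The sign changes of the second and third coordinate. -/
def dbl : W := (⟨3⟩, 1)

/-- The four coset representatives. -/
def reps : List W := [1, neg, dbl, eps]

/-- The six permutations. -/
def perms : List W := [1, cyc, cyc * cyc, tau, cyc * tau, cyc * cyc * tau]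

theorem perms_fix : ∀ s ∈ perms, act s vx = vx := by decide +kernel

theorem double_coset : ∀ w : W, ∃ a ∈ perms, ∃ d ∈ reps, ∃ b ∈ perms, w = a * d * b := by
  decide +kernel

theorem inQ_reps : ∀ a ∈ perms, ∀ b ∈ perms, ∀ k : Fin 4,
    inQ k (a * 1 * b) = true ∧
    inQ k (a * neg * b) = decide (k = 1 ∨ k = 3) ∧
    inQ k (a * dbl * b) = decide (k = 2 ∨ k = 3) ∧
    inQ k (a * eps * b) = decide (k = 3) := by decide +kernel

theorem neg_dbl : neg * (cyc * dbl * (cyc * cyc)) = eps ∨ neg * (cyc * cyc * dbl * cyc) = eps ∨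
    neg * dbl = eps := by decide +kernel

theorem eps_gen : eps * (cyc * eps * (cyc * cyc)) = dbl ∨ eps * (cyc * cyc * eps * cyc) = dbl := by
  decide +kernel

theorem eps_neg : eps * (cyc * eps * (cyc * cyc)) * (cyc * cyc * eps * cyc) = neg := by
  decide +kernel

/-- The number of fixed vectors. -/
def nfix (w : W) : ℕ := (Finset.univ.filter fun v : V => act w v = v).card

theorem fix_two : ∀ a : W, 3 < nfix a → a = 1 ∨ (a * a = 1 ∧ nfix a = 9) := by decide +kernel

theorem refl_eq : ∀ a : W, nfix a = 9 → ∀ b : W, nfix b = 9 →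
    (∀ v : V, act a v = v → act b v = v) → a = b := by decide +kernel

/-- The norm map of a set of monomial maps. -/
def nm (S : List W) : V →* V where
  toFun x := (S.map fun s => act s x).prod
  map_one' := by
    induction S with
    | nil => rfl
    | cons a t ih => rw [List.map_cons, List.prod_cons, act_one, ih, one_mul]
  map_mul' x y := by
    induction S with
    | nil => simp
    | cons a t ih =>
      rw [List.map_cons, List.prod_cons, ih, List.map_cons, List.prod_cons, List.map_cons,
        List.prod_cons, act_mul, mul_mul_mul_comm]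

theorem refl_facts : ∀ a : W, a * a = 1 ∧ (a = 1 ∨ nfix a = 9) →
    (Finset.univ.filter fun x : V => nm [1, a] x = 1).card ≤ 3 ∧
    (∀ x : V, nm [1, a] (act a x) = nm [1, a] x) ∧
    ∀ x : V, x ≠ 1 → nm [1, a] x = 1 → act a x = x → False := by decide +kernel

/-- All monomial maps, as a list. -/
def allW : List W :=
  (List.finRange 24).flatMap fun i => [(⟨i⟩, 1), (⟨i⟩, Multiplicative.ofAdd 1)]

theorem mem_allW : ∀ w : W, w ∈ allW := by decide +kernel

/-- The stabiliser of a vector. -/
def stab (k : Fin 4) (u : V) : List W := allW.filter fun w => inQ k w && decide (act w u = u)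

theorem mem_stab (k : Fin 4) (u : V) (w : W) :
    w ∈ stab k u ↔ inQ k w = true ∧ act w u = u := by
  simp [stab, mem_allW]

/-- The vector or its inverse is conjugate to the central element. -/
def central (k : Fin 4) (u : V) : Bool := inO k u || inO k u⁻¹

theorem inO_iff : ∀ k : Fin 4, ∀ u : V, inO k u = true → ∃ w : W, inQ k w = true ∧ act w vx = u := by
  decide +kernel

theorem stab_three : ∀ k : Fin 4, ∀ u : V, u ≠ 1 → central k u = false →
    ∀ s ∈ stab k u, s * s * s = 1 → s = 1 := by decide +kernel

theorem stab_eight : ∀ k : Fin 4, ∀ u : V, u ≠ 1 → central k u = false →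
    ∀ s ∈ stab k u, s ^ 8 = 1 := by decide +kernel

theorem stab_inv : ∀ k : Fin 4, ∀ u : V, u ≠ 1 → central k u = false →
    ∀ s ∈ stab k u, ∀ x : V, nm (stab k u) (act s x) = nm (stab k u) x := by decide +kernel

/-- The kernel of the norm map. -/
def kerN (k : Fin 4) (u : V) : Finset V := Finset.univ.filter fun x => nm (stab k u) x = 1

/-- The shape of a stabiliser. -/
def shape (k : Fin 4) (u : V) : Bool :=
  (decide ((kerN k u).card ≤ 3) &&
      (stab k u).all fun s => decide (∀ x ∈ kerN k u, x ≠ 1 → act s x = x → s = 1)) ||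
    (decide ((kerN k u).card = 9 ∧ ∀ x : V, ∃ i : Fin 3, nm (stab k u) (x * u ^ i.val) = 1) &&
      ((decide ((stab k u).length = 2) &&
          (stab k u).all fun s => decide (s = 1 ∨ ∀ x ∈ kerN k u, act s x = x⁻¹)) ||
        (decide ((stab k u).length = 4) && (stab k u).all fun s => decide (s * s = 1)) ||
        decide (k = 3 ∧ ∃ w : W, act w (vec 0 0 1) = u)))

theorem shape_true : ∀ k : Fin 4, ∀ u : V, u ≠ 1 → central k u = false → shape k u = true := by
  decide +kernel

end Cfsg.Agent.S9Three
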