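import Cfsg.Agent.Lib.S9Three.Nine9
import Mathlib.GroupTheory.Perm.Cycle.Type
import Mathlib.GroupTheory.SpecificGroups.Alternating

/-!
S3343: facts on the symmetric group of degree nine for the end of the proof.
-/

set_option autoImplicit false
set_option maxRecDepth 100000
set_option synthInstance.maxSize 4000

namespace Cfsg.Agent.S9Three

open Cfsg.Agent.ThreeTI.Cube (V)
open Equiv

/-- Permutations of prime order are conjugate when they move equally many points. -/
theorem isConj_of_support {n p : ℕ} [hp : Fact p.Prime] {g r : Perm (Fin n)} (hg : g ^ p = 1)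
    (hr : r ^ p = 1) (h : g.support.card = r.support.card) : IsConj g r := by
  have key : ∀ {x : Perm (Fin n)}, x ^ p = 1 →
      ∃ k, x.cycleType = Multiset.replicate k p ∧ x.support.card = k * p := by
    intro x hx
    refine ⟨Multiset.card x.cycleType, ?_⟩
    have h1 : x.cycleType = Multiset.replicate (Multiset.card x.cycleType) p := by
      refine Multiset.eq_replicate.2 ⟨rfl, fun l hl => ?_⟩
      have hd : l ∣ p := (Perm.dvd_of_mem_cycleType hl).trans (orderOf_dvd_of_pow_eq_one hx)
      rcases (Nat.dvd_prime hp.out).1 hd with rfl | rfl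
      · exact absurd (Perm.two_le_of_mem_cycleType hl) (by norm_num)
      · rfl
    refine ⟨h1, ?_⟩
    rw [← Perm.sum_cycleType x]
    conv_lhs => rw [h1]
    rw [Multiset.sum_replicate, smul_eq_mul]
  obtain ⟨a, ha, ha'⟩ := key hg
  obtain ⟨b, hb, hb'⟩ := key hr
  refine Perm.isConj_iff_cycleType_eq.2 ?_
  rw [ha, hb, Nat.eq_of_mul_eq_mul_right hp.out.pos (ha'.symm.trans (h.trans hb'))]

theorem cube_support {g : Perm (Fin 9)} (hg : g ^ 3 = 1) (h1 : g ≠ 1) :
    g.support.card = 3 ∨ g.support.card = 6 ∨ g.support.card = 9 := by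
  have h0 : g.support.card ≠ 0 := fun h => h1 (Perm.support_eq_empty_iff.1 (Finset.card_eq_zero.1 h))
  have h9 : g.support.card ≤ 9 := le_trans (Finset.card_le_univ _) (by simp)
  have h3 : 3 ∣ g.support.card := by
    rw [← Perm.sum_cycleType g]
    exact Multiset.dvd_sum fun l hl => by
      rcases (Nat.dvd_prime Nat.prime_three).1
        ((Perm.dvd_of_mem_cycleType hl).trans (orderOf_dvd_of_pow_eq_one hg)) with rfl | rfl
      · exact absurd (Perm.two_le_of_mem_cycleType hl) (by norm_num)
      · exact dvd_refl 3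
  omega

theorem square_support {g : Perm (Fin 9)} (hg : g ^ 2 = 1) (h1 : g ≠ 1) :
    g.support.card = 2 ∨ g.support.card = 4 ∨ g.support.card = 6 ∨ g.support.card = 8 := by
  have h0 : g.support.card ≠ 0 := fun h => h1 (Perm.support_eq_empty_iff.1 (Finset.card_eq_zero.1 h))
  have h9 : g.support.card ≤ 9 := le_trans (Finset.card_le_univ _) (by simp)
  have h2 : 2 ∣ g.support.card := by
    rw [← Perm.sum_cycleType g]
    exact Multiset.dvd_sum fun l hl => by
      rcases (Nat.dvd_prime Nat.prime_two).1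
        ((Perm.dvd_of_mem_cycleType hl).trans (orderOf_dvd_of_pow_eq_one hg)) with rfl | rfl
      · exact absurd (Perm.two_le_of_mem_cycleType hl) (by norm_num)
      · exact dvd_refl 2
  omega

/-- The four transpositions. -/
def four : Fin 4 → Perm (Fin 9) := ![swap 0 1, swap 7 8, swap 2 6, swap 3 4]

theorem four_closed : ∀ a b : Fin 9, a ≠ b →
    (∃ i, swap a b = four i) ∨
      ∃ i, (swap a b * four i) ^ 3 = 1 ∧ swap a b * four i ≠ 1 := by decide +kernel

/-- The points of the four pairs. -/
def pairPt (i : Fin 4) (e : Fin 2) : Fin 9 := ![![0, 1], ![7, 8], ![2, 6], ![3, 4]] i e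

/-- The pair and side of a point. -/
def pairIdx (x : Fin 9) : Fin 4 × Fin 2 :=
  ![(0, 0), (0, 1), (2, 0), (3, 0), (3, 1), (0, 0), (2, 1), (1, 0), (1, 1)] x

/-- A permutation of the four pairs as a function on the nine points. -/
def pairFn (π : Perm (Fin 4)) (x : Fin 9) : Fin 9 :=
  if x = 5 then 5 else pairPt (π (pairIdx x).1) (pairIdx x).2

theorem pairFn_inv : ∀ (π : Perm (Fin 4)) (x : Fin 9), pairFn π⁻¹ (pairFn π x) = x := by
  decide +kernel

/-- A permutation of the four pairs as a permutation of the nine points. -/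
def pairPerm (π : Perm (Fin 4)) : Perm (Fin 9) where
  toFun := pairFn π
  invFun := pairFn π⁻¹
  left_inv := pairFn_inv π
  right_inv := fun x => by simpa using pairFn_inv π⁻¹ x

theorem pair_conj : ∀ (π : Perm (Fin 4)) (i : Fin 4) (x : Fin 9),
    (pairPerm π * four i) x = (four (π i) * pairPerm π) x := by decide +kernel

theorem four_facts : (∀ i, four i * four i = 1) ∧ (∀ i j, four i * four j = four j * four i) ∧
    (∀ i, Perm.sign (four i) = -1) ∧ Function.Injective four ∧ (∀ i, (four i).support.card = 2) := by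
  decide +kernel

theorem tr_support : (tr v1).support.card = 3 ∧ (tr (v1 * v2)).support.card = 6 ∧
    (tr vx).support.card = 9 ∧ tr v1 ^ 3 = 1 ∧ tr (v1 * v2) ^ 3 = 1 ∧ tr vx ^ 3 = 1 := by
  decide +kernel

theorem not_norm : Perm.sign (swap (2 : Fin 9) 3 * swap 4 5) = 1 ∧ ∀ v : V,
    swap (2 : Fin 9) 3 * swap 4 5 * tr v1 * (swap (2 : Fin 9) 3 * swap 4 5)⁻¹ ≠ tr v := by
  decide +kernel

theorem tr_cycles : tr v1 = swap (0 : Fin 9) 1 * swap 1 2 ∧ tr v2 = swap (3 : Fin 9) 4 * swap 4 5 ∧
    tr v3 = swap (6 : Fin 9) 7 * swap 7 8 := by decide +kernel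

end Cfsg.Agent.S9Three
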