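import Cfsg.Agent.Lib.S9Three.Hom
import Cfsg.Agent.Lib.S9Three.FinishFacts
import Cfsg.Agent.Lib.Transfer.SignThompson
import Cfsg.Agent.S3339

/-!
S3343: in the large case the group is the symmetric group of degree nine.
-/

set_option autoImplicit false
set_option maxRecDepth 20000
set_option linter.style.haveILetI false

namespace Cfsg.Agent.S9Three

open Cfsg.Agent.ThreeTI.Cube (V)
open Cfsg.Agent.A9Three (six ce)
open Equiv

universe u

variable {G : Type u} [Group G]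

theorem m9_words : m9 mA0 = swap 0 1 ∧ m9 mC1 = swap 7 8 ∧ m9 mB0 = swap 3 4 ∧
    m9 (mPi ^ 2) * six (swap 0 5) * (m9 (mPi ^ 2))⁻¹ = swap 2 6 ∧
    Perm.sign (m9 mC0) = -1 ∧ (m9 mC0).support.card = 2 ∧ (m9 (mA0 * mB0)).support.card = 4 ∧
    (m9 mP).support.card = 6 ∧ (m9 (mP * mC0)).support.card = 8 ∧
    mC0 * mC0 = 1 ∧ (mA0 * mB0) * (mA0 * mB0) = 1 ∧ mP * mP = 1 ∧
    (mP * mC0) * (mP * mC0) = 1 := by decide +kernel

namespace Sym9

variable {θ : V →* G} {ι : Mw →* G} {Ψ : Perm (Fin 6) →* G} {φ : Perm (Fin 9) →* G}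
  (B : Base θ ι) (S : Psi6 θ ι Ψ) (F : Sym9 θ ι Ψ φ)
include B S F

omit S in
theorem phi_tr (v : V) : φ (tr v) = θ v := by rw [← m9_inV, F.mon, B.onV]

omit B S in
theorem mon_mem (m : Mw) : ι m ∈ φ.range := ⟨_, F.mon m⟩

omit B S in
theorem six_mem (s : Perm (Fin 6)) : Ψ s ∈ φ.range := ⟨_, F.six s⟩

omit S in
theorem NJ_le : NJ θ ≤ φ.range := by
  rw [← B.range]
  rintro _ ⟨m, rfl⟩
  exact F.mon_mem m

theorem cg_le [Finite G] {u : V} (hu : u ≠ 1) : cg θ ![u] ≤ φ.range := by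
  rcases B.loc.cg_single B.hk hu with h | ⟨-, w, rfl⟩
  · exact h.trans (NJ_le B F)
  intro g hg
  have hg' := mem_cg_one.1 hg
  rw [← B.onW w v3] at hg'
  have h1 := conj_comm (g := (ι (inW w))⁻¹) hg'
  rw [show (ι (inW w))⁻¹ * (ι (inW w) * θ v3 * (ι (inW w))⁻¹) * (ι (inW w))⁻¹⁻¹ = θ v3 by group,
    inv_inv] at h1
  obtain ⟨i, s, hs⟩ := S.cover _ h1
  rw [show g = ι (inW w) * ((ι (inW w))⁻¹ * g * ι (inW w)) * (ι (inW w))⁻¹ by group, hs, ← B.onV]
  exact mul_mem (mul_mem (F.mon_mem _) (mul_mem (pow_mem (F.mon_mem _) _) (F.six_mem s)))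
    (inv_mem (F.mon_mem _))

omit S in
/-- Elements of order three are conjugate into the translations. -/
theorem three_conj {y : Perm (Fin 9)} (hy : y ^ 3 = 1) :
    ∃ k v, φ k * φ y * (φ k)⁻¹ = θ v := by
  haveI : Fact (Nat.Prime 3) := ⟨Nat.prime_three⟩
  by_cases h1 : y = 1
  · exact ⟨1, 1, by rw [h1, map_one, map_one]; group⟩
  obtain ⟨s3, s6, s9, c3, c6, c9⟩ := tr_support
  obtain ⟨v, hc, hs⟩ : ∃ v, tr v ^ 3 = 1 ∧ y.support.card = (tr v).support.card := by
    rcases cube_support hy h1 with h | h | h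
    exacts [⟨_, c3, h.trans s3.symm⟩, ⟨_, c6, h.trans s6.symm⟩, ⟨_, c9, h.trans s9.symm⟩]
  obtain ⟨k, hk⟩ := isConj_iff.1 (isConj_of_support hy hc hs)
  exact ⟨k, v, by rw [← map_mul, ← map_inv, ← map_mul, hk, phi_tr B F]⟩

omit B in
theorem phi_four : φ (four 0) = ι mA0 ∧ φ (four 1) = ι mC1 ∧ φ (four 2) = tc ι Ψ ∧
    φ (four 3) = ι mB0 := by
  obtain ⟨w0, w1, w3, w2, -⟩ := m9_words
  refine ⟨?_, ?_, ?_, ?_⟩
  · rw [show four 0 = swap 0 1 from rfl, ← w0, F.mon]
  · rw [show four 1 = swap 7 8 from rfl, ← w1, F.mon]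
  · rw [show four 2 = swap 2 6 from rfl, ← w2, map_mul, map_mul, map_inv, F.mon, F.six, tc]
  · rw [show four 3 = swap 3 4 from rfl, ← w3, F.mon]

theorem cent_four_le [Finite G] {g : G} (hg : ∀ i, g * φ (four i) = φ (four i) * g) :
    g ∈ φ.range := by
  obtain ⟨e0, e1, e2, -⟩ := F.phi_four S
  obtain ⟨a, p, rfl⟩ := B.cent_frame S (g := g) (e0 ▸ hg 0) (e1 ▸ hg 1) (e2 ▸ hg 2)
  exact mul_mem (mul_mem (mul_mem (F.mon_mem _) (F.six_mem _))
    (mul_mem (F.six_mem _) (F.mon_mem _))) (inv_mem (mul_mem (F.mon_mem _) (F.six_mem _)))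

/-- Transpositions are conjugate only to transpositions. -/
theorem support_of_isConj [Finite G] {x y : Perm (Fin 9)} (hx : x ^ 2 = 1)
    (hx2 : x.support.card = 2) (h : IsConj (φ x) (φ y)) : y.support.card = 2 := by
  haveI : Fact (Nat.Prime 2) := ⟨Nat.prime_two⟩
  obtain ⟨-, -, -, -, -, cT, cD, ct, cq, iT, iD, it, iq⟩ := m9_words
  obtain ⟨nTD, nTt, nTq, -⟩ := B.separations S
  have hm : ∀ {m : Mw}, m * m = 1 → m9 m ^ 2 = 1 := fun hm => by
    rw [pow_two, ← map_mul, hm, map_one]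
  obtain ⟨g, hg⟩ := isConj_iff.1 h
  have hy : y ^ 2 = 1 := F.inj (by
    rw [map_pow, ← hg, conj_pow, ← map_pow, hx, map_one, mul_one, mul_inv_cancel])
  have hy1 : y ≠ 1 := by
    rintro rfl
    rw [map_one, conj_eq_one_iff] at hg
    rw [F.inj (hg.trans (map_one φ).symm), Perm.support_one] at hx2
    exact absurd hx2 (by simp)
  have hT : IsConj (ι mC0) (φ y) := by
    rw [← F.mon]
    exact (map_conj φ (isConj_of_support (hm iT) hx (cT.trans hx2.symm))).trans h
  rcases square_support hy hy1 with e | e | e | e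
  · exact e
  · exact (nTD (hT.trans ((F.mon (mA0 * mB0)) ▸
      map_conj φ (isConj_of_support hy (hm iD) (e.trans cD.symm))))).elim
  · exact (nTt (hT.trans ((F.mon mP) ▸
      map_conj φ (isConj_of_support hy (hm it) (e.trans ct.symm))))).elim
  · exact (nTq (hT.trans ((F.mon (mP * mC0)) ▸
      map_conj φ (isConj_of_support hy (hm iq) (e.trans cq.symm))))).elim

/-- A Sylow 2-subgroup of the symmetric group gives one of the whole group. -/
theorem exists_sylow_two [Finite G] : ∃ S0 : Sylow 2 (Perm (Fin 9)), (∀ i, four i ∈ (S0 : Subgroup (Perm (Fin 9)))) ∧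
    ∀ Q : Subgroup G, IsPGroup 2 Q → (S0 : Subgroup (Perm (Fin 9))).map φ ≤ Q →
      Q = (S0 : Subgroup (Perm (Fin 9))).map φ := by
  classical
  haveI : Fact (Nat.Prime 2) := ⟨Nat.prime_two⟩
  obtain ⟨f2, fc, -, finj, fs⟩ := four_facts
  let V16 : Subgroup (Perm (Fin 9)) := Subgroup.closure (Set.range four)
  haveI : IsMulCommutative V16 := Subgroup.isMulCommutative_closure (by
    rintro _ ⟨i, rfl⟩ _ ⟨j, rfl⟩; exact fc i j)
  have hV : IsPGroup 2 V16 := fun x => ⟨1, Subtype.ext (by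
    show (x : Perm (Fin 9)) ^ 2 ^ 1 = 1
    rw [pow_one]
    refine Subgroup.closure_induction (p := fun y _ => y ^ 2 = 1) ?_ (one_pow _) ?_ ?_ x.2
    · rintro _ ⟨i, rfl⟩; rw [pow_two, f2]
    · intro a b ha hb h1 h2
      rw [(show Commute a b from congrArg Subtype.val
        (mul_comm' (⟨a, ha⟩ : V16) ⟨b, hb⟩)).mul_pow, h1, h2, one_mul]
    · intro a _ h1; rw [inv_pow, h1, inv_one])⟩
  obtain ⟨S0, hS0⟩ := hV.exists_le_sylow
  have hfour : ∀ i, four i ∈ (S0 : Subgroup (Perm (Fin 9))) := fun i =>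
    hS0 (Subgroup.subset_closure ⟨i, rfl⟩)
  refine ⟨S0, hfour, fun Q hQ hle => ?_⟩
  by_contra hne
  set PS := (S0 : Subgroup (Perm (Fin 9))).map φ with hPS
  haveI : Group.IsNilpotent Q := hQ.isNilpotent
  have hlt : PS.subgroupOf Q < ⊤ := lt_top_iff_ne_top.2 fun h =>
    hne (le_antisymm (Subgroup.subgroupOf_eq_top.1 h) hle)
  obtain ⟨⟨n, hnQ⟩, hnN, hnS⟩ := SetLike.exists_of_lt
    (Group.normalizerCondition_of_isNilpotent (G := Q) _ hlt)
  have hconj : ∀ y ∈ PS, n * y * n⁻¹ ∈ PS := fun y hy =>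
    (Subgroup.mem_normalizer_iff.1 hnN ⟨y, hle hy⟩).1 hy
  have htwo : ∀ x ∈ (S0 : Subgroup (Perm (Fin 9))), x ^ 3 = 1 → x = 1 := by
    intro x hx h3
    obtain ⟨k, hk⟩ := S0.isPGroup' ⟨x, hx⟩
    exact orderOf_eq_one_iff.1 (Nat.eq_one_of_dvd_coprimes
      (Nat.Coprime.pow_left k (show Nat.Coprime 2 3 by norm_num))
      (orderOf_dvd_of_pow_eq_one (congrArg Subtype.val hk)) (orderOf_dvd_of_pow_eq_one h3))
  have himg : ∀ i, ∃ j, n * φ (four i) * n⁻¹ = φ (four j) := by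
    intro i
    obtain ⟨z, hz, hzn⟩ := hconj _ (⟨four i, hfour i, rfl⟩ : φ (four i) ∈ PS)
    have h2 := F.support_of_isConj B S (y := z) (by rw [pow_two, f2]) (fs i)
      (isConj_iff.2 ⟨n, hzn.symm⟩)
    obtain ⟨a, b, hab, rfl⟩ := Perm.card_support_eq_two.1 h2
    rcases four_closed a b hab with ⟨j, hj⟩ | ⟨j, hj3, hj1⟩
    · exact ⟨j, by rw [← hzn, hj]⟩
    · exact absurd (htwo _ (mul_mem hz (hfour j)) hj3) hj1
  choose π hπ using himg
  have hπi : Function.Injective π := fun i j e => finj (F.inj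
    ((MulAut.conj n).injective (show n * φ (four i) * n⁻¹ = n * φ (four j) * n⁻¹ by
      rw [hπ, hπ, e])))
  let p : Perm (Fin 4) := Equiv.ofBijective π ⟨hπi, Finite.surjective_of_injective hπi⟩
  have hp : ∀ i, φ (pairPerm p) * φ (four i) * (φ (pairPerm p))⁻¹ = φ (four (π i)) := fun i => by
    rw [← map_mul, ← map_inv, ← map_mul, Equiv.ext (pair_conj p i), mul_inv_cancel_right]
    rfl
  have hc : (φ (pairPerm p))⁻¹ * n ∈ φ.range := by
    refine F.cent_four_le B S fun i => ?_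
    calc (φ (pairPerm p))⁻¹ * n * φ (four i)
        = (φ (pairPerm p))⁻¹ * (n * φ (four i) * n⁻¹) * n := by group
      _ = (φ (pairPerm p))⁻¹ * (φ (pairPerm p) * φ (four i) * (φ (pairPerm p))⁻¹) * n := by
          rw [hπ, hp]
      _ = _ := by group
  obtain ⟨y, hy⟩ : n ∈ φ.range := by
    have := mul_mem (show φ (pairPerm p) ∈ φ.range from ⟨_, rfl⟩) hc
    rwa [mul_inv_cancel_left] at this
  have heq := S0.is_maximal' (hQ.comap_of_injective φ F.inj) fun x hx => hle ⟨x, hx, rfl⟩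
  refine hnS ?_
  show n ∈ PS
  refine ⟨y, ?_, hy⟩
  rw [SetLike.mem_coe, ← heq, Subgroup.mem_comap, hy]
  exact hnQ

/-- The sign extends to the group. -/
theorem exists_sign [Finite G] : ∃ χ : G →* ℤˣ, ∀ x, χ (φ x) = Perm.sign x := by
  classical
  haveI : Fact (Nat.Prime 2) := ⟨Nat.prime_two⟩
  obtain ⟨S0, hfour, hmax⟩ := F.exists_sylow_two B S
  obtain ⟨f2, -, fsg, -, fs⟩ := four_facts
  set Q0 := (S0 : Subgroup (Perm (Fin 9)))
  obtain ⟨P, hP⟩ := (S0.isPGroup'.map φ : IsPGroup 2 (Q0.map φ)).exists_le_sylow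
  have hPeq := hmax _ P.isPGroup' hP
  let K : Subgroup (Perm (Fin 9)) := Q0 ⊓ Perm.sign.ker
  let M : Subgroup G := K.map φ
  have hMi : ∃ m, Odd m ∧ M.index = 2 ^ (0 + 1) * m := by
    have h2 : K.relIndex Q0 = 2 := by
      refine Subgroup.relIndex_eq_two_iff.2 ⟨four 0, hfour 0, fun b hb => ?_⟩
      have hK : ∀ x, x ∈ Q0 → (x ∈ K ↔ Perm.sign x = 1) := fun x hx =>
        ⟨fun h => h.2, fun h => ⟨hx, h⟩⟩
      rw [hK _ (mul_mem hb (hfour 0)), hK _ hb, map_mul, fsg]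
      rcases Int.units_eq_one_or (Perm.sign b) with e | e <;> rw [e] <;>
        simp [Xor', Xor]
    refine ⟨(P : Subgroup G).index, ?_, ?_⟩
    · rw [Nat.odd_iff, ← Nat.two_dvd_ne_zero]
      exact P.not_dvd_index
    · rw [hPeq, ← Subgroup.relIndex_mul_index (Subgroup.map_mono inf_le_left : M ≤ Q0.map φ),
        Subgroup.relIndex_map_map_of_injective _ _ F.inj, h2]
      rfl
  obtain ⟨m, hm, hidx⟩ := hMi
  obtain ⟨χ, hχ⟩ := SignThompson.exists_sign_hom M (φ (four 0)) 0 m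
    (by rw [pow_one]; exact orderOf_eq_prime (by rw [← map_pow, pow_two, f2, map_one]) (fun h => by
      have := F.inj (h.trans (map_one φ).symm)
      have h2 := fsg 0
      rw [this, map_one] at h2
      exact absurd h2 (by decide)))
    (fun g => by
      rw [pow_zero, pow_one]
      rintro ⟨z, hz, hzg⟩
      have h2 := F.support_of_isConj B S (y := z) (by rw [pow_two, f2]) (fs 0)
        (isConj_iff.2 ⟨g⁻¹, by rw [inv_inv]; exact hzg.symm⟩)
      obtain ⟨a, b, hab, rfl⟩ := Perm.card_support_eq_two.1 h2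
      have hsg := MonoidHom.mem_ker.1 hz.2
      rw [Perm.sign_swap hab] at hsg
      exact absurd hsg (by decide))
    hm hidx
  refine ⟨χ, fun x => ?_⟩
  induction x using Equiv.Perm.swap_induction_on with
  | one => simp
  | swap_mul f a b hab ih =>
    rw [map_mul, map_mul, map_mul, ih, Perm.sign_swap hab]
    congr 1
    obtain ⟨k, hk⟩ := isConj_iff.1 (Perm.isConj_swap hab (show (0 : Fin 9) ≠ 1 by decide))
    rw [show four 0 = swap 0 1 from rfl, ← hk, map_mul, map_mul, map_inv, map_mul, map_mul,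
      map_inv, mul_comm (χ (φ k)), mul_inv_cancel_right] at hχ
    exact hχ

/-- The group is the symmetric group of degree nine. -/
theorem surjective [Finite G] : Function.Surjective φ := by
  classical
  haveI : Fact (Nat.Prime 3) := ⟨Nat.prime_three⟩
  obtain ⟨χ, hχ⟩ := F.exists_sign B S
  set G0 := χ.ker with hG0
  have hJ0 : θ.range ≤ G0 := by
    rintro _ ⟨v, rfl⟩
    rw [hG0, MonoidHom.mem_ker]
    rcases Int.units_eq_one_or (χ (θ v)) with e | e
    · exact e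
    · have h3 : χ (θ v) ^ 3 = 1 := by rw [← map_pow, ← map_pow, cube_eq_one, map_one, map_one]
      rw [e] at h3
      exact absurd h3 (by decide)
  let J' : Subgroup G0 := θ.range.subgroupOf G0
  let H : Subgroup G0 := Subgroup.normalizer (J' : Set G0)
  let J0p : Subgroup (Perm (Fin 9)) := (tr).range
  have hJ0p : J0p = Subgroup.closure {swap (0 : Fin 9) 1 * swap 1 2, swap (3 : Fin 9) 4 * swap 4 5,
      swap (6 : Fin 9) 7 * swap 7 8} := by
    obtain ⟨t1, t2, t3⟩ := tr_cycles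
    refine le_antisymm ?_ ((Subgroup.closure_le _).2 ?_)
    · rintro _ ⟨v, rfl⟩
      rw [basis_spec v, map_mul, map_mul, map_pow, map_pow, map_pow, t1, t2, t3]
      exact mul_mem (mul_mem (pow_mem (Subgroup.subset_closure (by simp)) _)
        (pow_mem (Subgroup.subset_closure (by simp)) _))
        (pow_mem (Subgroup.subset_closure (by simp)) _)
    · rintro _ (rfl | rfl | rfl)
      exacts [⟨v1, t1⟩, ⟨v2, t2⟩, ⟨v3, t3⟩]
  have hmemH : ∀ g : G0, g ∈ H ↔ (g : G) ∈ NJ θ := fun g => by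
    constructor <;> intro h
    · refine Subgroup.mem_normalizer_iff.2 fun x => ⟨fun hx => ?_, fun hx => ?_⟩
      · exact (Subgroup.mem_normalizer_iff.1 h ⟨x, hJ0 hx⟩).1 hx
      · have hx0 : x ∈ G0 := by
          have := mul_mem (mul_mem (inv_mem g.2) (hJ0 hx)) g.2
          rwa [show (g : G)⁻¹ * ((g : G) * x * (g : G)⁻¹) * g = x by group] at this
        exact (Subgroup.mem_normalizer_iff.1 h ⟨x, hx0⟩).2 hx
    · exact Subgroup.mem_normalizer_iff.2 fun x => Subgroup.mem_normalizer_iff.1 h x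
  have hnorm : ∀ x : Perm (Fin 9),
      x ∈ Subgroup.normalizer (J0p : Set (Perm (Fin 9))) ↔ φ x ∈ NJ θ := by
    intro x
    have key : ∀ y, y ∈ J0p ↔ φ y ∈ θ.range := fun y => by
      constructor
      · rintro ⟨v, rfl⟩; exact ⟨v, (phi_tr B F v).symm⟩
      · rintro ⟨v, hv⟩; exact ⟨v, F.inj ((phi_tr B F v).trans hv)⟩
    constructor
    · intro hx
      refine Subgroup.mem_normalizer_iff.2 fun z => ⟨?_, fun hz => ?_⟩
      · rintro ⟨v, rfl⟩
        rw [← phi_tr B F v, ← map_mul, ← map_inv, ← map_mul, ← key]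
        exact (Subgroup.mem_normalizer_iff.1 hx _).1 ⟨v, rfl⟩
      · obtain ⟨v, hv⟩ := hz
        have e : z = φ (x⁻¹ * tr v * x) := by
          rw [map_mul, map_mul, map_inv, phi_tr B F, hv]; group
        rw [e, ← key]
        refine (Subgroup.mem_normalizer_iff.1 hx _).2 ?_
        rw [show x * (x⁻¹ * tr v * x) * x⁻¹ = tr v by group]
        exact ⟨v, rfl⟩
    · intro hx
      refine Subgroup.mem_normalizer_iff.2 fun y => ?_
      rw [key, key, map_mul, map_mul, map_inv]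
      exact Subgroup.mem_normalizer_iff.1 hx (φ y)
  let A : Subgroup (Perm (Fin 9)) :=
    alternatingGroup (Fin 9) ⊓ Subgroup.normalizer (J0p : Set (Perm (Fin 9)))
  have hA0 : ∀ x, Perm.sign x = 1 ↔ φ x ∈ G0 := fun x => by
    rw [hG0, MonoidHom.mem_ker, hχ]
  have hfwd : ∀ a : A, (⟨φ a, (hA0 _).1 (Perm.mem_alternatingGroup.1 a.2.1)⟩ : G0) ∈ H := fun a =>
    (hmemH _).2 ((hnorm _).1 a.2.2)
  let f : A →* H :=
    ((φ.comp A.subtype).codRestrict G0 fun a => (hA0 _).1 (Perm.mem_alternatingGroup.1 a.2.1)).codRestrict H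
      hfwd
  have hfb : Function.Bijective f := by
    refine ⟨fun a b h => Subtype.ext (F.inj (congrArg (fun z : H => ((z : G0) : G)) h)), fun z => ?_⟩
    obtain ⟨x, hx⟩ := NJ_le B F ((hmemH _).1 z.2)
    refine ⟨⟨x, Perm.mem_alternatingGroup.2 ((hA0 x).2 (by rw [hx]; exact (z : G0).2)),
      (hnorm x).2 (by rw [hx]; exact (hmemH _).1 z.2)⟩, Subtype.ext (Subtype.ext hx)⟩
  have hcores : ∀ x ∈ H, orderOf x = 3 →
      Cfsg.pPrimeCore 3 (Subgroup.centralizer ({x} : Set G0)) = ⊥ := by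
    intro x hx h3
    obtain ⟨y, hy⟩ := NJ_le B F ((hmemH _).1 hx)
    have hy3 : y ^ 3 = 1 := F.inj (by
      have h := congrArg Subtype.val (pow_orderOf_eq_one x)
      rw [h3] at h
      rw [map_pow, hy, map_one]
      simpa using h)
    obtain ⟨k, v, hk⟩ := three_conj B F hy3
    rw [hy] at hk
    set C := Subgroup.centralizer ({x} : Set G0)
    haveI := PBasic.pPrimeCore_characteristic 3 C
    let j : C →* G := (MulAut.conj (φ k)).toMonoidHom.comp (G0.subtype.comp C.subtype)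
    have hj : Function.Injective j := (MulAut.conj (φ k)).injective.comp
      (Subtype.coe_injective.comp Subtype.coe_injective)
    have hR : (Cfsg.pPrimeCore 3 C).map j = ⊥ := by
      refine B.loc.sig _ ?_ fun w => ?_
      · rw [Subgroup.card_map_of_injective hj]
        exact PBasic.pPrimeCore_coprime 3 C
      have hG0n : G0.Normal := MonoidHom.normal_ker χ
      have hw0 : (φ k)⁻¹ * θ w * φ k ∈ G0 := by
        have := hG0n.conj_mem _ (hJ0 ⟨w, rfl⟩) (φ k)⁻¹
        rwa [inv_inv] at this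
      have hwC : (⟨_, hw0⟩ : G0) ∈ C := Subgroup.mem_centralizer_singleton_iff.2 (Subtype.ext (by
        show (φ k)⁻¹ * θ w * φ k * (x : G) = x * ((φ k)⁻¹ * θ w * φ k)
        rw [show (x : G) = (φ k)⁻¹ * θ v * φ k by rw [← hk]; group]
        calc (φ k)⁻¹ * θ w * φ k * ((φ k)⁻¹ * θ v * φ k) = (φ k)⁻¹ * (θ w * θ v) * φ k := by group
          _ = (φ k)⁻¹ * (θ v * θ w) * φ k := by rw [Loc.commute_J w v]
          _ = _ := by group))
      let c : C := ⟨⟨_, hw0⟩, hwC⟩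
      have hjc : j c = θ w := by
        show φ k * ((φ k)⁻¹ * θ w * φ k) * (φ k)⁻¹ = θ w
        group
      have hn : ∀ r ∈ Cfsg.pPrimeCore 3 C, c * r * c⁻¹ ∈ Cfsg.pPrimeCore 3 C := fun r hr =>
        Subgroup.Normal.conj_mem inferInstance r hr c
      have hn' : ∀ r ∈ Cfsg.pPrimeCore 3 C, c⁻¹ * r * c ∈ Cfsg.pPrimeCore 3 C := fun r hr => by
        have := Subgroup.Normal.conj_mem
          (inferInstance : (Cfsg.pPrimeCore 3 C).Normal) r hr c⁻¹
        rwa [inv_inv] at this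
      refine le_antisymm ?_ fun z hz => ?_
      · rintro _ ⟨_, ⟨r, hr, rfl⟩, rfl⟩
        exact ⟨c * r * c⁻¹, hn r hr, by
          rw [map_mul, map_mul, map_inv, hjc]; rfl⟩
      · obtain ⟨r, hr, rfl⟩ := hz
        refine ⟨j (c⁻¹ * r * c), ⟨_, hn' r hr, rfl⟩, ?_⟩
        rw [MulEquiv.coe_toMonoidHom, MulAut.conj_apply, map_mul, map_mul, map_inv, hjc]
        group
    exact (Subgroup.map_eq_bot_iff_of_injective _ hj).1 hR
  have hJ'comm : IsMulCommutative J' := ⟨⟨fun a b => by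
    obtain ⟨u, hu⟩ := a.2
    obtain ⟨w, hw⟩ := b.2
    refine Subtype.ext (Subtype.ext ?_)
    show ((a : G0) : G) * (b : G0) = (b : G0) * (a : G0)
    rw [show ((a : G0) : G) = θ u from hu.symm, show ((b : G0) : G) = θ w from hw.symm]
    exact Loc.commute_J u w⟩⟩
  have hJ'exp : ∀ a ∈ J', a ^ 3 = 1 := fun a ha => by
    obtain ⟨u, hu⟩ := ha
    refine Subtype.ext ?_
    show (a : G) ^ 3 = 1
    rw [show (a : G) = θ u from hu.symm, ← map_pow, cube_eq_one, map_one]
  have hJ'card : Nat.card J' = 27 := by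
    rw [Nat.card_congr (Subgroup.subgroupOfEquivOfLe hJ0).toEquiv, B.loc.card_J]
  have hsgn := not_norm
  have hpar : ∀ g : G, g ∈ G0 ∨ g * φ (four 0) ∈ G0 := fun g => by
    rw [hG0, MonoidHom.mem_ker, MonoidHom.mem_ker, map_mul, hχ, four_facts.2.2.1]
    rcases Int.units_eq_one_or (χ g) with e | e <;> rw [e] <;> simp
  rcases S3339.result J' hJ'comm hJ'exp hJ'card H rfl J0p hJ0p (MulEquiv.ofBijective f hfb).symm
      hcores with hT | he
  · exfalso
    have hx : φ (swap (2 : Fin 9) 3 * swap 4 5) ∈ G0 := (hA0 _).1 hsgn.1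
    have hH : (⟨_, hx⟩ : G0) ∈ H := hT ▸ Subgroup.mem_top _
    obtain ⟨v, hv⟩ := (Subgroup.mem_normalizer_iff.1 ((hmemH _).1 hH) (θ v1)).1 ⟨v1, rfl⟩
    refine hsgn.2 v (F.inj ?_)
    rw [map_mul φ _ (_)⁻¹, map_mul φ _ (tr v1), map_inv, phi_tr B F, phi_tr B F, hv]
  · obtain ⟨e⟩ := he
    let a : alternatingGroup (Fin 9) →* G0 :=
      (φ.comp (alternatingGroup (Fin 9)).subtype).codRestrict G0 fun s =>
        (hA0 _).1 (Perm.mem_alternatingGroup.1 s.2)
    have ha : Function.Injective a := fun s t h =>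
      Subtype.ext (F.inj (congrArg Subtype.val h))
    have hsurj : Function.Surjective a :=
      ((Nat.bijective_iff_injective_and_card a).2 ⟨ha, (Nat.card_congr e.toEquiv).symm⟩).2
    intro g
    rcases hpar g with h | h
    · obtain ⟨s, hs⟩ := hsurj ⟨g, h⟩
      exact ⟨s, congrArg Subtype.val hs⟩
    · obtain ⟨s, hs⟩ := hsurj ⟨_, h⟩
      refine ⟨s * (four 0)⁻¹, ?_⟩
      rw [map_mul, map_inv, show φ (s : Perm (Fin 9)) = g * φ (four 0) from congrArg Subtype.val hs,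
        mul_inv_cancel_right]

end Sym9

end Cfsg.Agent.S9Three
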