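import Cfsg.Agent.Lib.S9Three.LabelFacts

/-!
S3343: finite facts for the relation between two crossing transpositions.
-/

set_option autoImplicit false
set_option maxRecDepth 100000
set_option synthInstance.maxSize 4000

namespace Cfsg.Agent.S9Three

open Cfsg.Agent.ThreeTI.Cube (V)
open Cfsg.Agent.A9Three (six ce)
open Equiv

/-- The six elements of the model on the last triple. -/
def mS (p : Fin 3 × Fin 2) : Mw := inV v3 ^ p.1.val * mC1 ^ p.2.val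

theorem mS_facts : (∀ i : Fin 6, ∀ p, m9 (mS p) (ce i) = ce i) ∧
    (∀ p, p ≠ (0, 0) → mS p * mS p = 1 → p.2 = 1) ∧ mS (0, 0) = 1 ∧ mS (1, 1) = mC0 ∧
    Function.Injective mS ∧ (∀ p, mS p * mC0 = mC0 * mS p → p = (0, 0) ∨ p = (1, 1)) ∧
    (∀ i : Fin 3, ∃ k : Fin 3, inV v3 ^ k.val * mC0 * (inV v3 ^ k.val)⁻¹ = mS (i, 1)) ∧
    (∀ i j l : Fin 3, i ≠ j → i ≠ l → j ≠ l → mS (i, 1) * mS (l, 1) * mS (i, 1) = mS (j, 1)) ∧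
    (∀ p, mS p = 1 → p = (0, 0)) := by decide +kernel

/-- The relabelling of the six points. -/
def kap : Perm (Fin 6) := swap 0 3 * swap 3 4 * swap 4 2 * swap 2 5

theorem kap_facts : kap * swap 0 3 * kap⁻¹ = swap 3 4 ∧ kap * swap 1 4 * kap⁻¹ = swap 1 2 ∧
    kap * swap 2 5 * kap⁻¹ = swap 0 5 ∧
    m9 mA0 = m9 (mPi ^ 2) * six (swap 3 4) * (m9 (mPi ^ 2))⁻¹ ∧
    m9 mC1 = m9 (mPi ^ 2) * six (swap 1 2) * (m9 (mPi ^ 2))⁻¹ ∧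
    mPi ^ 2 * mC0 * (mPi ^ 2)⁻¹ = mB0 := by decide +kernel

theorem tri_words : m9 mC1 = m9 mPi * six (swap 4 5) * (m9 mPi)⁻¹ ∧
    m9 mB0 = m9 mPi * six (swap 0 1) * (m9 mPi)⁻¹ ∧
    mPi * mC0 * mPi⁻¹ = mA0 ∧
    m9 mA1 = six (swap 1 2) ∧ m9 mB1 = six (swap 4 5) ∧
    mPi * mC1 * mPi⁻¹ = mA1 ∧
    mPi ^ 2 * mC1 * (mPi ^ 2)⁻¹ = mB1 ∧
    m9 mB1 = m9 mPi * six (swap 1 2) * (m9 mPi)⁻¹ ∧
    m9 (mB0 * mB1 * mB0) = six (swap 3 5) ∧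
    mPi ^ 2 * (inV v3 ^ 2 * mC1) * (mPi ^ 2)⁻¹ = mB0 * mB1 * mB0 ∧
    mPi * (mA0 * mC0) * mPi⁻¹ = mA0 * mB0 ∧ m9 mA0 = six (swap 0 1) ∧
    (∀ i : Fin 6, m9 mC0 (ce i) = ce i) ∧ (∀ i : Fin 6, m9 (inV v3) (ce i) = ce i) ∧
    mA0 * mA0 = 1 ∧ mC1 * mC1 = 1 ∧ mB0 * mB0 = 1 ∧ mC0 * mC0 = 1 := by decide +kernel

theorem tri_six : ∀ p : Perm (Fin 6),
    (p = swap 0 1 ∨ p = swap 0 3 ∨ p = swap 1 4 ∨ p = swap 2 5 ∨ p = swap 2 3 ∨ p = swap 0 5) →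
      ∃ g : Perm (Fin 6), g * swap 0 1 * g⁻¹ = p := by decide +kernel

theorem tri_double : ∀ p : Perm (Fin 6),
    (p = swap 2 5 * swap 0 1 ∨ p = swap 2 5 * swap 3 4 ∨ p = swap 2 3 * swap 4 5 ∨
      p = swap 2 3 * swap 0 1 ∨ p = swap 0 5 * swap 3 4 ∨ p = swap 0 5 * swap 1 2) →
      ∃ g : Perm (Fin 6), g * (swap 0 1 * swap 3 4) * g⁻¹ = p := by decide +kernel

theorem noncomm_six : swap 1 2 * swap 2 5 ≠ (swap 2 5 * swap 1 2 : Perm (Fin 6)) ∧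
    swap 4 5 * swap 2 5 ≠ (swap 2 5 * swap 4 5 : Perm (Fin 6)) ∧
    swap 1 2 * swap 2 3 ≠ (swap 2 3 * swap 1 2 : Perm (Fin 6)) ∧
    swap 2 5 * swap 3 5 * swap 2 5 = (swap 2 3 : Perm (Fin 6)) ∧
    swap 2 5 * swap 2 5 = (1 : Perm (Fin 6)) := by decide +kernel

/-- The Sylow 2-subgroup of the centraliser of a transposition of six points. -/
def two16 : Finset (Perm (Fin 6)) := Finset.univ.filter fun s =>
  s * swap 0 1 = swap 0 1 * s ∧ s * (swap 2 3 * swap 4 5) = swap 2 3 * swap 4 5 * s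

theorem two16_card : two16.card = 16 := by decide +kernel

end Cfsg.Agent.S9Three
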