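import Cfsg.Agent.Lib.S9Three.Eight
import Cfsg.Agent.Lib.S9Three.TriFacts

/-!
S3343: the classes of involutions in the centraliser of three disjoint transpositions.
-/

set_option autoImplicit false
set_option maxRecDepth 20000

namespace Cfsg.Agent.S9Three

open Cfsg.Agent.ThreeTI.Cube (V)
open Cfsg.Agent.A9Three (six ce)
open Equiv

universe u

variable {G : Type u} [Group G]

theorem r8_cases : ∀ a, a = (0, 0, 0) ∨ (∃ j, r8 a = r3 j) ∨ a = (1, 1, 1) ∨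
    ((∃ g : Perm (Fin 6), g * (swap 0 1 * swap 3 4) * g⁻¹ = r8 a) ∧
      ∃ j, r8 a * r3 j = r8 (1, 1, 1)) := by decide +kernel

theorem r8_top : r8 (1, 1, 1) = swap 0 3 * swap 1 4 * swap 2 5 := by decide +kernel

theorem r3_conj : ∀ j, ∃ g : Perm (Fin 6), g * swap 0 1 * g⁻¹ = r3 j := by decide +kernel

theorem map_conj {K : Type*} [Group K] (f : K →* G) {a b : K} (h : IsConj a b) :
    IsConj (f a) (f b) := by
  obtain ⟨g, rfl⟩ := isConj_iff.1 h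
  exact isConj_iff.2 ⟨f g, by rw [map_mul, map_mul, map_inv]⟩

namespace Base

variable {θ : V →* G} {ι : Mw →* G} (B : Base θ ι) {Ψ : Perm (Fin 6) →* G} (S : Psi6 θ ι Ψ)
include B S

theorem commute_mS (p : Fin 3 × Fin 2) (s : Perm (Fin 6)) : Commute (ι (mS p)) (Ψ s) :=
  S.comm_of_fix B _ (fun i => mS_facts.1 i p) s

/-- Conjugation of a product of the two commuting parts. -/
theorem isConj_prod {s t : Perm (Fin 6)} (hst : ∃ g : Perm (Fin 6), g * s * g⁻¹ = t)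
    (i : Fin 3) : IsConj (Ψ s * ι mC0) (Ψ t * ι (mS (i, 1))) := by
  obtain ⟨g, rfl⟩ := hst
  obtain ⟨k, hk⟩ := mS_facts.2.2.2.2.2.2.1 i
  have hv : ∀ x, Commute (ι (inV v3 ^ k.val)) (Ψ x) := fun x => by
    rw [map_pow]
    exact (S.comm_of_fix B _ tri_words.2.2.2.2.2.2.2.2.2.2.2.2.2.1 x).pow_left _
  have hg : Commute (Ψ g) (ι mC0) :=
    (S.comm_of_fix B _ tri_words.2.2.2.2.2.2.2.2.2.2.2.2.1 g).symm
  refine isConj_iff.2 ⟨ι (inV v3 ^ k.val) * Ψ g, ?_⟩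
  rw [← hk]
  simp only [map_mul, map_inv]
  calc ι (inV v3 ^ k.val) * Ψ g * (Ψ s * ι mC0) * (ι (inV v3 ^ k.val) * Ψ g)⁻¹
      = ι (inV v3 ^ k.val) * (Ψ g * Ψ s * (ι mC0 * (Ψ g)⁻¹)) * (ι (inV v3 ^ k.val))⁻¹ := by group
    _ = ι (inV v3 ^ k.val) * (Ψ g * Ψ s * ((Ψ g)⁻¹ * ι mC0)) * (ι (inV v3 ^ k.val))⁻¹ := by
        rw [hg.inv_left.eq]
    _ = (ι (inV v3 ^ k.val) * (Ψ g * Ψ s * (Ψ g)⁻¹)) * ι mC0 * (ι (inV v3 ^ k.val))⁻¹ := by group
    _ = (Ψ g * Ψ s * (Ψ g)⁻¹ * ι (inV v3 ^ k.val)) * ι mC0 * (ι (inV v3 ^ k.val))⁻¹ := by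
        rw [(((hv g).mul_right (hv s)).mul_right (hv g).inv_right).eq]
    _ = _ := by group

theorem double_six {p : Perm (Fin 6)}
    (hp : ∃ g : Perm (Fin 6), g * (swap 0 1 * swap 3 4) * g⁻¹ = p) :
    IsConj (ι (mA0 * mB0)) (Ψ p) := by
  rw [← B.double_eq S]
  exact map_conj Ψ (isConj_iff.2 hp)

theorem double_mixed {p : Perm (Fin 6)} (hp : ∃ g : Perm (Fin 6), g * swap 0 1 * g⁻¹ = p)
    (i : Fin 3) : IsConj (ι (mA0 * mB0)) (Ψ p * ι (mS (i, 1))) := by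
  refine IsConj.trans ?_ (B.isConj_prod S hp i)
  obtain ⟨-, -, -, -, -, -, -, -, -, -, h, hA, -⟩ := tri_words
  rw [S.agree _ _ hA, ← map_mul]
  exact (map_conj ι (isConj_iff.2 ⟨mPi, h⟩)).symm

theorem triple_std : Ψ (r8 (1, 1, 1)) = ι mP := by
  rw [r8_top]; exact S.agree _ _ m9_gens.2.2.2.2.1

theorem quad_std (i : Fin 3) : IsConj (ι (mP * mC0)) (Ψ (r8 (1, 1, 1)) * ι (mS (i, 1))) := by
  rw [map_mul, ← B.triple_std S]
  exact B.isConj_prod S ⟨1, by simp⟩ i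

/-- The conjugates of a transposition among the products. -/
theorem forms [Finite G] {a : Fin 2 × Fin 2 × Fin 2} {p : Fin 3 × Fin 2}
    (h : IsConj (ι mC0) (Ψ (r8 a) * ι (mS p))) :
    (p = (0, 0) ∧ ∃ j, r8 a = r3 j) ∨
    (p.2 = 1 ∧ (a = (0, 0, 0) ∨ ∃ j, r8 a * r3 j = r8 (1, 1, 1))) := by
  obtain ⟨nTD, nTt, nTq, -⟩ := B.separations S
  obtain ⟨-, -, h81, -, -, -, -, h8sq⟩ := r8_facts
  obtain ⟨-, hsq, hS0, -, -, -, -, -, hS1⟩ := mS_facts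
  have hx2 : ι (mS p * mS p) = 1 := by
    obtain ⟨g, hg⟩ := isConj_iff.1 h
    have h2 : Ψ (r8 a) * ι (mS p) * (Ψ (r8 a) * ι (mS p)) = 1 := by
      rw [← hg, show g * ι mC0 * g⁻¹ * (g * ι mC0 * g⁻¹) = g * (ι mC0 * ι mC0) * g⁻¹ by group,
        ← map_mul ι mC0 mC0, show mC0 * mC0 = 1 from tri_words.2.2.2.2.2.2.2.2.2.2.2.2.2.2.2.2.2,
        map_one, mul_one, mul_inv_cancel]
    rw [(show Commute (ι (mS p)) (Ψ (r8 a)) from B.commute_mS S p _).mul_mul_mul_comm,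
      ← map_mul Ψ, h8sq, map_one, one_mul, ← map_mul] at h2
    exact h2
  by_cases hp : p = (0, 0)
  · subst hp
    rw [hS0, map_one, mul_one] at h
    rcases r8_cases a with rfl | hj | rfl | ⟨hd, -⟩
    · exfalso
      obtain ⟨g, hg⟩ := isConj_iff.1 h
      rw [h81, map_one, conj_eq_one_iff] at hg
      exact (by decide +kernel : mC0 ≠ 1) (B.inj (hg.trans (map_one ι).symm))
    · exact Or.inl ⟨rfl, hj⟩
    · exact (nTt (B.triple_std S ▸ h)).elim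
    · exact (nTD (h.trans (B.double_six S hd).symm)).elim
  · right
    have hp2 := hsq p hp (B.inj (hx2.trans (map_one ι).symm))
    refine ⟨hp2, ?_⟩
    obtain ⟨i, e⟩ := p
    obtain rfl : e = 1 := hp2
    rcases r8_cases a with ha | ⟨j, hj⟩ | rfl | ⟨-, hj⟩
    · exact Or.inl ha
    · rw [hj] at h
      exact (nTD (h.trans (B.double_mixed S (r3_conj j) i).symm)).elim
    · exact (nTq (h.trans (B.quad_std S i).symm)).elim
    · exact Or.inr hj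

end Base

end Cfsg.Agent.S9Three
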