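import Cfsg.Agent.Lib.S9Three.Forms

/-!
S3343: the conjugate of three standard transpositions used for the relation between crossing
transpositions.
-/

set_option autoImplicit false
set_option maxRecDepth 20000

namespace Cfsg.Agent.S9Three

open Cfsg.Agent.ThreeTI.Cube (V)
open Cfsg.Agent.A9Three (six ce)
open Equiv

universe u

variable {G : Type u} [Group G]

/-- `(2 5)`. -/
def ta (Ψ : Perm (Fin 6) →* G) : G := Ψ (swap 2 5)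

/-- `(5 6)`. -/
def tb (ι : Mw →* G) (Ψ : Perm (Fin 6) →* G) : G := ι mPi * Ψ (swap 2 3) * (ι mPi)⁻¹

/-- `(2 6)`. -/
def tc (ι : Mw →* G) (Ψ : Perm (Fin 6) →* G) : G :=
  ι (mPi ^ 2) * Ψ (swap 0 5) * (ι (mPi ^ 2))⁻¹

/-- The conjugating element. -/
def hh (ι : Mw →* G) (Ψ : Perm (Fin 6) →* G) : G := ι (mPi ^ 2) * Ψ kap

theorem conj_mul' (g a b : G) : g * a * g⁻¹ * (g * b * g⁻¹) = g * (a * b) * g⁻¹ := by group

theorem isConj_conj_iff (T g x : G) : IsConj T (g * x * g⁻¹) ↔ IsConj T x :=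
  ⟨fun h => h.trans (isConj_iff.2 ⟨g⁻¹, by group⟩), fun h => h.trans (isConj_iff.2 ⟨g, rfl⟩)⟩

namespace Base

variable {θ : V →* G} {ι : Mw →* G} (B : Base θ ι) {Ψ : Perm (Fin 6) →* G} (S : Psi6 θ ι Ψ)
include B S

theorem hh_spec :
    hh ι Ψ * Ψ (r3 0) * (hh ι Ψ)⁻¹ = ι mA0 ∧ hh ι Ψ * Ψ (r3 1) * (hh ι Ψ)⁻¹ = ι mC1 ∧
    hh ι Ψ * Ψ (r3 2) * (hh ι Ψ)⁻¹ = tc ι Ψ ∧ hh ι Ψ * ι mC0 * (hh ι Ψ)⁻¹ = ι mB0 := by
  obtain ⟨k1, k2, k3, k4, k5, k6⟩ := kap_facts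
  have e : ∀ s, hh ι Ψ * Ψ s * (hh ι Ψ)⁻¹ =
      ι (mPi ^ 2) * Ψ (kap * s * kap⁻¹) * (ι (mPi ^ 2))⁻¹ := fun s => by
    simp only [hh, map_mul, map_inv]; group
  refine ⟨?_, ?_, ?_, ?_⟩
  · rw [e, show r3 0 = swap 0 3 from rfl, k1, S.agree_conj _ _ _ k4]
  · rw [e, show r3 1 = swap 1 4 from rfl, k2, S.agree_conj _ _ _ k5]
  · rw [e, show r3 2 = swap 2 5 from rfl, k3, tc]
  · have hc : Commute (Ψ kap) (ι mC0) :=
      (S.comm_of_fix B _ tri_words.2.2.2.2.2.2.2.2.2.2.2.2.1 _).symm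
    rw [← k6, map_mul, map_mul, map_inv, hh, mul_inv_rev, mul_assoc (ι (mPi ^ 2)), hc.eq]
    group

omit S in
theorem comm_uv : Commute (ι mA0) (ι mC1) :=
  (show Commute mA0 mC1 by unfold Commute SemiconjBy; decide +kernel).map ι

theorem ab_facts :
    (Commute (ta Ψ) (ι mA0) ∧ Commute (ta Ψ) (ι mC1) ∧ Commute (ta Ψ) (ι mB0)) ∧
    (Commute (tb ι Ψ) (ι mA0) ∧ Commute (tb ι Ψ) (ι mC1) ∧ Commute (tb ι Ψ) (ι mB0)) ∧
    (Commute (tc ι Ψ) (ι mA0) ∧ Commute (tc ι Ψ) (ι mC1) ∧ Commute (tc ι Ψ) (ι mB0)) := by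
  obtain ⟨w1, w2, w3, -, -, -, -, -, -, -, -, wA, fC0, -, -, -, -, -⟩ := tri_words
  obtain ⟨-, -, -, k4, k5, k6⟩ := kap_facts
  have hΨ : ∀ {p q : Perm (Fin 6)}, p * q = q * p → Commute (Ψ p) (Ψ q) := fun h =>
    (show Commute _ _ from h).map Ψ
  have hconj : ∀ (g : G) {x y : G}, Commute x y → Commute (g * x * g⁻¹) (g * y * g⁻¹) :=
    fun g _ _ h => h.map (MulAut.conj g).toMonoidHom
  refine ⟨⟨?_, ?_, ?_⟩, ⟨?_, ?_, ?_⟩, ⟨?_, ?_, ?_⟩⟩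
  · rw [ta, ← S.agree _ _ wA]; exact hΨ (by decide +kernel)
  · exact (S.comm_of_fix B _ (fun i => rot6_facts.2.2.1 i) _).symm
  · rw [ta, ← S.agree _ _ m9_gens.2.2.1]; exact hΨ (by decide +kernel)
  · rw [tb, ← w3, map_mul, map_mul, map_inv]
    exact hconj _ (S.comm_of_fix B _ fC0 _).symm
  · rw [tb, ← S.agree_conj _ _ _ w1]; exact hconj _ (hΨ (by decide +kernel))
  · rw [tb, ← S.agree_conj _ _ _ w2]; exact hconj _ (hΨ (by decide +kernel))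
  · rw [tc, ← S.agree_conj _ _ _ k4]; exact hconj _ (hΨ (by decide +kernel))
  · rw [tc, ← S.agree_conj _ _ _ k5]; exact hconj _ (hΨ (by decide +kernel))
  · rw [tc, ← k6, map_mul, map_mul, map_inv]
    exact hconj _ (S.comm_of_fix B _ fC0 _).symm

theorem transpositions : IsConj (ι mC0) (ta Ψ) ∧ IsConj (ι mC0) (tb ι Ψ) ∧
    IsConj (ι mC0) (tc ι Ψ) := by
  obtain ⟨-, -, w3, -, -, -, -, -, -, -, -, wA, -⟩ := tri_words
  have h0 : IsConj (ι mC0) (Ψ (swap 0 1)) := by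
    rw [S.agree _ _ wA]
    exact map_conj ι (isConj_iff.2 ⟨mPi, w3⟩)
  have h : ∀ p, (p = swap 0 1 ∨ p = swap 0 3 ∨ p = swap 1 4 ∨ p = swap 2 5 ∨ p = swap 2 3 ∨
      p = swap 0 5) → IsConj (ι mC0) (Ψ p) := fun p hp =>
    h0.trans (map_conj Ψ (isConj_iff.2 (tri_six p hp)))
  exact ⟨h _ (by tauto), (isConj_conj_iff _ _ _).2 (h _ (by tauto)),
    (isConj_conj_iff _ _ _).2 (h _ (by tauto))⟩

theorem doubles : ∀ x ∈ ({ta Ψ, tb ι Ψ, tc ι Ψ} : Set G), ∀ y ∈ ({ι mA0, ι mC1, ι mB0} : Set G),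
    IsConj (ι (mA0 * mB0)) (x * y) := by
  obtain ⟨w1, w2, w3, -, -, -, -, -, -, -, -, wA, -, -⟩ := tri_words
  obtain ⟨-, -, -, k4, k5, k6⟩ := kap_facts
  have d6 : ∀ p, (p = swap 2 5 * swap 0 1 ∨ p = swap 2 5 * swap 3 4 ∨ p = swap 2 3 * swap 4 5 ∨
      p = swap 2 3 * swap 0 1 ∨ p = swap 0 5 * swap 3 4 ∨ p = swap 0 5 * swap 1 2) →
      IsConj (ι (mA0 * mB0)) (Ψ p) := fun p hp => B.double_six S (tri_double p hp)
  have mix : ∀ p (i : Fin 3), (p = swap 0 1 ∨ p = swap 0 3 ∨ p = swap 1 4 ∨ p = swap 2 5 ∨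
      p = swap 2 3 ∨ p = swap 0 5) → IsConj (ι (mA0 * mB0)) (Ψ p * ι (mS (i, 1))) :=
    fun p i hp => B.double_mixed S (tri_six p hp) i
  have hS0 : mS (1, 1) = mC0 := mS_facts.2.2.2.1
  have hS1 : mS (0, 1) = mC1 := by decide +kernel
  rintro x (rfl | rfl | rfl) y (rfl | rfl | rfl)
  · rw [ta, ← S.agree _ _ wA, ← map_mul]; exact d6 _ (by tauto)
  · rw [ta, ← hS1]; exact mix _ _ (by tauto)
  · rw [ta, ← S.agree _ _ m9_gens.2.2.1, ← map_mul]; exact d6 _ (by tauto)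
  · rw [tb, show ι mA0 = ι mPi * ι mC0 * (ι mPi)⁻¹ by rw [← map_mul, ← map_inv, ← map_mul, w3],
      conj_mul', isConj_conj_iff, ← hS0]
    exact mix _ _ (by tauto)
  · rw [tb, ← S.agree_conj _ _ _ w1, conj_mul', isConj_conj_iff, ← map_mul]; exact d6 _ (by tauto)
  · rw [tb, ← S.agree_conj _ _ _ w2, conj_mul', isConj_conj_iff, ← map_mul]; exact d6 _ (by tauto)
  · rw [tc, ← S.agree_conj _ _ _ k4, conj_mul', isConj_conj_iff, ← map_mul]; exact d6 _ (by tauto)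
  · rw [tc, ← S.agree_conj _ _ _ k5, conj_mul', isConj_conj_iff, ← map_mul]; exact d6 _ (by tauto)
  · rw [tc, show ι mB0 = ι (mPi ^ 2) * ι mC0 * (ι (mPi ^ 2))⁻¹ by
      rw [← map_mul, ← map_inv, ← map_mul, k6], conj_mul', isConj_conj_iff, ← hS0]
    exact mix _ _ (by tauto)

theorem ne_of_double [Finite G] {x y : G} (h : IsConj (ι (mA0 * mB0)) (x * y))
    (hy : y * y = 1) : x ≠ y := by
  rintro rfl
  rw [hy] at h
  exact (by decide +kernel : mA0 * mB0 ≠ 1) (B.inj ((isConj_one_left.1 h).trans (map_one ι).symm))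

theorem distinct : ta Ψ ≠ tb ι Ψ ∧ ta Ψ ≠ tc ι Ψ ∧ tb ι Ψ ≠ tc ι Ψ := by
  obtain ⟨-, -, -, wA1, wB1, wC1, wC1', w45, -, -, -, -, -, -⟩ := tri_words
  obtain ⟨n1, n2, n3, -⟩ := noncomm_six
  have fixC1 := rot6_facts.2.2.1
  have hconj : ∀ (g : G) {x y : G}, Commute x y → Commute (g * x * g⁻¹) (g * y * g⁻¹) :=
    fun g _ _ h => h.map (MulAut.conj g).toMonoidHom
  have hA1 : ι mA1 = Ψ (swap 1 2) := (S.agree _ _ wA1).symm
  have hB1 : ι mB1 = Ψ (swap 4 5) := (S.agree _ _ wB1).symm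
  have hnc : ∀ {p q : Perm (Fin 6)}, p * q ≠ q * p → ¬ Commute (Ψ p) (Ψ q) := fun h hc =>
    h (S.inj (by rw [map_mul, map_mul]; exact hc.eq))
  have hb : Commute (ι mA1) (tb ι Ψ) := by
    rw [tb, ← wC1, map_mul, map_mul, map_inv]
    exact hconj _ (S.comm_of_fix B _ fixC1 _)
  have hc : Commute (ι mB1) (tc ι Ψ) := by
    rw [tc, ← wC1', map_mul, map_mul, map_inv]
    exact hconj _ (S.comm_of_fix B _ fixC1 _)
  refine ⟨fun e => ?_, fun e => ?_, fun e => ?_⟩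
  · rw [← e, hA1, ta] at hb; exact hnc n1 hb
  · rw [← e, hB1, ta] at hc; exact hnc n2 hc
  · rw [← e, tb, ← S.agree_conj _ _ _ w45] at hc
    have h := hc.map (MulAut.conj (ι mPi)⁻¹).toMonoidHom
    simp only [MulEquiv.coe_toMonoidHom, MulAut.conj_apply, inv_inv] at h
    rw [show (ι mPi)⁻¹ * (ι mPi * Ψ (swap 1 2) * (ι mPi)⁻¹) * ι mPi = Ψ (swap 1 2) by group,
      show (ι mPi)⁻¹ * (ι mPi * Ψ (swap 2 3) * (ι mPi)⁻¹) * ι mPi = Ψ (swap 2 3) by group] at h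
    exact hnc n3 h

end Base

end Cfsg.Agent.S9Three
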