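import Cfsg.Agent.Lib.S9Three.PsiFacts
import Cfsg.Agent.Lib.S9Three.TriFacts
import Cfsg.Agent.Lib.SymPres.Coxeter

/-!
S3343: finite facts for the homomorphism from the symmetric group of degree nine.
-/

set_option autoImplicit false
set_option maxRecDepth 100000
set_option synthInstance.maxSize 4000

namespace Cfsg.Agent.S9Three

open Cfsg.Agent.ThreeTI.Cube (V)
open Cfsg.Agent.A9Three (six ce)
open Equiv

/-- The block generators. -/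
def bg : List Mw := [mA0, mA1, mB0, mB1, mC0, mC1]

theorem bg_rels :
    (mA0 * mA0 = 1 ∧ mA1 * mA1 = 1 ∧ mB0 * mB0 = 1 ∧ mB1 * mB1 = 1 ∧ mC0 * mC0 = 1 ∧
      mC1 * mC1 = 1) ∧
    (Braid mA0 mA1 ∧ Braid mB0 mB1 ∧ Braid mC0 mC1) ∧
    (∀ x ∈ [mA0, mA1], ∀ y ∈ [mB0, mB1, mC0, mC1], x * y = y * x) ∧
    (∀ x ∈ [mB0, mB1], ∀ y ∈ [mC0, mC1], x * y = y * x) := by decide +kernel

theorem adj8 : SymCoxeter.adj 8 0 = swap 0 1 ∧ SymCoxeter.adj 8 1 = swap 1 2 ∧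
    SymCoxeter.adj 8 2 = swap 2 3 ∧ SymCoxeter.adj 8 3 = swap 3 4 ∧
    SymCoxeter.adj 8 4 = swap 4 5 ∧ SymCoxeter.adj 8 5 = swap 5 6 ∧
    SymCoxeter.adj 8 6 = swap 6 7 ∧ SymCoxeter.adj 8 7 = swap 7 8 := by decide +kernel

theorem six_adj : six (swap 0 1) = swap 0 1 ∧ six (swap 1 2) = swap 1 2 ∧
    six (swap 2 3) = swap 2 3 ∧ six (swap 3 4) = swap 3 4 ∧ six (swap 4 5) = swap 4 5 ∧
    m9 mPi * six (swap 0 1) * (m9 mPi)⁻¹ = swap 3 4 ∧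
    m9 mPi * six (swap 1 2) * (m9 mPi)⁻¹ = swap 4 5 ∧
    m9 mPi * six (swap 2 3) * (m9 mPi)⁻¹ = swap 5 6 ∧
    m9 mPi * six (swap 3 4) * (m9 mPi)⁻¹ = swap 6 7 ∧
    m9 mPi * six (swap 4 5) * (m9 mPi)⁻¹ = swap 7 8 := by decide +kernel

theorem pi_split : mPi = mP * (mPi * mP * mPi⁻¹) ∨ mPi = mPi * mP * mPi⁻¹ * mP := by decide +kernel

theorem w_words : ∀ w : W, ∃ a b c : Fin 2, ∃ p ∈ perms, w = eA ^ a.val * eB ^ b.val * eps ^ c.val * p := by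
  decide +kernel

theorem inV_words : inV v1 = mA0 * mA1 ∧ inV v2 = mB0 * mB1 ∧ inV v3 = mC0 * mC1 := by decide +kernel

theorem center9 : ∀ g : Perm (Fin 9), (∀ h : Perm (Fin 9), g * h = h * g) → g = 1 := by
  intro g hg
  refine Equiv.ext fun i => ?_
  by_contra hne
  obtain ⟨k, hk1, hk2⟩ : ∃ k : Fin 9, k ≠ i ∧ k ≠ g i :=
    (by decide : ∀ i j : Fin 9, ∃ k : Fin 9, k ≠ i ∧ k ≠ j) i (g i)
  have h1 := congrArg (fun f : Perm (Fin 9) => f i) (hg (swap (g i) k))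
  simp only [Perm.coe_mul, Function.comp_apply, swap_apply_left] at h1
  rw [swap_apply_of_ne_of_ne (fun e : i = g i => hne (by rw [Perm.one_apply]; exact e.symm))
    (Ne.symm hk1)] at h1
  exact hk2 h1.symm

end Cfsg.Agent.S9Three
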