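import Cfsg.Agent.Lib.S9Three.Triangle
import Cfsg.Agent.Lib.S9Three.HomFacts

/-!
S3343: the homomorphism from the symmetric group of degree nine.
-/

set_option autoImplicit false
set_option maxRecDepth 20000

namespace Cfsg.Agent.S9Three

open Cfsg.Agent.ThreeTI.Cube (V)
open Cfsg.Agent.A9Three (six ce)
open Equiv

universe u

variable {G : Type u} [Group G]

/-- The generators. -/
def s8 (ι : Mw →* G) (Ψ : Perm (Fin 6) →* G) : ℕ → G
  | 0 => ι mA0
  | 1 => ι mA1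
  | 2 => Ψ (swap 2 3)
  | 3 => ι mB0
  | 4 => ι mB1
  | 5 => tb ι Ψ
  | 6 => ι mC0
  | _ => ι mC1

/-- The homomorphism with its compatibilities. -/
structure Sym9 (θ : V →* G) (ι : Mw →* G) (Ψ : Perm (Fin 6) →* G) (φ : Perm (Fin 9) →* G) : Prop where
  inj : Function.Injective φ
  mon : ∀ m, φ (m9 m) = ι m
  six : ∀ s, φ (six s) = Ψ s

namespace Base

variable {θ : V →* G} {ι : Mw →* G} (B : Base θ ι) {Ψ : Perm (Fin 6) →* G} (S : Psi6 θ ι Ψ)
include B S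

theorem rels [Finite G] : SymCoxeter.Rels (s8 ι Ψ) 8 := by
  obtain ⟨g1, g2, g3, g4, -, -, -⟩ := m9_gens
  obtain ⟨sA0, sA1, sX, sB0, sB1, p0, p1, p2, p3, p4⟩ := six_adj
  obtain ⟨⟨q0, q1, q3, q4, q6, q7⟩, ⟨b0, b3, b6⟩, cA, cB⟩ := bg_rels
  obtain ⟨-, -, w3, -, -, w6, -⟩ := tri_words
  have eA0 : ι mA0 = Ψ (swap 0 1) := (S.agree _ _ g1).symm
  have eA1 : ι mA1 = Ψ (swap 1 2) := (S.agree _ _ g2).symm
  have eB0 : ι mB0 = Ψ (swap 3 4) := (S.agree _ _ g3).symm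
  have eB1 : ι mB1 = Ψ (swap 4 5) := (S.agree _ _ g4).symm
  set π := ι mPi with hπ
  have tB0 : ι mB0 = π * Ψ (swap 0 1) * π⁻¹ :=
    (S.agree_conj _ _ _ (by rw [g3, sB0, p0])).symm
  have tB1 : ι mB1 = π * Ψ (swap 1 2) * π⁻¹ :=
    (S.agree_conj _ _ _ (by rw [g4, sB1, p1])).symm
  have tC0 : ι mC0 = π * Ψ (swap 3 4) * π⁻¹ :=
    (S.agree_conj _ _ _ (by rw [m9_gens.2.2.2.2.2.1, p3])).symm
  have tC1 : ι mC1 = π * Ψ (swap 4 5) * π⁻¹ :=
    (S.agree_conj _ _ _ (by rw [m9_gens.2.2.2.2.2.2, p4])).symm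
  have tA0 : ι mA0 = π * ι mC0 * π⁻¹ := by rw [hπ, ← map_mul, ← map_inv, ← map_mul, w3]
  have tA1 : ι mA1 = π * ι mC1 * π⁻¹ := by rw [hπ, ← map_mul, ← map_inv, ← map_mul, w6]
  have X : tb ι Ψ = π * Ψ (swap 2 3) * π⁻¹ := rfl
  obtain ⟨m1, m2, m3, m4, m5⟩ := mid_std
  have hsq : ∀ {m : Mw}, m * m = 1 → ι m * ι m = 1 := fun h => by rw [← map_mul, h, map_one]
  have hbr : ∀ {m n : Mw}, Braid m n → Braid (ι m) (ι n) := fun {m n} h => by
    unfold Braid
    rw [← map_mul, ← map_mul, ← map_mul, ← map_mul, h]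
  have hcm : ∀ {m n : Mw}, m * n = n * m → ι m * ι n = ι n * ι m := fun h => by
    rw [← map_mul, ← map_mul, h]
  have psq : ∀ {p : Perm (Fin 6)}, p * p = 1 → Ψ p * Ψ p = 1 := fun h => by
    rw [← map_mul, h, map_one]
  have pcm : ∀ {p q : Perm (Fin 6)}, p * q = q * p → Ψ p * Ψ q = Ψ q * Ψ p := fun h => by
    rw [← map_mul, ← map_mul, h]
  have cj : ∀ {x y : G}, x * y = y * x →
      π * x * π⁻¹ * (π * y * π⁻¹) = π * y * π⁻¹ * (π * x * π⁻¹) := fun h => by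
    rw [conj_mul', conj_mul', h]
  have cjb : ∀ {x y : G}, Braid x y → Braid (π * x * π⁻¹) (π * y * π⁻¹) := fun {x y} h => by
    unfold Braid
    rw [conj_mul', conj_mul', conj_mul', conj_mul', h]
  have fC0 := S.comm_of_fix B mC0 tri_words.2.2.2.2.2.2.2.2.2.2.2.2.1
  have fC1 := S.comm_of_fix B mC1 rot6_facts.2.2.1
  refine ⟨fun i hi => ?_, fun i hi => ?_, fun i j hij hj => ?_⟩
  · interval_cases i
    · exact hsq q0
    · exact hsq q1
    · exact psq m1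
    · exact hsq q3
    · exact hsq q4
    · show tb ι Ψ * tb ι Ψ = 1
      rw [X, conj_mul', psq m1, mul_one, mul_inv_cancel]
    · exact hsq q6
    · exact hsq q7
  · have hi' : i < 7 := by omega
    interval_cases i
    · exact hbr b0
    · show Braid (ι mA1) (Ψ (swap 2 3))
      rw [eA1]; exact S.braid_map m2
    · show Braid (Ψ (swap 2 3)) (ι mB0)
      rw [eB0]; exact S.braid_map m3
    · exact hbr b3
    · show Braid (ι mB1) (tb ι Ψ)
      rw [tB1, X]; exact cjb (S.braid_map m2)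
    · show Braid (tb ι Ψ) (ι mC0)
      rw [tC0, X]; exact cjb (S.braid_map m3)
    · exact hbr b6
  · obtain hi : i < 8 := by omega
    interval_cases i <;> interval_cases j
    all_goals first
      | (refine hcm (cA _ ?_ _ ?_) <;> simp; done)
      | (refine hcm (cB _ ?_ _ ?_) <;> simp; done)
      | (show ι mA0 * Ψ (swap 2 3) = Ψ (swap 2 3) * ι mA0; rw [eA0]; exact pcm m4)
      | (show Ψ (swap 2 3) * ι mB1 = ι mB1 * Ψ (swap 2 3); rw [eB1]; exact pcm m5)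
      | (show ι mA0 * tb ι Ψ = tb ι Ψ * ι mA0; rw [tA0, X]; exact cj (fC0 _).eq)
      | (show ι mA1 * tb ι Ψ = tb ι Ψ * ι mA1; rw [tA1, X]; exact cj (fC1 _).eq)
      | (show ι mB0 * tb ι Ψ = tb ι Ψ * ι mB0; rw [tB0, X]; exact cj (pcm m4))
      | (show tb ι Ψ * ι mC1 = ι mC1 * tb ι Ψ; rw [tC1, X]; exact cj (pcm m5))
      | exact (fC0 _).eq.symm
      | exact (fC1 _).eq.symm
      | exact (B.comm_cross S).eq

theorem exists_sym9 [Finite G] : ∃ φ : Perm (Fin 9) →* G, Sym9 θ ι Ψ φ := by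
  classical
  obtain ⟨φ, hφ, -⟩ := SymCoxeter.exists_hom 8 (s8 ι Ψ) (B.rels S)
  obtain ⟨a0, a1, a2, a3, a4, a5, a6, a7⟩ := adj8
  have h0 : φ (swap 0 1) = ι mA0 := a0 ▸ hφ 0 (by norm_num)
  have h1 : φ (swap 1 2) = ι mA1 := a1 ▸ hφ 1 (by norm_num)
  have h2 : φ (swap 2 3) = Ψ (swap 2 3) := a2 ▸ hφ 2 (by norm_num)
  have h3 : φ (swap 3 4) = ι mB0 := a3 ▸ hφ 3 (by norm_num)
  have h4 : φ (swap 4 5) = ι mB1 := a4 ▸ hφ 4 (by norm_num)
  have h5 : φ (swap 5 6) = tb ι Ψ := a5 ▸ hφ 5 (by norm_num)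
  have h6 : φ (swap 6 7) = ι mC0 := a6 ▸ hφ 6 (by norm_num)
  have h7 : φ (swap 7 8) = ι mC1 := a7 ▸ hφ 7 (by norm_num)
  obtain ⟨g1, g2, g3, g4, g5, g6, g7⟩ := m9_gens
  obtain ⟨sA0, sA1, sX, sB0, sB1, p0, p1, p2, p3, p4⟩ := six_adj
  have hsix : φ.comp six = Ψ := MonoidHom.eq_of_eqOn_dense closure_six fun t ht => by
    simp only [Set.mem_insert_iff, Set.mem_singleton_iff] at ht
    rcases ht with rfl | rfl | rfl | rfl | rfl <;> simp only [MonoidHom.comp_apply]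
    · rw [sA0, h0, S.agree _ _ g1]
    · rw [sA1, h1, S.agree _ _ g2]
    · rw [sX, h2]
    · rw [sB0, h3, S.agree _ _ g3]
    · rw [sB1, h4, S.agree _ _ g4]
  have htw : φ.comp ((MulAut.conj (m9 mPi)).toMonoidHom.comp six) =
      (MulAut.conj (ι mPi)).toMonoidHom.comp Ψ := MonoidHom.eq_of_eqOn_dense closure_six fun t ht => by
    simp only [Set.mem_insert_iff, Set.mem_singleton_iff] at ht
    rcases ht with rfl | rfl | rfl | rfl | rfl <;>
      simp only [MonoidHom.comp_apply, MulEquiv.coe_toMonoidHom, MulAut.conj_apply]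
    · rw [p0, h3]; exact (S.agree_conj _ _ _ (by rw [g3, sB0, p0])).symm
    · rw [p1, h4]; exact (S.agree_conj _ _ _ (by rw [g4, sB1, p1])).symm
    · rw [p2, h5]; rfl
    · rw [p3, h6]; exact (S.agree_conj _ _ _ (by rw [g6, p3])).symm
    · rw [p4, h7]; exact (S.agree_conj _ _ _ (by rw [g7, p4])).symm
  let E : Subgroup Mw := (φ.comp m9).eqLocus ι
  have hmE : ∀ {m : Mw}, φ (m9 m) = ι m → m ∈ E := fun h => h
  have eA0 : mA0 ∈ E := hmE (by rw [g1, sA0, h0])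
  have eA1 : mA1 ∈ E := hmE (by rw [g2, sA1, h1])
  have eB0 : mB0 ∈ E := hmE (by rw [g3, sB0, h3])
  have eB1 : mB1 ∈ E := hmE (by rw [g4, sB1, h4])
  have eC0 : mC0 ∈ E := hmE (by rw [g6, h6])
  have eC1 : mC1 ∈ E := hmE (by rw [g7, h7])
  have eP : mP ∈ E := hmE (by
    rw [g5, show φ (six _) = Ψ _ from DFunLike.congr_fun hsix _]; exact S.agree _ _ g5)
  have eQ : mPi * mP * mPi⁻¹ ∈ E := hmE (by
    have h := DFunLike.congr_fun htw (swap 0 3 * swap 1 4 * swap 2 5)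
    simp only [MonoidHom.comp_apply, MulEquiv.coe_toMonoidHom, MulAut.conj_apply] at h
    rw [map_mul m9, map_mul m9, map_inv m9, g5, h, map_mul ι, map_mul ι, map_inv ι,
      S.agree _ _ g5])
  have ePi : mPi ∈ E := by
    rcases pi_split with h | h <;> rw [h]
    exacts [mul_mem eP eQ, mul_mem eQ eP]
  have hWall : ∀ w : W, inW w ∈ E := by
    intro w
    obtain ⟨a, b, c, p, hp, rfl⟩ := w_words w
    simp only [map_mul, map_pow]
    refine mul_mem (mul_mem (mul_mem (pow_mem eA1 _) (pow_mem eB1 _)) (pow_mem eC1 _)) ?_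
    have c1 : inW cyc ∈ E := ePi
    have t1 : inW tau ∈ E := eP
    simp only [perms, List.mem_cons, List.not_mem_nil, or_false] at hp
    rcases hp with rfl | rfl | rfl | rfl | rfl | rfl <;>
      (try simp only [map_mul, map_one])
    exacts [one_mem _, c1, mul_mem c1 c1, t1, mul_mem c1 t1, mul_mem (mul_mem c1 c1) t1]
  have hVall : ∀ v : V, inV v ∈ E := by
    intro v
    obtain ⟨e1, e2, e3⟩ := inV_words
    rw [basis_spec v, map_mul, map_mul, map_pow, map_pow, map_pow, e1, e2, e3]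
    exact mul_mem (mul_mem (pow_mem (mul_mem eA0 eA1) _) (pow_mem (mul_mem eB0 eB1) _))
      (pow_mem (mul_mem eC0 eC1) _)
  refine ⟨φ, ⟨?_, fun m => ?_, DFunLike.congr_fun hsix⟩⟩
  · refine perm_hom_injective (n := 9) (by norm_num) center9 φ (swap 0 1 * swap 1 2)
      (by decide +kernel) fun e => ?_
    rw [map_mul, h0, h1, ← map_mul] at e
    exact (by decide +kernel : mA0 * mA1 ≠ 1) (B.inj (e.trans (map_one ι).symm))
  · have h := mul_mem (hVall m.left) (hWall m.right)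
    rwa [SemidirectProduct.inl_left_mul_inr_right] at h

end Base

end Cfsg.Agent.S9Three
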