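import Cfsg.Agent.Lib.S9Three.Monomial

/-!
S3343: from the hypotheses to the configuration.
-/

set_option autoImplicit false
set_option maxRecDepth 20000

namespace Cfsg.Agent.S9Three

open Cfsg.Agent.ThreeTI.Cube (V)
open Equiv (Perm)

universe u

variable {G : Type u} [Group G]

/-- The data given by an isomorphism of the centraliser with that in the symmetric group. -/
structure Coord (x : G) (θ : V →* G) (P : Perm (Fin 3) →* G) : Prop where
  hx : θ vx = x
  conj : ∀ σ v, P σ * θ v * (P σ)⁻¹ = θ (sact σ v)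
  form : ∀ g, g * x = x * g → ∃ v σ, g = θ v * P σ
  inj : ∀ v σ, θ v * P σ = 1 → v = 1 ∧ σ = 1

theorem exists_coord (x : G) (hx : orderOf x = 3) {C9 : Subgroup (Perm (Fin 9))}
    (hC9 : ∀ g, g ∈ C9 ↔ g * tr vx = tr vx * g)
    (e : Subgroup.centralizer ({x} : Set G) ≃* C9) : ∃ θ P, Coord x θ P := by
  have htr : ∀ v, tr v ∈ C9 := fun v => (hC9 _).2 (by rw [← map_mul, ← map_mul, mul_comm])
  have hblk : ∀ σ, blk σ ∈ C9 := fun σ => (hC9 _).2 (by rw [blk_tr, sact_vx])
  let f : C9 →* G := (Subgroup.centralizer ({x} : Set G)).subtype.comp e.symm.toMonoidHom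
  have hfi : Function.Injective f := Subtype.coe_injective.comp e.symm.injective
  let θ0 : V →* G := f.comp (tr.codRestrict C9 htr)
  let P : Perm (Fin 3) →* G := f.comp (blk.codRestrict C9 hblk)
  have conj : ∀ σ v, P σ * θ0 v * (P σ)⁻¹ = θ0 (sact σ v) := by
    intro σ v
    simp only [P, θ0, MonoidHom.comp_apply, ← map_inv, ← map_mul]
    refine congrArg f (Subtype.ext ?_)
    show blk σ * tr v * blk σ⁻¹ = tr (sact σ v)
    rw [blk_tr, map_inv, mul_inv_cancel_right]
  have form : ∀ g, g * x = x * g → ∃ v σ, g = θ0 v * P σ := by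
    intro g hg
    let gC : Subgroup.centralizer ({x} : Set G) := ⟨g, Subgroup.mem_centralizer_singleton_iff.2 hg⟩
    obtain ⟨v, σ, h⟩ := cent_form ((hC9 _).1 (e gC).2)
    refine ⟨v, σ, ?_⟩
    simp only [P, θ0, MonoidHom.comp_apply, ← map_mul]
    have h1 : e gC = tr.codRestrict C9 htr v * blk.codRestrict C9 hblk σ := Subtype.ext h
    rw [← h1]
    simp [f, gC]
  have inj : ∀ v σ, θ0 v * P σ = 1 → v = 1 ∧ σ = 1 := by
    intro v σ h
    simp only [P, θ0, MonoidHom.comp_apply, ← map_mul] at h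
    exact tr_blk_one v σ (congrArg Subtype.val (hfi (h.trans (map_one f).symm)))
  have hθi : Function.Injective θ0 := (injective_iff_map_eq_one θ0).2 fun v h =>
    (inj v 1 (by rw [h, map_one, one_mul])).1
  have hxc : ∀ y : Subgroup.centralizer ({x} : Set G), x * (y : G) = y * x := fun y =>
    (Subgroup.mem_centralizer_singleton_iff.1 y.2).symm
  obtain ⟨v, σ, hxv⟩ := form x rfl
  have hcomm : ∀ y : Subgroup.centralizer ({x} : Set G), (y : G) * (θ0 v * P σ) =
      θ0 v * P σ * y := fun y => by rw [← hxv, hxc]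
  have hσ : σ = 1 := by
    refine sact_faithful σ fun u => hθi ?_
    rw [← conj]
    have h1 : θ0 u * (θ0 v * P σ) = θ0 v * P σ * θ0 u := hcomm (e.symm _)
    rw [← mul_assoc, ← map_mul, mul_comm u v, map_mul, mul_assoc, mul_assoc,
      mul_right_inj] at h1
    rw [← h1, mul_inv_cancel_right]
  subst hσ
  rw [map_one, mul_one] at hxv
  have hv : v = 1 ∨ v = vx ∨ v = vx⁻¹ := sact_fixed v fun π => hθi (by
    rw [← conj, ← hxv]
    have h1 : x * P π = P π * x := hxc (e.symm _)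
    rw [← h1, mul_inv_cancel_right])
  rcases hv with rfl | rfl | rfl
  · exfalso
    rw [hxv, map_one, orderOf_one] at hx
    omega
  · exact ⟨θ0, P, hxv.symm, conj, form, inj⟩
  · let inv : V →* V := MonoidHom.mk' (fun v => v⁻¹) fun a b => mul_inv a b
    refine ⟨θ0.comp inv, P, hxv.symm, fun σ v => ?_, fun g hg => ?_, fun v σ h => ?_⟩
    · show P σ * θ0 v⁻¹ * (P σ)⁻¹ = θ0 (sact σ v)⁻¹
      rw [conj, sact_inv]
    · obtain ⟨v, σ, rfl⟩ := form g hg
      exact ⟨v⁻¹, σ, by show _ = θ0 v⁻¹⁻¹ * _; rw [inv_inv]⟩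
    · exact ⟨inv_eq_one.1 (inj v⁻¹ σ h).1, (inj v⁻¹ σ h).2⟩

namespace Coord

variable {x : G} {θ : V →* G} {P : Perm (Fin 3) →* G} (C : Coord x θ P)
include C

theorem inj_θ : Function.Injective θ := (injective_iff_map_eq_one θ).2 fun v h =>
  (C.inj v 1 (by rw [h, map_one, one_mul])).1

theorem mul_form (a b : V) (σ π : Perm (Fin 3)) :
    θ a * P σ * (θ b * P π) = θ (a * sact σ b) * P (σ * π) := by
  rw [map_mul, map_mul, ← C.conj]; group

theorem form_inj {a b : V} {σ π : Perm (Fin 3)} (h : θ a * P σ = θ b * P π) : (a, σ) = (b, π) := by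
  have h1 : θ (b⁻¹ * a) * P (σ * π⁻¹) = 1 := by
    rw [map_mul, map_mul, map_inv, map_inv,
      show (θ b)⁻¹ * θ a * (P σ * (P π)⁻¹) = (θ b)⁻¹ * (θ a * P σ) * (P π)⁻¹ by group, h]
    group
  obtain ⟨h2, h3⟩ := C.inj _ _ h1
  rw [inv_mul_eq_one.1 h2, mul_inv_eq_one.1 h3]

theorem range_eq [Finite G] (J : Subgroup G) (hJC : J ≤ Subgroup.centralizer ({x} : Set G))
    (hJcomm : IsMulCommutative J) (hJexp : ∀ j ∈ J, j ^ 3 = 1) (hJcard : Nat.card J = 27) :
    J = θ.range := by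
  classical
  have hc : Nat.card θ.range = 27 := by
    rw [← Nat.card_congr (MonoidHom.ofInjective C.inj_θ).toEquiv, Nat.card_eq_fintype_card]
    decide
  suffices h : J ≤ θ.range from Subgroup.eq_of_le_of_card_ge h (by rw [hc, hJcard])
  intro j hj
  have hf : ∀ i ∈ J, i * x = x * i := fun i hi =>
    Subgroup.mem_centralizer_singleton_iff.1 (hJC hi)
  have hcube : ∀ v σ, (θ v * P σ) ^ 3 = 1 → σ ^ 3 = 1 := by
    intro v σ h
    rw [pow_three, C.mul_form, C.mul_form] at h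
    rw [pow_three]
    exact (C.inj _ _ h).2
  obtain ⟨v, σ, rfl⟩ := C.form j (hf j hj)
  by_cases hσ : σ = 1
  · exact ⟨v, by rw [hσ, map_one, mul_one]⟩
  exfalso
  have hlt := pmul_three v σ hσ (hcube v σ (hJexp _ hj))
  choose a b hab using fun i : J => C.form (i : G) (hf i i.2)
  refine absurd hlt (not_lt.2 ?_)
  rw [← hJcard, ← Fintype.card_coe, ← Nat.card_eq_fintype_card]
  refine Nat.card_le_card_of_injective (fun i : J => ⟨(a i, b i), ?_⟩) fun i i' h => ?_
  · refine Finset.mem_filter.2 ⟨Finset.mem_univ _, hcube _ (b i) ((hab i) ▸ hJexp _ i.2), ?_⟩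
    have h1 := congrArg Subtype.val (hJcomm.is_comm.comm (⟨_, hj⟩ : J) i)
    simp only [Subgroup.coe_mul] at h1
    rw [hab i, C.mul_form, C.mul_form] at h1
    exact C.form_inj h1
  · have h2 := congrArg Subtype.val h
    refine Subtype.ext ?_
    rw [hab i, hab i', show a i = a i' from congrArg Prod.fst h2,
      show b i = b i' from congrArg Prod.snd h2]

theorem pre (hsig : ∀ R : Subgroup G, (Nat.card R).Coprime 3 →
    (∀ v, R.map (MulAut.conj (θ v)).toMonoidHom = R) → R = ⊥) : Pre θ where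
  inj := C.inj_θ
  sig := hsig
  stab g hg := by
    rw [C.hx] at hg
    obtain ⟨v, σ, rfl⟩ := C.form g hg
    refine ⟨σ, fun u => ?_⟩
    rw [show θ v * P σ * θ u * (θ v * P σ)⁻¹ = θ v * (P σ * θ u * (P σ)⁻¹) * (θ v)⁻¹ by group,
      C.conj, ← map_mul, mul_comm, map_mul, mul_inv_cancel_right]
  perm σ := ⟨_, C.conj σ⟩
  selfc g hg := by
    obtain ⟨v, σ, rfl⟩ := C.form g (C.hx ▸ hg vx)
    refine ⟨v, ?_⟩
    rw [sact_faithful σ fun u => C.inj_θ ?_, map_one, mul_one]
    rw [← C.conj]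
    have h1 := hg u
    rw [mul_assoc, ← mul_assoc (θ u), ← map_mul θ u, mul_comm u v, map_mul, mul_assoc,
      mul_right_inj] at h1
    rw [h1, mul_inv_cancel_right]

end Coord

/-- The configuration from the hypotheses of the statement. -/
theorem exists_loc_of_hyps [Finite G] (x : G) (hx : orderOf x = 3)
    (eC : Subgroup.centralizer ({x} : Set G) ≃*
      Subgroup.centralizer ({Equiv.swap (0 : Fin 9) 1 * Equiv.swap 1 2 * Equiv.swap 3 4 *
        Equiv.swap 4 5 * Equiv.swap 6 7 * Equiv.swap 7 8} : Set (Perm (Fin 9))))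
    (J : Subgroup G) (hJC : J ≤ Subgroup.centralizer ({x} : Set G)) (hJcomm : IsMulCommutative J)
    (hJexp : ∀ j ∈ J, j ^ 3 = 1) (hJcard : Nat.card J = 27)
    (hJsig : ∀ K : Subgroup G, (Nat.card K).Coprime 3 →
      (∀ j ∈ J, K.map (MulAut.conj j).toMonoidHom = K) → K = ⊥) :
    ∃ θ : V →* G, Loc θ ∧ θ.range = J ∧ θ vx = x := by
  obtain ⟨θ, P, C⟩ := exists_coord x hx (fun g => by
    rw [Subgroup.mem_centralizer_singleton_iff, tr_vx]) eC
  have hJ := C.range_eq J hJC hJcomm hJexp hJcard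
  obtain ⟨θ', hL, hr, he⟩ := (C.pre fun R hR h => hJsig R hR fun j hj => by
    obtain ⟨v, rfl⟩ := hJ ▸ hj
    exact h v).exists_loc
  exact ⟨θ', hL, hr.trans hJ.symm, he.trans C.hx⟩

end Cfsg.Agent.S9Three
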