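import Cfsg.Agent.Lib.S9Three.Setup
import Cfsg.Agent.Lib.S9Three.Facts

/-!
S3343: the group induced on the elementary abelian subgroup is one of four monomial groups.
-/

set_option autoImplicit false
set_option maxRecDepth 20000

namespace Cfsg.Agent.S9Three

open Cfsg.Agent.ThreeTI.Cube (V)

universe u

variable {G : Type u} [Group G] {θ : V →* G}

namespace Loc

variable (C : Loc θ)
include C

theorem lift_perm {a : W} (ha : a ∈ perms) : Lift θ a := C.perm a (perms_fix a ha)

theorem lift_inv [Finite G] {a : W} (ha : Lift θ a) : Lift θ a⁻¹ := by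
  rw [C.lift_iff] at ha ⊢
  exact inv_mem ha

theorem lift_core [Finite G] {a b : W} (ha : a ∈ perms) (hb : b ∈ perms) (d : W) :
    Lift θ (a * d * b) ↔ Lift θ d := by
  rw [C.lift_iff, C.lift_iff]
  have h1 := (C.lift_iff a).1 (C.lift_perm ha)
  have h2 := (C.lift_iff b).1 (C.lift_perm hb)
  rw [Subgroup.mul_mem_cancel_right _ h2, Subgroup.mul_mem_cancel_left _ h1]

/-- The kind of the configuration. -/
theorem exists_kind [Finite G] : ∃ k : Fin 4, ∀ w : W, Lift θ w ↔ inQ k w = true := by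
  classical
  have hm : ∀ {a b : W}, Lift θ a → Lift θ b → Lift θ (a * b) := fun ha hb => C.lift_mul ha hb
  have hc : ∀ {d : W}, Lift θ d → Lift θ (cyc * d * (cyc * cyc)) ∧ Lift θ (cyc * cyc * d * cyc) :=
    fun hd => ⟨(C.lift_core (by decide) (by decide) _).2 hd,
      (C.lift_core (by decide) (by decide) _).2 hd⟩
  have he_d : Lift θ eps → Lift θ dbl := fun h => by
    rcases eps_gen with e | e <;> rw [← e]
    exacts [hm h (hc h).1, hm h (hc h).2]
  have he_n : Lift θ eps → Lift θ neg := fun h => by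
    rw [← eps_neg]; exact hm (hm h (hc h).1) (hc h).2
  have hnd : Lift θ neg → Lift θ dbl → Lift θ eps := fun h1 h2 => by
    rcases neg_dbl with e | e | e <;> rw [← e]
    exacts [hm h1 (hc h2).1, hm h1 (hc h2).2, hm h1 h2]
  obtain ⟨k, h1, h2, h3⟩ : ∃ k : Fin 4, (Lift θ neg ↔ k = 1 ∨ k = 3) ∧
      (Lift θ dbl ↔ k = 2 ∨ k = 3) ∧ (Lift θ eps ↔ k = 3) := by
    by_cases e : Lift θ eps
    · exact ⟨3, by simp [he_n e], by simp [he_d e], by simp [e]⟩
    by_cases n : Lift θ neg
    · exact ⟨1, by simp [n], by simp [show ¬ Lift θ dbl from fun d => e (hnd n d)], by simp [e]⟩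
    by_cases d : Lift θ dbl
    · exact ⟨2, by simp [n], by simp [d], by simp [e]⟩
    · exact ⟨0, by simp [n], by simp [d], by simp [e]⟩
  refine ⟨k, fun w => ?_⟩
  obtain ⟨a, ha, d, hd, b, hb, rfl⟩ := double_coset w
  rw [C.lift_core ha hb]
  obtain ⟨q1, q2, q3, q4⟩ := inQ_reps a ha b hb k
  simp only [reps, List.mem_cons, List.not_mem_nil, or_false] at hd
  rcases hd with rfl | rfl | rfl | rfl
  · exact iff_of_true ⟨1, acts_one⟩ q1
  · rw [q2, decide_eq_true_iff]; exact h1
  · rw [q3, decide_eq_true_iff]; exact h2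
  · rw [q4, decide_eq_true_iff]; exact h3

end Loc

end Cfsg.Agent.S9Three
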