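import Cfsg.Agent.Lib.A9Three.Psi
import Cfsg.Agent.Lib.S9Three.FinishFacts
import Mathlib.GroupTheory.SpecificGroups.Alternating.Simple

/-!
S3343: finite facts on the symmetric group of degree six.
-/

set_option autoImplicit false
set_option maxRecDepth 100000
set_option synthInstance.maxSize 4000

namespace Cfsg.Agent.S9Three

open Equiv

/-- Adjacent transpositions of six points. -/
def sA6 : ℕ → Perm (Fin 6)
  | 0 => swap 0 1
  | 1 => swap 1 2
  | 2 => swap 2 3
  | 3 => swap 3 4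
  | _ => swap 4 5

/-- The braid relation. -/
def Braid {K : Type*} [Mul K] (a b : K) : Prop := a * b * a = b * a * b

instance {K : Type*} [Mul K] [DecidableEq K] (a b : K) : Decidable (Braid a b) := by
  unfold Braid; infer_instance

/-- A pair of generators of a symmetric group of degree three. -/
def Gen3 {K : Type*} [Mul K] [One K] (a b : K) : Prop :=
  a * a = 1 ∧ b * b = 1 ∧ a ≠ b ∧ Braid a b

instance {K : Type*} [Mul K] [One K] [DecidableEq K] (a b : K) : Decidable (Gen3 a b) := by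
  unfold Gen3; infer_instance

/-- The condition on a middle transposition. -/
def Mid {K : Type*} [Mul K] [One K] (a b c d X : K) : Prop :=
  X * X = 1 ∧ Braid b X ∧ Braid X c ∧ a * X = X * a ∧ X * d = d * X

instance {K : Type*} [Mul K] [One K] [DecidableEq K] (a b c d X : K) : Decidable (Mid a b c d X) := by
  unfold Mid; infer_instance

theorem inv_rep_facts : (swap 0 1 : Perm (Fin 6)).support.card = 2 ∧
    (swap 0 1 * swap 2 3 : Perm (Fin 6)).support.card = 4 ∧
    (swap 0 1 * swap 2 3 * swap 4 5 : Perm (Fin 6)).support.card = 6 ∧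
    (swap 0 1 : Perm (Fin 6)) ^ 2 = 1 ∧ (swap 0 1 * swap 2 3 : Perm (Fin 6)) ^ 2 = 1 ∧
    (swap 0 1 * swap 2 3 * swap 4 5 : Perm (Fin 6)) ^ 2 = 1 := by decide +kernel

theorem inv_reps : ∀ a : Perm (Fin 6), a * a = 1 → ∃ g : Perm (Fin 6),
    g * a * g⁻¹ = 1 ∨ g * a * g⁻¹ = swap 0 1 ∨ g * a * g⁻¹ = swap 0 1 * swap 2 3 ∨
      g * a * g⁻¹ = swap 0 1 * swap 2 3 * swap 4 5 := by
  haveI : Fact (Nat.Prime 2) := ⟨Nat.prime_two⟩
  intro a ha
  by_cases h1 : a = 1
  · exact ⟨1, Or.inl (by rw [h1]; group)⟩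
  have ha2 : a ^ 2 = 1 := by rw [pow_two, ha]
  obtain ⟨c2, c4, c6, q2, q4, q6⟩ := inv_rep_facts
  have h0 : a.support.card ≠ 0 := fun h => h1 (Perm.support_eq_empty_iff.1 (Finset.card_eq_zero.1 h))
  have h6 : a.support.card ≤ 6 := le_trans (Finset.card_le_univ _) (by simp)
  have h2 : 2 ∣ a.support.card := by
    rw [← Perm.sum_cycleType a]
    exact Multiset.dvd_sum fun l hl => by
      rcases (Nat.dvd_prime Nat.prime_two).1
        ((Perm.dvd_of_mem_cycleType hl).trans (orderOf_dvd_of_pow_eq_one ha2)) with rfl | rfl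
      · exact absurd (Perm.two_le_of_mem_cycleType hl) (by norm_num)
      · exact dvd_refl 2
  obtain e | e | e : a.support.card = 2 ∨ a.support.card = 4 ∨ a.support.card = 6 := by omega
  · obtain ⟨g, hg⟩ := isConj_iff.1 (isConj_of_support ha2 q2 (e.trans c2.symm))
    exact ⟨g, Or.inr (Or.inl hg)⟩
  · obtain ⟨g, hg⟩ := isConj_iff.1 (isConj_of_support ha2 q4 (e.trans c4.symm))
    exact ⟨g, Or.inr (Or.inr (Or.inl hg))⟩
  · obtain ⟨g, hg⟩ := isConj_iff.1 (isConj_of_support ha2 q6 (e.trans c6.symm))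
    exact ⟨g, Or.inr (Or.inr (Or.inr hg))⟩

set_option maxHeartbeats 0 in
theorem mid_rep : ∀ a ∈ [(1 : Perm (Fin 6)), swap 0 1, swap 0 1 * swap 2 3,
    swap 0 1 * swap 2 3 * swap 4 5], ∀ b : Perm (Fin 6), Gen3 a b →
      ∀ c : Perm (Fin 6), c * c = 1 → a * c = c * a → b * c = c * b →
        ∀ d : Perm (Fin 6), Gen3 c d → a * d = d * a → b * d = d * b →
          ∃ X : Perm (Fin 6), Mid a b c d X := by decide +kernel

theorem exists_mid {a b c d : Perm (Fin 6)} (hab : Gen3 a b) (hcd : Gen3 c d)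
    (hac : a * c = c * a) (hbc : b * c = c * b) (had : a * d = d * a) (hbd : b * d = d * b) :
    ∃ X, Mid a b c d X := by
  obtain ⟨g, hg⟩ := inv_reps a hab.1
  let f : Perm (Fin 6) ≃* Perm (Fin 6) := MulAut.conj g
  have hga : f a = g * a * g⁻¹ := rfl
  have hm : f a ∈ [(1 : Perm (Fin 6)), swap 0 1, swap 0 1 * swap 2 3,
      swap 0 1 * swap 2 3 * swap 4 5] := by rw [hga]; simpa using hg
  have g3 : ∀ {p q : Perm (Fin 6)}, Gen3 p q → Gen3 (f p) (f q) := fun {p q} h =>
    ⟨by rw [← map_mul, h.1, map_one], by rw [← map_mul, h.2.1, map_one],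
      fun e => h.2.2.1 (f.injective e), by
        unfold Braid; rw [← map_mul, ← map_mul, ← map_mul, ← map_mul, h.2.2.2]⟩
  obtain ⟨X, h1, h2, h3, h4, h5⟩ := mid_rep _ hm (f b) (g3 hab) (f c)
    (by rw [← map_mul, hcd.1, map_one]) (by rw [← map_mul, hac, map_mul])
    (by rw [← map_mul, hbc, map_mul]) (f d) (g3 hcd) (by rw [← map_mul, had, map_mul])
    (by rw [← map_mul, hbd, map_mul])
  refine ⟨f.symm X, ?_, ?_, ?_, ?_, ?_⟩ <;> (try unfold Braid) <;> refine f.injective ?_ <;>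
    simp only [map_mul, map_one, f.apply_symm_apply]
  exacts [h1, h2, h3, h4, h5]

theorem mid_unique : ∀ X : Perm (Fin 6),
    Mid (swap 0 1) (swap 1 2) (swap 3 4) (swap 4 5) X → X = swap 2 3 := by decide +kernel

theorem gens_cent_trivial : ∀ X : Perm (Fin 6), X * swap 0 1 = swap 0 1 * X →
    X * swap 1 2 = swap 1 2 * X → X * swap 3 4 = swap 3 4 * X → X * swap 4 5 = swap 4 5 * X →
    X = 1 := by decide +kernel

/-- A map of a symmetric group which is not trivial on a 3-cycle is injective. -/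
theorem perm_hom_injective {n : ℕ} {H : Type*} [Group H] (hn : 5 ≤ n)
    (hc : ∀ g : Perm (Fin n), (∀ h : Perm (Fin n), g * h = h * g) → g = 1)
    (f : Perm (Fin n) →* H) (c : Perm (Fin n)) (hcs : Perm.sign c = 1) (hfc : f c ≠ 1) :
    Function.Injective f := by
  haveI : IsSimpleGroup (alternatingGroup (Fin n)) :=
    alternatingGroup.isSimpleGroup (by simpa using hn)
  let g : alternatingGroup (Fin n) →* H := f.comp (Subgroup.subtype _)
  have hk : g.ker = ⊥ := by
    rcases g.normal_ker.eq_bot_or_eq_top with h | h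
    · exact h
    · exfalso
      have h0 : (⟨c, Perm.mem_alternatingGroup.2 hcs⟩ : alternatingGroup (Fin n)) ∈ g.ker := by
        rw [h]; exact Subgroup.mem_top _
      exact hfc (MonoidHom.mem_ker.1 h0)
  refine (injective_iff_map_eq_one f).2 fun x hx => hc x fun h => ?_
  have hs : Perm.sign (x * h * x⁻¹ * h⁻¹) = 1 := by
    rw [map_mul, map_mul, map_mul, map_inv, map_inv]
    rw [mul_comm (Perm.sign x) (Perm.sign h), mul_inv_cancel_right, mul_inv_cancel]
  have h1 : (⟨x * h * x⁻¹ * h⁻¹, Perm.mem_alternatingGroup.2 hs⟩ : alternatingGroup (Fin n)) ∈ g.ker := by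
    rw [MonoidHom.mem_ker]
    show f (x * h * x⁻¹ * h⁻¹) = 1
    simp [map_mul, hx]
  rw [hk, Subgroup.mem_bot] at h1
  have h2 := congrArg Subtype.val h1
  exact mul_inv_eq_iff_eq_mul.1 (mul_inv_eq_one.1 h2)

theorem center6 : ∀ g : Perm (Fin 6), g * swap 0 1 = swap 0 1 * g → g * swap 1 2 = swap 1 2 * g →
    g * swap 3 4 = swap 3 4 * g → g * swap 4 5 = swap 4 5 * g → g = 1 := gens_cent_trivial

end Cfsg.Agent.S9Three
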