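import Cfsg.Agent.Lib.S9Three.Mw
import Cfsg.Agent.Lib.S9Three.SixFacts
import Cfsg.Agent.Lib.S9Three.FactsTwo

/-!
S3343: finite facts relating the model, the transpositions and the six points of two triples.
-/

set_option autoImplicit false
set_option maxRecDepth 100000
set_option synthInstance.maxSize 4000

namespace Cfsg.Agent.S9Three

open Cfsg.Agent.ThreeTI.Mono
open Cfsg.Agent.ThreeTI.Cube (V)
open Cfsg.Agent.A9Three (vec six ce six_ce six_high six_injective)
open Equiv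

/-- The sign change of the first coordinate. -/
def eA : W := cyc * eps * (cyc * cyc)
/-- The sign change of the second coordinate. -/
def eB : W := cyc * cyc * eps * cyc

/-- `(0 1)`. -/
def mA0 : Mw := inV v1 * inW eA
/-- `(1 2)`. -/
def mA1 : Mw := inW eA
/-- `(3 4)`. -/
def mB0 : Mw := inV v2 * inW eB
/-- `(4 5)`. -/
def mB1 : Mw := inW eB
/-- `(6 7)`. -/
def mC0 : Mw := inV v3 * inW eps
/-- `(7 8)`. -/
def mC1 : Mw := inW eps
/-- `(0 3)(1 4)(2 5)`. -/
def mP : Mw := inW tau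
/-- The cyclic shift of the triples. -/
def mPi : Mw := inW cyc

theorem m9_gens : m9 mA0 = six (swap 0 1) ∧ m9 mA1 = six (swap 1 2) ∧ m9 mB0 = six (swap 3 4) ∧
    m9 mB1 = six (swap 4 5) ∧ m9 mP = six (swap 0 3 * swap 1 4 * swap 2 5) ∧
    m9 mC0 = swap 6 7 ∧ m9 mC1 = swap 7 8 := by decide +kernel

theorem m9_pi : ∀ i : Fin 9, m9 mPi i = i + 3 := by decide +kernel

theorem gens_right : mA0.right = eA ∧ mA1.right = eA ∧ mB0.right = eB ∧ mB1.right = eB ∧
    mP.right = tau ∧ eA ∈ stab 3 v3 ∧ eB ∈ stab 3 v3 ∧ tau ∈ stab 3 v3 ∧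
      eA * eA = 1 ∧ eB * eB = 1 ∧ tau * tau = 1 ∧ act eA v3 = v3 ∧ act eB v3 = v3 ∧
      act tau v3 = v3 ∧ nm (stab 3 v3) v1 = 1 ∧ nm (stab 3 v3) v2 = 1 ∧ nm (stab 3 v3) 1 = 1 := by
  decide +kernel

theorem v3_facts : v3 ≠ 1 ∧ central 3 v3 = false ∧ (kerN 3 v3).card = 9 ∧
    ∀ x : V, ∃ i : Fin 3, nm (stab 3 v3) (x * v3 ^ i.val) = 1 := by decide +kernel

/-- The six elements of the symmetric group on the first triple. -/
def gA : Fin 6 → Mw := ![1, mA0, mA1, mA0 * mA1, mA1 * mA0, mA0 * mA1 * mA0]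
/-- The six elements of the symmetric group on the second triple. -/
def gB : Fin 6 → Mw := ![1, mB0, mB1, mB0 * mB1, mB1 * mB0, mB0 * mB1 * mB0]

theorem gen_low : ∀ m : Mw, (∀ j : Fin 9, 6 ≤ j.val → m9 m j = j) →
    ∃ i j : Fin 6, ∃ e : Fin 2, m = gA i * gB j * mP ^ e.val := by decide +kernel

/-- The map of the stabiliser of the third unit vector onto the dihedral group of order eight. -/
def d4 (w : W) : DihedralGroup 4 :=
  if w = 1 then .r 0 else if w = tau * eA then .r 1 else if w = tau * eA * (tau * eA) then .r 2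
  else if w = eA * tau then .r 3 else if w = tau then .sr 0 else if w = tau * (tau * eA) then .sr 1
  else if w = tau * (tau * eA * (tau * eA)) then .sr 2 else .sr 3

theorem d4_spec : (∀ a ∈ stab 3 v3, ∀ b ∈ stab 3 v3, d4 (a * b) = d4 a * d4 b) ∧
    (∀ a ∈ stab 3 v3, d4 a = 1 → a = 1) ∧ ∀ x : DihedralGroup 4, ∃ a ∈ stab 3 v3, d4 a = x := by
  decide +kernel

end Cfsg.Agent.S9Three
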