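import Cfsg.Agent.Lib.S9Three.LabelFacts
import Cfsg.Agent.Lib.S9Three.Embed
import Cfsg.Agent.Lib.S9Three.Cents
import Cfsg.Agent.Lib.Recog.NineS6
import Cfsg.Agent.Lib.SymPres.Coxeter

/-!
S3343: in the large case the centraliser of the third unit translation is the product with a
symmetric group of degree six labelled by the first six points, compatibly with the model.
-/

set_option autoImplicit false
set_option maxRecDepth 20000
set_option linter.style.haveILetI false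
set_option maxHeartbeats 1000000

namespace Cfsg.Agent.S9Three

open Cfsg.Agent.ThreeTI.Cube (V)
open Cfsg.Agent.A9Three (six ce six_ce six_high six_injective)
open Equiv

universe u

variable {G : Type u} [Group G]

/-- The large case. -/
structure Base (θ : V →* G) (ι : Mw →* G) : Prop where
  loc : Loc θ
  inj : Function.Injective ι
  onV : ∀ v, ι (inV v) = θ v
  onW : ∀ w, Acts θ (ι (inW w)) w
  range : ι.range = NJ θ
  big : ¬ cg θ ![v3] ≤ NJ θ

/-- A labelling of the symmetric group of degree six in the centraliser. -/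
structure Psi6 (θ : V →* G) (ι : Mw →* G) (Ψ : Perm (Fin 6) →* G) : Prop where
  inj : Function.Injective Ψ
  le : ∀ s, Ψ s * θ v3 = θ v3 * Ψ s
  agree : ∀ m s, m9 m = six s → Ψ s = ι m
  cover : ∀ g, g * θ v3 = θ v3 * g → ∃ i : ℕ, ∃ s, g = θ v3 ^ i * Ψ s

theorem inQ_three : ∀ w : W, inQ 3 w = true := by decide +kernel

theorem three_mem {M : Type*} [Monoid M] (S : Submonoid M) {a b : M} (ha : a ∈ S) (hb : b ∈ S) :
    ∀ i : Fin 6, (![1, a, b, a * b, b * a, a * b * a] : Fin 6 → M) i ∈ S := by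
  intro i
  fin_cases i
  exacts [S.one_mem, ha, hb, S.mul_mem ha hb, S.mul_mem hb ha, S.mul_mem (S.mul_mem ha hb) ha]

theorem gA_mem (S : Submonoid Mw) (ha : mA0 ∈ S) (hb : mA1 ∈ S) (i : Fin 6) : gA i ∈ S :=
  three_mem S ha hb i

theorem gB_mem (S : Submonoid Mw) (ha : mB0 ∈ S) (hb : mB1 ∈ S) (i : Fin 6) : gB i ∈ S :=
  three_mem S ha hb i

namespace Base

variable {θ : V →* G} {ι : Mw →* G} (B : Base θ ι)
include B

theorem acts (m : Mw) : Acts θ (ι m) m.right := by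
  have h : ι m = θ m.left * ι (inW m.right) := by
    rw [← B.onV, ← map_mul]
    exact congrArg ι (SemidirectProduct.inl_left_mul_inr_right m).symm
  rw [h]
  simpa using Loc.acts_mul (Loc.acts_J m.left) (B.onW m.right)

theorem comm_iff (m : Mw) (v : V) : ι m * θ v = θ v * ι m ↔ act m.right v = v :=
  B.loc.acts_commute (B.acts m) v

theorem full : ∀ w, Lift θ w := fun w => ⟨_, B.onW w⟩

theorem hk : ∀ w, Lift θ w ↔ inQ (3 : Fin 4) w = true := fun w =>
  iff_of_true (B.full w) (inQ_three w)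

theorem exists_psi [Finite G] : ∃ Ψ : Perm (Fin 6) →* G, Psi6 θ ι Ψ := by
  classical
  haveI : Fact (Nat.Prime 3) := ⟨Nat.prime_three⟩
  obtain ⟨hv1, hvc, hv9, hvdec⟩ := v3_facts
  obtain ⟨f, P, ρ, hf, hmem, hN, hρ, hker, hrange⟩ :=
    B.loc.nine_single B.hk hv1 hvc hv9 hvdec
  have hns : ¬ (P : Subgroup f.ker).Normal := fun h =>
    B.big (B.loc.cg_le_of_normal f P hf hmem hvdec h)
  obtain ⟨dh, di, ds⟩ := d4_spec
  let π : Subgroup.normalizer ((P : Subgroup f.ker) : Set f.ker) →* DihedralGroup 4 :=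
    MonoidHom.mk' (fun g => d4 (ρ g)) fun a b => by
      rw [map_mul]; exact dh _ ((hrange _).1 ⟨a, rfl⟩) _ ((hrange _).1 ⟨b, rfl⟩)
  have hπ : Function.Surjective π := fun x => by
    obtain ⟨a, ha, rfl⟩ := ds x
    obtain ⟨g, rfl⟩ := (hrange a).2 ha
    exact ⟨g, rfl⟩
  have hπk : ∀ g, π g = 1 ↔ (g : f.ker) ∈ (P : Subgroup f.ker) := fun g => by
    rw [← hker]
    refine ⟨fun h => di _ ((hrange _).1 ⟨g, rfl⟩) h, fun h => ?_⟩
    show d4 (ρ g) = 1
    rw [h]
    decide +kernel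
  obtain ⟨e⟩ := NineS6.main P hN.card hN.centralizer_eq
    (fun x hx hx1 g hg => hN.loc x hx hx1 g (Subgroup.mem_centralizer_singleton_iff.1 hg))
    π hπ hπk hns
  -- elements of the kernel
  let incl : f.ker →* G := (cg θ ![v3]).subtype.comp f.ker.subtype
  have hincl : Function.Injective incl := Subtype.coe_injective.comp Subtype.coe_injective
  have hker2 : ∀ m : Mw, m * m = 1 → act m.right v3 = v3 → ∃ k : f.ker, incl k = ι m := by
    intro m hm hv
    have hc : ι m ∈ cg θ ![v3] := mem_cg_one.2 ((B.comm_iff m v3).2 hv)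
    refine ⟨⟨⟨ι m, hc⟩, ?_⟩, rfl⟩
    rw [MonoidHom.mem_ker]
    refine (pow_eq_one_iff_V _ (show ¬ 3 ∣ 2 by norm_num)).1 ?_
    rw [← map_pow, show (⟨ι m, hc⟩ : cg θ ![v3]) ^ 2 = 1 from Subtype.ext (by
      show ι m ^ 2 = 1
      rw [← map_pow, pow_two, hm, map_one]), map_one]
  obtain ⟨ka, hka⟩ := hker2 mA0 (by decide +kernel) (by decide +kernel)
  obtain ⟨kb, hkb⟩ := hker2 mA1 (by decide +kernel) (by decide +kernel)
  obtain ⟨kc, hkc⟩ := hker2 mB0 (by decide +kernel) (by decide +kernel)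
  obtain ⟨kd, hkd⟩ := hker2 mB1 (by decide +kernel) (by decide +kernel)
  obtain ⟨kp, hkp⟩ := hker2 mP (by decide +kernel) (by decide +kernel)
  have tr_mul : ∀ {k l : f.ker} {m n : Mw}, incl k = ι m → incl l = ι n → incl (k * l) = ι (m * n) :=
    fun h h' => by rw [map_mul, map_mul, h, h']
  have tr_eq : ∀ {k l : f.ker} {m n : Mw}, incl k = ι m → incl l = ι n → (k = l ↔ m = n) :=
    fun {k l m n} h h' => ⟨fun e' => B.inj (by rw [← h, ← h', e']),
      fun e' => hincl (by rw [h, h', e'])⟩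
  have h1 : incl 1 = ι 1 := by rw [map_one, map_one]
  have gen3 : ∀ {k l : f.ker} {m n : Mw}, incl k = ι m → incl l = ι n → Gen3 m n →
      Gen3 (e k) (e l) := by
    intro k l m n h h' g
    refine ⟨?_, ?_, fun e' => g.2.2.1 ((tr_eq h h').1 (e.injective e')), ?_⟩
    · rw [← map_mul, (tr_eq (tr_mul h h) h1).2 g.1, map_one]
    · rw [← map_mul, (tr_eq (tr_mul h' h') h1).2 g.2.1, map_one]
    · unfold Braid
      rw [← map_mul, ← map_mul, ← map_mul, ← map_mul,
        (tr_eq (tr_mul (tr_mul h h') h) (tr_mul (tr_mul h' h) h')).2 g.2.2.2]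
  have comm : ∀ {k l : f.ker} {m n : Mw}, incl k = ι m → incl l = ι n → m * n = n * m →
      e k * e l = e l * e k := fun h h' g => by
    rw [← map_mul, ← map_mul, (tr_eq (tr_mul h h') (tr_mul h' h)).2 g]
  have gab := gen3 hka hkb (by decide +kernel)
  have gcd := gen3 hkc hkd (by decide +kernel)
  have cac := comm hka hkc (by decide +kernel)
  have cbc := comm hkb hkc (by decide +kernel)
  have cad := comm hka hkd (by decide +kernel)
  have cbd := comm hkb hkd (by decide +kernel)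
  obtain ⟨X, hX⟩ := exists_mid gab gcd cac cbc cad cbd
  let s : ℕ → Perm (Fin 6) := fun i => match i with
    | 0 => e ka
    | 1 => e kb
    | 2 => X
    | 3 => e kc
    | _ => e kd
  have hs : SymCoxeter.Rels s 5 := by
    refine ⟨fun i hi => ?_, fun i hi => ?_, fun i j hij hj => ?_⟩
    · interval_cases i
      exacts [gab.1, gab.2.1, hX.1, gcd.1, gcd.2.1]
    · obtain rfl | rfl | rfl | rfl : i = 0 ∨ i = 1 ∨ i = 2 ∨ i = 3 := by omega
      exacts [gab.2.2.2, hX.2.1, hX.2.2.1, gcd.2.2.2]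
    · obtain ⟨rfl, rfl⟩ | ⟨rfl, rfl⟩ | ⟨rfl, rfl⟩ | ⟨rfl, rfl⟩ | ⟨rfl, rfl⟩ | ⟨rfl, rfl⟩ :
          (i = 0 ∧ j = 2) ∨ (i = 0 ∧ j = 3) ∨ (i = 0 ∧ j = 4) ∨ (i = 1 ∧ j = 3) ∨
            (i = 1 ∧ j = 4) ∨ (i = 2 ∧ j = 4) := by omega
      exacts [hX.2.2.2.1, cac, cad, cbc, cbd, hX.2.2.2.2]
  obtain ⟨φ, hφ, -⟩ := SymCoxeter.exists_hom 5 s hs
  have e0 : φ (swap 0 1) = e ka := hφ 0 (by norm_num)
  have e1 : φ (swap 1 2) = e kb := hφ 1 (by norm_num)
  have e3 : φ (swap 3 4) = e kc := hφ 3 (by norm_num)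
  have e4 : φ (swap 4 5) = e kd := hφ 4 (by norm_num)
  have hφi : Function.Injective φ := by
    refine perm_hom_injective (n := 6) (by norm_num)
      (fun g hg => gens_cent_trivial g (hg _) (hg _) (hg _) (hg _)) φ
      (swap (0 : Fin 6) 1 * swap 1 2) (by decide +kernel) fun h => gab.2.2.1 ?_
    rw [map_mul, e0, e1] at h
    rw [← inv_eq_of_mul_eq_one_right gab.2.1] at h
    exact (mul_inv_eq_one.1 h)
  have hφs : Function.Surjective φ := Finite.injective_iff_surjective.1 hφi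
  let Ψ : Perm (Fin 6) →* G := incl.comp (e.symm.toMonoidHom.comp φ)
  have hΨi : Function.Injective Ψ := hincl.comp (e.symm.injective.comp hφi)
  have a0 : Ψ (swap 0 1) = ι mA0 := by simp [Ψ, e0, hka]
  have a1 : Ψ (swap 1 2) = ι mA1 := by simp [Ψ, e1, hkb]
  have a3 : Ψ (swap 3 4) = ι mB0 := by simp [Ψ, e3, hkc]
  have a4 : Ψ (swap 4 5) = ι mB1 := by simp [Ψ, e4, hkd]
  obtain ⟨sp, hsp⟩ := hφs (e kp)
  have asp : Ψ sp = ι mP := by simp [Ψ, hsp, hkp]
  have hsp' : sp = swap 0 3 * swap 1 4 * swap 2 5 := by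
    have cj : ∀ {p q : Perm (Fin 6)} {m n : Mw}, Ψ p = ι m → Ψ q = ι n → mP * m = n * mP →
        sp * p = q * sp := fun hp hq hm => hΨi (by
      rw [map_mul, map_mul, asp, hp, hq, ← map_mul, ← map_mul, hm])
    have k0 := cj a0 a3 (by decide +kernel)
    have k1 := cj a1 a4 (by decide +kernel)
    have k3 := cj a3 a0 (by decide +kernel)
    have k4 := cj a4 a1 (by decide +kernel)
    obtain ⟨f1, f2, f3, f4⟩ : ((swap 0 3 * swap 1 4 * swap 2 5 : Perm (Fin 6)) * swap 0 1 =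
        swap 3 4 * (swap 0 3 * swap 1 4 * swap 2 5)) ∧
      ((swap 0 3 * swap 1 4 * swap 2 5 : Perm (Fin 6)) * swap 1 2 =
        swap 4 5 * (swap 0 3 * swap 1 4 * swap 2 5)) ∧
      ((swap 0 3 * swap 1 4 * swap 2 5 : Perm (Fin 6)) * swap 3 4 =
        swap 0 1 * (swap 0 3 * swap 1 4 * swap 2 5)) ∧
      ((swap 0 3 * swap 1 4 * swap 2 5 : Perm (Fin 6)) * swap 4 5 =
        swap 1 2 * (swap 0 3 * swap 1 4 * swap 2 5)) := by decide +kernel
    have red : ∀ {a b q r : Perm (Fin 6)}, q * a = b * q → r * a = b * r →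
        r⁻¹ * q * a = a * (r⁻¹ * q) := fun {a b q r} hq hr => by
      rw [mul_assoc, hq, ← mul_assoc, ← mul_assoc,
        show r⁻¹ * b = a * r⁻¹ by rw [eq_mul_inv_iff_mul_eq, mul_assoc, ← hr, inv_mul_cancel_left]]
    exact (inv_mul_eq_one.1 (gens_cent_trivial _ (red k0 f1) (red k1 f2) (red k3 f3)
      (red k4 f4))).symm
  subst hsp'
  refine ⟨Ψ, hΨi, fun t => mem_cg_one.1 (e.symm (φ t)).1.2, ?_, ?_⟩
  · intro m t h
    obtain ⟨i, j, n, rfl⟩ := gen_low m fun x hx => by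
      rw [h]; exact six_high t (by omega)
    obtain ⟨g1, g2, g3, g4, g5, -, -⟩ := m9_gens
    have key : ∀ m' ∈ ([mA0, mA1, mB0, mB1, mP] : List Mw),
        ∃ t', m9 m' = six t' ∧ Ψ t' = ι m' := by
      intro m' hm'
      simp only [List.mem_cons, List.not_mem_nil, or_false] at hm'
      rcases hm' with rfl | rfl | rfl | rfl | rfl
      exacts [⟨_, g1, a0⟩, ⟨_, g2, a1⟩, ⟨_, g3, a3⟩, ⟨_, g4, a4⟩, ⟨_, g5, asp⟩]
    let S : Submonoid Mw :=
      { carrier := {m' | ∃ t', m9 m' = six t' ∧ Ψ t' = ι m'}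
        one_mem' := ⟨1, by simp, by simp⟩
        mul_mem' := by
          rintro a b ⟨ta, ha, ha'⟩ ⟨tb, hb, hb'⟩
          exact ⟨ta * tb, by rw [map_mul, map_mul, ha, hb], by rw [map_mul, map_mul, ha', hb']⟩ }
    have hS : ∀ m' ∈ ([mA0, mA1, mB0, mB1, mP] : List Mw), m' ∈ S := key
    have hA : gA i ∈ S := gA_mem S (hS mA0 (by simp)) (hS mA1 (by simp)) i
    have hB : gB j ∈ S := gB_mem S (hS mB0 (by simp)) (hS mB1 (by simp)) j
    obtain ⟨t', ht', hΨt⟩ := S.mul_mem (S.mul_mem hA hB) (pow_mem (hS mP (by simp)) n.val)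
    rw [six_injective (h.symm.trans ht')]
    exact hΨt
  · intro g hg
    have hgc : g ∈ cg θ ![v3] := mem_cg_one.2 hg
    obtain ⟨-, -, huniq⟩ := B.loc.split ![v3]
      (fun w hw hfx h => stab_three 3 v3 hv1 hvc w ((mem_stab 3 v3 w).2 ⟨inQ_three w, hfx 0⟩) h)
      (nm (stab 3 v3))
      (fun w hw hfx => stab_inv 3 v3 hv1 hvc w ((mem_stab 3 v3 w).2 ⟨inQ_three w, hfx 0⟩))
    obtain ⟨P0, hP0⟩ := B.loc.sylow_cg ![v3] huniq
    have htop : ((P0.mapSurjective f.rangeRestrict_surjective : Sylow 3 f.range) :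
        Subgroup f.range) = ⊤ := by
      have hp : IsPGroup 3 (⊤ : Subgroup f.range) := fun y => ⟨1, Subtype.ext (Subtype.ext (by
        simp only [pow_one, SubgroupClass.coe_pow, OneMemClass.coe_one]
        exact cube_eq_one _))⟩
      exact ((P0.mapSurjective f.rangeRestrict_surjective).is_maximal' hp le_top).symm
    have hmemf : f.rangeRestrict ⟨g, hgc⟩ ∈
        ((P0.mapSurjective f.rangeRestrict_surjective : Sylow 3 f.range) : Subgroup f.range) := by
      rw [htop]; exact Subgroup.mem_top _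
    rw [Sylow.coe_mapSurjective] at hmemf
    obtain ⟨⟨y, hyc⟩, hy, hye⟩ := hmemf
    rw [hP0, SetLike.mem_coe, Subgroup.mem_subgroupOf] at hy
    obtain ⟨x, rfl⟩ := hy
    obtain ⟨i, hi⟩ := hvdec x
    have hv3c : θ v3 ∈ cg θ ![v3] := J_le_cg θ _ ⟨v3, rfl⟩
    have hk : (⟨g, hgc⟩ : cg θ ![v3]) * ⟨θ v3, hv3c⟩ ^ i.val ∈ f.ker := by
      rw [MonoidHom.mem_ker, map_mul, show f ⟨g, hgc⟩ = f ⟨θ x, hyc⟩ from
        (congrArg Subtype.val hye).symm, ← map_mul,
        show (⟨θ x, hyc⟩ : cg θ ![v3]) * ⟨θ v3, hv3c⟩ ^ i.val =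
          ⟨θ (x * v3 ^ i.val), J_le_cg θ _ ⟨_, rfl⟩⟩ from Subtype.ext (by simp)]
      exact (hf _ _).2 hi
    obtain ⟨t, ht⟩ := hφs (e ⟨_, hk⟩)
    refine ⟨2 * i.val, t, ?_⟩
    have hΨ : Ψ t = g * θ v3 ^ i.val := by simp [Ψ, ht, incl]
    have hc : Commute (θ v3) g := hg.symm
    rw [hΨ, ← mul_assoc, (hc.pow_left _).eq, mul_assoc, ← pow_add,
      show 2 * i.val + i.val = 3 * i.val by ring, pow_mul, ← map_pow, cube_eq_one, map_one,
      one_pow, mul_one]

end Base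

end Cfsg.Agent.S9Three
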