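import Cfsg.Agent.Lib.S9Three.Nine9

/-!
S3343: finite facts on linear maps of the space of dimension three over the field of three
elements: a group containing the coordinate permutations, in which these are the stabiliser of
the all-one vector, is monomial up to a shift of the basis.
-/

set_option autoImplicit false
set_option maxRecDepth 100000
set_option synthInstance.maxSize 4000

namespace Cfsg.Agent.S9Three

open Cfsg.Agent.ThreeTI.Mono
open Cfsg.Agent.ThreeTI.Cube (V)
open Cfsg.Agent.A9Three (vec)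

/-- A linear map given by the images of the unit vectors. -/
abbrev Lin : Type := V × V × V

/-- A power with exponent in the field. -/
def pw (a : V) (i : ZMod 3) : V := a ^ i.val

theorem pw_add : ∀ (a : V) (i j : ZMod 3), pw a (i + j) = pw a i * pw a j := by decide +kernel

/-- The value of a linear map. -/
def ap (m : Lin) (v : V) : V := pw m.1 v.toAdd.1 * pw m.2.1 v.toAdd.2.1 * pw m.2.2 v.toAdd.2.2

theorem ap_mul (m : Lin) (u v : V) : ap m (u * v) = ap m u * ap m v := by
  simp only [ap, toAdd_mul, Prod.fst_add, Prod.snd_add, pw_add]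
  ac_rfl

/-- A linear map as a homomorphism. -/
def apHom (m : Lin) : V →* V := MonoidHom.mk' (ap m) (ap_mul m)

theorem hom_ext_basis {M : Type*} [Monoid M] {f g : V →* M} (h1 : f v1 = g v1) (h2 : f v2 = g v2)
    (h3 : f v3 = g v3) : f = g := by
  refine MonoidHom.ext fun v => ?_
  rw [basis_spec v]
  simp only [map_mul, map_pow, h1, h2, h3]

theorem ap_v1 (m : Lin) : ap m v1 = m.1 := by simp [ap, pw, v1, vec, ZMod.val_one]

theorem ap_v2 (m : Lin) : ap m v2 = m.2.1 := by simp [ap, pw, v2, vec, ZMod.val_one]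

theorem ap_v3 (m : Lin) : ap m v3 = m.2.2 := by simp [ap, pw, v3, vec, ZMod.val_one]

theorem ap_of_hom (f : V →* V) (v : V) : ap (f v1, f v2, f v3) v = f v :=
  DFunLike.congr_fun (hom_ext_basis (f := apHom (f v1, f v2, f v3)) (g := f)
    (ap_v1 _) (ap_v2 _) (ap_v3 _)) v

theorem lin_ext {m n : Lin} (h : ∀ v, ap m v = ap n v) : m = n :=
  Prod.ext (by rw [← ap_v1 m, ← ap_v1 n, h])
    (Prod.ext (by rw [← ap_v2 m, ← ap_v2 n, h]) (by rw [← ap_v3 m, ← ap_v3 n, h]))

/-- The composition. -/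
def comp (m n : Lin) : Lin := (ap m n.1, ap m n.2.1, ap m n.2.2)

theorem ap_comp (m n : Lin) (v : V) : ap (comp m n) v = ap m (ap n v) := by
  have := ap_of_hom ((apHom m).comp (apHom n)) v
  simpa [comp, apHom, ap_v1, ap_v2, ap_v3] using this

/-- The identity. -/
def idL : Lin := (v1, v2, v3)

theorem ap_id : ∀ v, ap idL v = v := by decide +kernel

/-- The cyclic permutation. -/
def cL : Lin := (v2, v3, v1)

/-- A transposition. -/
def tL : Lin := (v2, v1, v3)

/-- Another transposition. -/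
def sL : Lin := (v1, v3, v2)

/-- The six permutations. -/
def permsL : List Lin := [idL, cL, comp cL cL, tL, comp cL tL, comp cL (comp cL tL)]

theorem sact_permsL : ∀ σ : Equiv.Perm (Fin 3), ∃ p ∈ permsL, ∀ v, ap p v = sact σ v := by
  decide +kernel

theorem permsL_sact : ∀ p ∈ permsL, ∃ σ : Equiv.Perm (Fin 3), ∀ v, ap p v = sact σ v := by
  decide +kernel

theorem sL_mem : sL ∈ permsL := by decide +kernel

theorem cL_cube : ∀ v : V, ap cL (ap cL (ap cL v)) = v := by decide +kernel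

theorem cL_ne : ∃ v : V, ap cL v ≠ v ∧ ap cL (ap cL v) * ap cL v * v ≠ 1 := by decide +kernel

/-- An element of order three with a single Jordan block. -/
def okL (d : Lin) : Bool :=
  decide (comp d (comp d d) = idL) && decide (d ≠ idL) &&
    !(decide (ap d d.1 * d.1 * v1 = 1) && decide (ap d d.2.1 * d.2.1 * v2 = 1) &&
      decide (ap d d.2.2 * d.2.2 * v3 = 1))

/-- A word in linear maps. -/
def evalW (g : Fin 4 → Lin) (w : List (Fin 4)) : Lin := w.foldr (fun i r => comp (g i) r) idL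

/-- A word fixing the all-one vector and not a permutation. -/
def kills (g : Fin 4 → Lin) (w : List (Fin 4)) : Bool :=
  decide (ap (evalW g w) vx = vx) && !(decide (evalW g w ∈ permsL))

/-- The words. -/
def words : List (List (Fin 4)) :=
  [[2, 2, 1, 0, 2], [2, 2, 1, 2], [2, 2, 0, 1, 2], [2, 0, 1, 2, 2], [2, 1, 0, 2, 2], [2, 1, 2, 2],
    [2, 1, 0, 2]]

/-- An element which is excluded. -/
def killed (d : Lin) : Bool := words.any fun w => kills ![cL, tL, d, idL] w

/-- The two exceptional elements of the first kind. -/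
def dA : Lin := (v2, vec 2 2 2, v3)

/-- The exceptional element of the second kind. -/
def dB : Lin := (vec 1 0 2, vec 0 0 2, vec 0 1 2)

set_option maxHeartbeats 0 in
theorem famA : ∀ a b : V, okL (a, b, v3) = true →
    killed (a, b, v3) = true ∨ (a, b, v3) = dA ∨ comp tL (comp (a, b, v3) tL) = dA := by
  decide +kernel

set_option maxHeartbeats 0 in
theorem famB : ∀ a b : V, okL (a, b, vec 0 1 1 * b⁻¹) = true →
    killed (a, b, vec 0 1 1 * b⁻¹) = true ∨ (a, b, vec 0 1 1 * b⁻¹) = dB ∨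
      comp sL (comp (a, b, vec 0 1 1 * b⁻¹) sL) = dB := by
  decide +kernel

set_option maxHeartbeats 0 in
theorem famE : ∀ a b : V, okL (a, b, b * (vec 0 1 2)⁻¹) = true →
    killed (a, b, b * (vec 0 1 2)⁻¹) = true := by
  decide +kernel

theorem killAB : kills ![cL, tL, dA, dB] [3, 2, 2, 0, 3] = true ∨
    kills ![cL, tL, dA, dB] [3, 0, 0, 2, 3] = true ∨ kills ![cL, tL, dA, dB] [3, 2, 0, 3] = true ∨
      kills ![cL, tL, dA, dB] [3, 0, 2, 1, 3] = true := by
  decide +kernel

/-- The first class of vectors outside the frame. -/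
def clsA (v : V) : Prop :=
  v ∈ [vec 1 0 0, vec 0 1 0, vec 0 0 1, vec 2 0 0, vec 0 2 0, vec 0 0 2]

instance : DecidablePred clsA := fun _ => by unfold clsA; infer_instance

/-- The second class. -/
def clsB (v : V) : Prop :=
  v ∈ [vec 0 1 1, vec 1 0 1, vec 1 1 0, vec 0 2 2, vec 2 0 2, vec 2 2 0]

instance : DecidablePred clsB := fun _ => by unfold clsB; infer_instance

theorem classes : ∀ v : V, v ≠ 1 → frame v ∨ (∃ σ : Equiv.Perm (Fin 3),
    sact σ v = v3 ∨ sact σ v = v3⁻¹ ∨ sact σ v = vec 0 1 1 ∨ sact σ v = (vec 0 1 1)⁻¹ ∨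
      sact σ v = vec 0 1 2) := by decide +kernel

theorem clsA_rep : ∀ v : V, clsA v →
    ∃ σ : Equiv.Perm (Fin 3), sact σ v = v3 ∨ sact σ v = v3⁻¹ := by decide +kernel

theorem clsB_rep : ∀ v : V, clsB v →
    ∃ σ : Equiv.Perm (Fin 3), sact σ v = vec 0 1 1 ∨ sact σ v = (vec 0 1 1)⁻¹ := by decide +kernel

/-- The shift of the basis. -/
def shiftFn (s : ZMod 3) (v : V) : V :=
  v * pw vx (s * (v.toAdd.1 + v.toAdd.2.1 + v.toAdd.2.2))

theorem shift_mul : ∀ (s : ZMod 3) (u v : V), shiftFn s (u * v) = shiftFn s u * shiftFn s v := by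
  decide +kernel

theorem shift_inv : ∀ (s : ZMod 3) (v : V), shiftFn s (shiftFn (-s) v) = v := by decide +kernel

theorem shift_vx : ∀ s : ZMod 3, shiftFn s vx = vx := by decide +kernel

theorem shift_sact : ∀ (s : ZMod 3) (σ : Equiv.Perm (Fin 3)) (v : V),
    shiftFn s (sact σ v) = sact σ (shiftFn s v) := by decide +kernel

theorem shift_cls : ∀ v : V, (frame v → v = vx ∨ v = vx⁻¹ ∨
      (clsB (shiftFn 1 v) ∧ clsA (shiftFn 2 v))) ∧
    (clsA v → frame (shiftFn 1 v) ∧ clsB (shiftFn 2 v)) ∧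
    (clsB v → clsA (shiftFn 1 v) ∧ frame (shiftFn 2 v)) := by decide +kernel

set_option maxHeartbeats 0 in
theorem monomial_of_frame : ∀ p1 p2 p3 : V, frame p1 → frame p2 → frame p3 →
    (frame (p1 * p2 * p3) →
      let m : Lin := (p1 * (p1 * p2 * p3)⁻¹, p2 * (p1 * p2 * p3)⁻¹, p3 * (p1 * p2 * p3)⁻¹)
      (∀ v : V, ap m v = 1 → v = 1) → ∃ w : W, act w v1 = m.1 ∧ act w v2 = m.2.1 ∧ act w v3 = m.2.2) ∧
    (frame (p1 * p2 * p3)⁻¹ →
      let m : Lin := ((p1 * (p1 * p2 * p3)⁻¹)⁻¹, (p2 * (p1 * p2 * p3)⁻¹)⁻¹,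
        (p3 * (p1 * p2 * p3)⁻¹)⁻¹)
      (∀ v : V, ap m v = 1 → v = 1) →
        ∃ w : W, act w v1 = m.1 ∧ act w v2 = m.2.1 ∧ act w v3 = m.2.2) := by
  decide +kernel

theorem triple_frame : ∀ y : V, frame y → y = vx ∨ y = vx⁻¹ ∨
    (∀ i : Fin 3, ∃ σ : Equiv.Perm (Fin 3),
      sact σ y = ![vec 2 1 1, vec 1 2 1, vec 1 1 2] i) ∨
    (∀ i : Fin 3, ∃ σ : Equiv.Perm (Fin 3),
      sact σ y = ![vec 1 2 2, vec 2 1 2, vec 2 2 1] i) := by decide +kernel

set_option maxHeartbeats 0 in
theorem monomial_of_flip : ∀ a b : V,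
    let m : Lin := (a, b, vx⁻¹ * (a * b)⁻¹)
    (∃ p ∈ permsL, comp m cL = comp p m) → (∃ p ∈ permsL, comp m tL = comp p m) →
      comp m m ∈ permsL → (∀ v : V, ap m v = 1 → v = 1) →
        ∃ w : W, act w v1 = m.1 ∧ act w v2 = m.2.1 ∧ act w v3 = m.2.2 := by
  decide +kernel

end Cfsg.Agent.S9Three
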