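import Cfsg.Agent.Lib.A9Three.ModelFacts

/-!
S3343: the full monomial group of degree three over the field of three elements, acting on the
elementary abelian group of order 27, and its subgroups containing the coordinate permutations.
-/

set_option autoImplicit false
set_option maxRecDepth 60000
set_option synthInstance.maxSize 2000

namespace Cfsg.Agent.S9Three

open Cfsg.Agent.ThreeTI.Mono
open Cfsg.Agent.ThreeTI.Cube (V)
open Cfsg.Agent.A9Three (vec)

/-- The monomial group. -/
abbrev W : Type := Rot × Multiplicative (ZMod 2)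

/-- The identity or the inversion. -/
def negIf (s : Multiplicative (ZMod 2)) (v : V) : V := if s = 1 then v else v⁻¹

theorem negIf_mul : ∀ (s : Multiplicative (ZMod 2)) (u v : V),
    negIf s (u * v) = negIf s u * negIf s v := by decide +kernel

theorem negIf_comp : ∀ (s t : Multiplicative (ZMod 2)) (v : V),
    negIf (s * t) v = negIf s (negIf t v) := by decide +kernel

theorem negIf_act : ∀ (q : Rot) (t : Multiplicative (ZMod 2)) (v : V),
    actFn q (negIf t v) = negIf t (actFn q v) := by decide +kernel

/-- The action of the monomial group. -/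
def act (w : W) (v : V) : V := negIf w.2 (actFn w.1 v)

theorem act_mul (w : W) (u v : V) : act w (u * v) = act w u * act w v := by
  rw [act, actFn_mul, negIf_mul]; rfl

theorem act_comp (a b : W) (v : V) : act (a * b) v = act a (act b v) := by
  show negIf (a.2 * b.2) (actFn (a.1 * b.1) v) = negIf a.2 (actFn a.1 (negIf b.2 (actFn b.1 v)))
  rw [negIf_comp, actFn_comp, negIf_act]

theorem act_id : ∀ v : V, act 1 v = v := by decide +kernel

/-- The action as a homomorphism. -/
def actHom (w : W) : V →* V := MonoidHom.mk' (act w) (act_mul w)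

theorem act_pow (w : W) (v : V) (n : ℕ) : act w (v ^ n) = act w v ^ n := map_pow (actHom w) v n

theorem act_inv (w : W) (v : V) : act w v⁻¹ = (act w v)⁻¹ := map_inv (actHom w) v

theorem act_one (w : W) : act w 1 = 1 := map_one (actHom w)

theorem act_inv_act (w : W) (v : V) : act w⁻¹ (act w v) = v := by
  rw [← act_comp, inv_mul_cancel, act_id]

theorem act_act_inv (w : W) (v : V) : act w (act w⁻¹ v) = v := by
  rw [← act_comp, mul_inv_cancel, act_id]

/-- The central element. -/
def vx : V := vec 1 1 1

/-- The unit vectors. -/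
def v1 : V := vec 1 0 0
/-- The second unit vector. -/
def v2 : V := vec 0 1 0
/-- The third unit vector. -/
def v3 : V := vec 0 0 1

theorem basis_spec : ∀ v : V, v = v1 ^ v.toAdd.1.val * v2 ^ v.toAdd.2.1.val * v3 ^ v.toAdd.2.2.val := by
  decide +kernel

theorem faithful0 : ∀ w : W, act w v1 = v1 → act w v2 = v2 → act w v3 = v3 → w = 1 := by
  decide +kernel

theorem faithful {a b : W} (h : ∀ v, act a v = act b v) : a = b := by
  have h1 : ∀ v, act (b⁻¹ * a) v = v := fun v => by rw [act_comp, h, act_inv_act]
  exact (inv_mul_eq_one.1 (faithful0 _ (h1 _) (h1 _) (h1 _))).symm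

/-- The transposition of the first two coordinates. -/
def tau : W := (⟨8⟩, Multiplicative.ofAdd 1)
/-- The cyclic permutation of the coordinates. -/
def cyc : W := (⟨15⟩, 1)
/-- The inversion. -/
def neg : W := (⟨0⟩, Multiplicative.ofAdd 1)
/-- The sign change of the third coordinate. -/
def eps : W := (⟨1⟩, Multiplicative.ofAdd 1)

theorem gens_act : ∀ v : V,
    act tau v = vec v.toAdd.2.1 v.toAdd.1 v.toAdd.2.2 ∧
    (act cyc v = vec v.toAdd.2.1 v.toAdd.2.2 v.toAdd.1 ∨ act cyc v = vec v.toAdd.2.2 v.toAdd.1 v.toAdd.2.1) ∧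
    act neg v = v⁻¹ ∧ act eps v = vec v.toAdd.1 v.toAdd.2.1 (-v.toAdd.2.2) := by decide +kernel

/-- The orbit of the central element in each of the four subgroups. -/
def inO (k : Fin 4) (v : V) : Bool :=
  match k with
  | 0 => decide (v = vx)
  | 1 => decide (v = vx ∨ v = vx⁻¹)
  | 2 => decide (v.toAdd.1 * v.toAdd.2.1 * v.toAdd.2.2 = 1)
  | 3 => decide (v.toAdd.1 * v.toAdd.2.1 * v.toAdd.2.2 ≠ 0)

/-- Membership in the four subgroups. -/
def inQ (k : Fin 4) (w : W) : Bool := inO k (act w vx)

theorem inQ_perm : ∀ k : Fin 4, ∀ w : W, act w vx = vx → inQ k w = true := by decide +kernel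

theorem perm_iff : ∀ w : W, act w vx = vx ↔
    w = 1 ∨ w = cyc ∨ w = cyc * cyc ∨ w = tau ∨ w = cyc * tau ∨ w = cyc * cyc * tau := by
  decide +kernel

/-- A vector of the frame. -/
def frame (v : V) : Prop := v.toAdd.1 * v.toAdd.2.1 * v.toAdd.2.2 ≠ 0

instance : DecidablePred frame := fun _ => by unfold frame; infer_instance

theorem frame_act : ∀ w : W, frame (act w vx) := by decide +kernel

theorem rot_three : ∀ a b : W, a * a * a = 1 → b * b * b = 1 → a ≠ 1 → a * b = b * a →
    b = 1 ∨ b = a ∨ b = a * a := by decide +kernel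

theorem w_card : Fintype.card W = 48 := by decide +kernel

theorem pow81 : ∀ w : W, w ^ 81 = 1 → w * w * w = 1 := by decide +kernel

theorem fixed_three : ∀ w : W, w * w * w = 1 → w ≠ 1 →
    (Finset.univ.filter fun v : V => act w v = v).card = 3 := by decide +kernel

/-- An element of order three fixes only one line, in the frame. -/
theorem fixed_line : ∀ w : W, w * w * w = 1 → w ≠ 1 → ∀ v : V, v ≠ 1 → act w v = v → frame v := by
  decide +kernel

end Cfsg.Agent.S9Three
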