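import Cfsg.Agent.Lib.S9Three.Model
import Mathlib.GroupTheory.Sylow
import Mathlib.GroupTheory.Nilpotent
import Mathlib.Algebra.Group.Subgroup.Pointwise

/-!
S3343: the configuration, Sylow subgroups and fusion in the elementary abelian subgroup.
-/

set_option autoImplicit false
set_option maxRecDepth 20000
set_option linter.style.haveILetI false

namespace Cfsg.Agent.S9Three

open Cfsg.Agent.ThreeTI.Cube (V)
open Cfsg.Agent.ThreeTI.Mono (Rot)

universe u

variable {G : Type u} [Group G]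

/-- An element inducing the given monomial map. -/
def Acts (θ : V →* G) (n : G) (w : W) : Prop := ∀ v, n * θ v * n⁻¹ = θ (act w v)

/-- The normaliser of the elementary abelian subgroup. -/
abbrev NJ (θ : V →* G) : Subgroup G := Subgroup.normalizer (θ.range : Set G)

/-- A monomial map induced in the normaliser. -/
def Lift (θ : V →* G) (w : W) : Prop := ∃ n, Acts θ n w

/-- The hypotheses. -/
structure Loc (θ : V →* G) : Prop where
  inj : Function.Injective θ
  sig : ∀ R : Subgroup G, (Nat.card R).Coprime 3 →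
    (∀ v, R.map (MulAut.conj (θ v)).toMonoidHom = R) → R = ⊥
  monomial : ∀ n ∈ NJ θ, ∃ w, Acts θ n w
  perm : ∀ w, act w vx = vx → Lift θ w
  centX : ∀ g, g * θ vx = θ vx * g → g ∈ NJ θ
  selfc : ∀ g, (∀ v, g * θ v = θ v * g) → g ∈ θ.range

namespace Loc

variable {θ : V →* G} (C : Loc θ)
include C

omit C in
theorem commute_J (u v : V) : θ u * θ v = θ v * θ u := by rw [← map_mul, ← map_mul, mul_comm]

theorem acts_unique {n : G} {a b : W} (ha : Acts θ n a) (hb : Acts θ n b) : a = b :=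
  faithful fun v => C.inj ((ha v).symm.trans (hb v))

omit C in
theorem acts_mem {n : G} {w : W} (h : Acts θ n w) : n ∈ NJ θ := by
  refine Subgroup.mem_normalizer_iff.2 fun x => ⟨?_, fun hx => ?_⟩
  · rintro ⟨v, rfl⟩
    exact ⟨_, (h v).symm⟩
  · obtain ⟨v, hv⟩ := hx
    refine ⟨act w⁻¹ v, ?_⟩
    have h1 := h (act w⁻¹ v)
    rw [act_act_inv, hv] at h1
    simpa using h1

omit C in
theorem acts_mul {n m : G} {a b : W} (ha : Acts θ n a) (hb : Acts θ m b) :
    Acts θ (n * m) (a * b) := fun v => by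
  rw [act_comp, ← ha, ← hb]; group

omit C in
theorem acts_one : Acts θ (1 : G) 1 := fun v => by rw [act_id]; group

omit C in
theorem acts_J (u : V) : Acts θ (θ u) 1 := fun v => by
  rw [act_id, commute_J, mul_inv_cancel_right]

/-- The monomial map induced by an element of the normaliser. -/
noncomputable def pi : NJ θ →* W :=
  MonoidHom.mk' (fun n => Classical.choose (C.monomial n n.2)) fun n m =>
    C.acts_unique (Classical.choose_spec (C.monomial _ (n * m).2))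
      (acts_mul (Classical.choose_spec (C.monomial n n.2)) (Classical.choose_spec (C.monomial m m.2)))

theorem pi_spec (n : NJ θ) : Acts θ n (C.pi n) := Classical.choose_spec (C.monomial n n.2)

theorem pi_eq {n : G} {w : W} (h : Acts θ n w) : C.pi ⟨n, acts_mem h⟩ = w :=
  C.acts_unique (C.pi_spec ⟨n, acts_mem h⟩) h

theorem mem_J_of_acts_one {n : G} (h : Acts θ n 1) : n ∈ θ.range :=
  C.selfc n fun v => mul_inv_eq_iff_eq_mul.1 (by rw [h v, act_id])

theorem pi_eq_one (n : NJ θ) : C.pi n = 1 ↔ (n : G) ∈ θ.range := by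
  refine ⟨fun h => C.mem_J_of_acts_one (h ▸ C.pi_spec n), ?_⟩
  rintro ⟨u, hu⟩
  exact C.acts_unique (C.pi_spec n) (hu ▸ acts_J u)

theorem acts_commute {n : G} {w : W} (h : Acts θ n w) (v : V) :
    n * θ v = θ v * n ↔ act w v = v := by
  rw [← mul_inv_eq_iff_eq_mul, h v, C.inj.eq_iff]

theorem lift_iff (w : W) : Lift θ w ↔ w ∈ C.pi.range :=
  ⟨fun ⟨_, h⟩ => ⟨_, C.pi_eq h⟩, fun ⟨n, hn⟩ => ⟨n, hn ▸ C.pi_spec n⟩⟩

theorem lift_mul {a b : W} (ha : Lift θ a) (hb : Lift θ b) : Lift θ (a * b) := by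
  obtain ⟨n, hn⟩ := ha
  obtain ⟨m, hm⟩ := hb
  exact ⟨_, acts_mul hn hm⟩

theorem card_J : Nat.card θ.range = 27 := by
  rw [← Nat.card_congr (MonoidHom.ofInjective C.inj).toEquiv, Nat.card_eq_fintype_card]
  decide

theorem J_isPGroup : IsPGroup 3 θ.range := IsPGroup.of_card (n := 3) C.card_J

omit C in
theorem J_le_NJ : θ.range ≤ NJ θ := Subgroup.le_normalizer

theorem cube_of_pGroup {n : G} {w : W} (h : Acts θ n w) {k : ℕ} (hk : n ^ 3 ^ k = 1) :
    w * w * w = 1 := by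
  refine pow81 _ (orderOf_dvd_iff_pow_eq_one.1 ?_)
  have h1 : orderOf w ∣ 3 ^ k := orderOf_dvd_of_pow_eq_one (by
    rw [← C.pi_eq h, ← map_pow, show (⟨n, acts_mem h⟩ : NJ θ) ^ 3 ^ k = 1 from Subtype.ext hk,
      map_one])
  have h2 : orderOf w ∣ 48 := w_card ▸ orderOf_dvd_card
  obtain ⟨i, -, hi⟩ := (Nat.dvd_prime_pow Nat.prime_three).1 h1
  rw [hi] at h2 ⊢
  have hi4 : i ≤ 4 := by
    by_contra hc
    have : 3 ^ i ≤ 48 := Nat.le_of_dvd (by norm_num) h2
    have : 3 ^ 5 ≤ 3 ^ i := Nat.pow_le_pow_right (by norm_num) (by omega)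
    omega
  rw [show (81 : ℕ) = 3 ^ 4 by norm_num]
  exact Nat.pow_dvd_pow 3 hi4

/-- An abelian subgroup of order 27 of the normaliser is the elementary abelian one. -/
theorem eq_J_of_le [Finite G] {A : Subgroup G} (hA : A ≤ NJ θ) (hp : IsPGroup 3 A)
    (hc : ∀ x ∈ A, ∀ y ∈ A, x * y = y * x) (h27 : Nat.card A = 27) : A = θ.range := by
  classical
  suffices h : A ≤ θ.range from Subgroup.eq_of_le_of_card_ge h (by rw [C.card_J, h27])
  intro x hx
  by_contra hxJ
  set q := C.pi ⟨x, hA hx⟩ with hq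
  have hq1 : q ≠ 1 := fun h => hxJ ((C.pi_eq_one _).1 h)
  have cube : ∀ y : A, C.pi ⟨y, hA y.2⟩ * C.pi ⟨y, hA y.2⟩ * C.pi ⟨y, hA y.2⟩ = 1 := by
    intro y
    obtain ⟨k, hk⟩ := hp y
    exact C.cube_of_pGroup (C.pi_spec _) (k := k) (congrArg Subtype.val hk)
  let r : A →* W := C.pi.comp (Subgroup.inclusion hA)
  have himg : r.range ≤ Subgroup.zpowers q := by
    rintro _ ⟨y, rfl⟩
    rcases rot_three q (r y) (cube ⟨x, hx⟩) (cube y) hq1
      (by rw [hq]; show _ * C.pi _ = C.pi _ * _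
          rw [← map_mul, ← map_mul]
          exact congrArg C.pi (Subtype.ext (hc x hx y y.2))) with h | h | h <;> rw [h]
    · exact one_mem _
    · exact Subgroup.mem_zpowers q
    · exact mul_mem (Subgroup.mem_zpowers q) (Subgroup.mem_zpowers q)
  have h1 : Nat.card r.range ≤ 3 := by
    refine le_trans (Subgroup.card_le_of_le himg) ?_
    rw [Nat.card_zpowers]
    exact orderOf_le_of_pow_eq_one (by norm_num) (by
      rw [pow_three']; exact cube ⟨x, hx⟩)
  have h2 : Nat.card r.ker ≤ 3 := by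
    have hf : ∀ a : r.ker, ∃ v, θ v = (a : A) ∧ act q v = v := fun a => by
      obtain ⟨v, hv⟩ := (C.pi_eq_one _).1 a.2
      refine ⟨v, hv, (C.acts_commute (C.pi_spec ⟨x, hA hx⟩) v).1 ?_⟩
      have : θ v = ((a : A) : G) := hv
      rw [this]
      exact hc x hx _ (a : A).2
    choose g hg1 hg2 using hf
    refine le_trans (Nat.card_le_card_of_injective
      (fun a => (⟨g a, hg2 a⟩ : {v : V // act q v = v})) fun a b e => ?_) ?_
    · refine Subtype.ext (Subtype.ext ?_)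
      rw [← hg1, ← hg1, show g a = g b from congrArg Subtype.val e]
    · rw [Nat.card_eq_fintype_card, Fintype.card_subtype, fixed_three q (cube ⟨x, hx⟩) hq1]
  have h3 := r.ker.card_mul_index
  rw [Subgroup.index_ker, h27] at h3
  have := Nat.mul_le_mul h2 h1
  omega

/-- A 3-group containing the elementary abelian subgroup normalises it. -/
theorem le_NJ_of_pGroup [Finite G] {S : Subgroup G} (hS : IsPGroup 3 S) (hJ : θ.range ≤ S) :
    S ≤ NJ θ := by
  haveI : Fact (Nat.Prime 3) := ⟨Nat.prime_three⟩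
  set T := S ⊓ NJ θ with hT
  suffices hTS : S ≤ T from hTS.trans inf_le_right
  by_contra hne
  have hlt : T.subgroupOf S < ⊤ := lt_top_iff_ne_top.2 fun h =>
    hne (Subgroup.subgroupOf_eq_top.1 h)
  haveI : Group.IsNilpotent S := hS.isNilpotent
  obtain ⟨g, hgN, hgT⟩ := SetLike.exists_of_lt
    (Group.normalizerCondition_of_isNilpotent (G := S) _ hlt)
  have hJT : θ.range ≤ T := le_inf hJ J_le_NJ
  let A := θ.range.map (MulAut.conj (g : G)).toMonoidHom
  have hAeq : A = θ.range := by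
    refine C.eq_J_of_le ?_ (C.J_isPGroup.map _) ?_ ?_
    · rintro _ ⟨y, hy, rfl⟩
      exact ((Subgroup.mem_normalizer_iff.1 hgN ⟨y, hJ hy⟩).1 (hJT hy)).2
    · rintro _ ⟨_, ⟨u, rfl⟩, rfl⟩ _ ⟨_, ⟨v, rfl⟩, rfl⟩
      simp only [← map_mul]
      rw [mul_comm]
    · rw [Subgroup.card_map_of_injective (MulEquiv.injective _), C.card_J]
  refine hgT ⟨g.2, Subgroup.mem_normalizer_iff.2 fun y => ⟨fun hy => hAeq ▸ ⟨y, hy, rfl⟩, fun hy => ?_⟩⟩
  rw [← hAeq] at hy
  obtain ⟨z, hz, hze⟩ := hy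
  rwa [show y = z from ((MulAut.conj (g : G)).injective hze).symm]

/-- A Sylow subgroup lies in the normaliser. -/
theorem exists_sylow [Finite G] : ∃ S : Sylow 3 G, θ.range ≤ (S : Subgroup G) ∧
    (S : Subgroup G) ≤ NJ θ := by
  obtain ⟨S, hS⟩ := C.J_isPGroup.exists_le_sylow
  exact ⟨S, hS, C.le_NJ_of_pGroup S.isPGroup' hS⟩

/-- A 3-group has at most one abelian subgroup of order 27. -/
theorem unique27 [Finite G] {P A B : Subgroup G} (hP : IsPGroup 3 P) (hAP : A ≤ P) (hBP : B ≤ P)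
    (hAc : ∀ x ∈ A, ∀ y ∈ A, x * y = y * x) (hBc : ∀ x ∈ B, ∀ y ∈ B, x * y = y * x)
    (hA : Nat.card A = 27) (hB : Nat.card B = 27) : A = B := by
  haveI : Fact (Nat.Prime 3) := ⟨Nat.prime_three⟩
  obtain ⟨S, -, hSN⟩ := C.exists_sylow
  obtain ⟨Q, hQ⟩ := hP.exists_le_sylow
  obtain ⟨g, hg⟩ := MulAction.exists_smul_eq G Q S
  let φ : G →* G := (MulAut.conj g).toMonoidHom
  have hφ : Function.Injective φ := (MulAut.conj g).injective
  have key : ∀ {X : Subgroup G}, X ≤ P → (∀ x ∈ X, ∀ y ∈ X, x * y = y * x) → Nat.card X = 27 →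
      X.map φ = θ.range := by
    intro X hX hXc hX27
    refine C.eq_J_of_le (le_trans ?_ hSN) ((hP.to_le hX).map _) ?_ ?_
    · rintro _ ⟨x, hx, rfl⟩
      rw [← hg, Sylow.coe_subgroup_smul]
      exact Subgroup.smul_mem_pointwise_smul x _ _ (hQ (hX hx))
    · rintro _ ⟨x, hx, rfl⟩ _ ⟨y, hy, rfl⟩
      rw [← map_mul, ← map_mul, hXc x hx y hy]
    · rw [Subgroup.card_map_of_injective hφ, hX27]
  exact Subgroup.map_injective hφ ((key hAP hAc hA).trans (key hBP hBc hB).symm)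

/-- Fusion of tuples in the elementary abelian subgroup takes place in its normaliser. -/
theorem fusion [Finite G] {n : ℕ} (x y : Fin n → V) {g : G}
    (hg : ∀ i, g * θ (x i) * g⁻¹ = θ (y i)) :
    ∃ w, Lift θ w ∧ ∀ i, act w (x i) = y i := by
  haveI : Fact (Nat.Prime 3) := ⟨Nat.prime_three⟩
  set Cy := Subgroup.centralizer (Set.range fun i => θ (y i)) with hCy
  set J' := θ.range.map (MulAut.conj g).toMonoidHom with hJ'
  have h1 : θ.range ≤ Cy := by
    rintro _ ⟨v, rfl⟩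
    exact Subgroup.mem_centralizer_iff.2 fun _ ⟨i, hi⟩ => by subst hi; exact commute_J _ _
  have h2 : J' ≤ Cy := by
    rintro _ ⟨_, ⟨v, rfl⟩, rfl⟩
    refine Subgroup.mem_centralizer_iff.2 fun _ ⟨i, hi⟩ => ?_
    subst hi
    dsimp only
    rw [← hg i, show g * θ (x i) * g⁻¹ = (MulAut.conj g).toMonoidHom (θ (x i)) from rfl]
    simp only [← map_mul]
    rw [mul_comm]
  obtain ⟨P1, hP1⟩ := (C.J_isPGroup.comap_of_injective Cy.subtype Subtype.coe_injective).exists_le_sylow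
  obtain ⟨P2, hP2⟩ :=
    ((C.J_isPGroup.map _ : IsPGroup 3 J').comap_of_injective Cy.subtype Subtype.coe_injective).exists_le_sylow
  obtain ⟨k, hk⟩ := MulAction.exists_smul_eq Cy P1 P2
  let A := θ.range.map (MulAut.conj (k : G)).toMonoidHom
  have hcomm : ∀ f : G →* G, ∀ a ∈ θ.range.map f, ∀ b ∈ θ.range.map f, a * b = b * a := by
    rintro f _ ⟨_, ⟨u, rfl⟩, rfl⟩ _ ⟨_, ⟨v, rfl⟩, rfl⟩
    simp only [← map_mul]
    rw [mul_comm]
  have hAJ : A = J' := by
    refine C.unique27 (P := (P2 : Subgroup Cy).map Cy.subtype) (P2.isPGroup'.map _) ?_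
      (fun z hz => ⟨⟨z, h2 hz⟩, hP2 hz, rfl⟩) (hcomm _) (hcomm _)
      (by rw [Subgroup.card_map_of_injective (MulEquiv.injective _), C.card_J])
      (by rw [Subgroup.card_map_of_injective (MulEquiv.injective _), C.card_J])
    rintro _ ⟨z, hz, rfl⟩
    refine ⟨k * ⟨z, h1 hz⟩ * k⁻¹, ?_, rfl⟩
    rw [← hk, Sylow.coe_subgroup_smul]
    exact Subgroup.smul_mem_pointwise_smul _ _ _ (hP1 hz)
  have hn : (k : G)⁻¹ * g ∈ NJ θ := by
    refine Subgroup.mem_normalizer_iff.2 fun z => ⟨fun hz => ?_, fun hz => ?_⟩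
    · have h3 : g * z * g⁻¹ ∈ A := hAJ ▸ ⟨z, hz, rfl⟩
      obtain ⟨w, hw, hwe⟩ := h3
      change (k : G) * w * (k : G)⁻¹ = _ at hwe
      rwa [show (k : G)⁻¹ * g * z * ((k : G)⁻¹ * g)⁻¹ = w by
        rw [show w = (k : G)⁻¹ * ((k : G) * w * (k : G)⁻¹) * k by group, hwe]; group]
    · have h3 : (k : G) * ((k : G)⁻¹ * g * z * ((k : G)⁻¹ * g)⁻¹) * (k : G)⁻¹ ∈ J' :=
        hAJ ▸ ⟨_, hz, rfl⟩
      obtain ⟨w, hw, hwe⟩ := h3
      change g * w * g⁻¹ = _ at hwe
      rwa [show z = w by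
        rw [show w = g⁻¹ * (g * w * g⁻¹) * g by group, hwe]; group]
  obtain ⟨w, hw⟩ := C.monomial _ hn
  refine ⟨w, ⟨_, hw⟩, fun i => C.inj ?_⟩
  rw [← hw, show (k : G)⁻¹ * g * θ (x i) * ((k : G)⁻¹ * g)⁻¹ =
    (k : G)⁻¹ * (g * θ (x i) * g⁻¹) * k by group, hg, mul_assoc,
    show θ (y i) * (k : G) = k * θ (y i) from Subgroup.mem_centralizer_iff.1 k.2 _ ⟨i, rfl⟩,
    inv_mul_cancel_left]

/-- Fusion of one element. -/
theorem fusion_one [Finite G] {u v : V} {g : G} (hg : g * θ u * g⁻¹ = θ v) :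
    ∃ w, Lift θ w ∧ act w u = v := by
  obtain ⟨w, hw, h⟩ := C.fusion (fun _ : Fin 1 => u) (fun _ => v) (g := g) fun _ => hg
  exact ⟨w, hw, h 0⟩

end Loc

end Cfsg.Agent.S9Three
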