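import Cfsg.Agent.Lib.S9Three.LinFacts
import Cfsg.Agent.Lib.S9Three.Setup

/-!
S3343: the group induced on the elementary abelian subgroup is monomial in a suitable basis.
-/

set_option autoImplicit false
set_option maxRecDepth 20000

namespace Cfsg.Agent.S9Three

open Cfsg.Agent.ThreeTI.Cube (V)
open Cfsg.Agent.A9Three (vec)
open Equiv (Perm)

universe u

variable {G : Type u} [Group G]

/-- The configuration before a basis is chosen. -/
structure Pre (θ : V →* G) : Prop where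
  inj : Function.Injective θ
  sig : ∀ R : Subgroup G, (Nat.card R).Coprime 3 →
    (∀ v, R.map (MulAut.conj (θ v)).toMonoidHom = R) → R = ⊥
  stab : ∀ g, g * θ vx = θ vx * g →
    ∃ σ : Perm (Fin 3), ∀ u, g * θ u * g⁻¹ = θ (sact σ u)
  perm : ∀ σ : Perm (Fin 3), ∃ n, ∀ u, n * θ u * n⁻¹ = θ (sact σ u)
  selfc : ∀ g, (∀ v, g * θ v = θ v * g) → g ∈ θ.range

/-- A linear map induced in the normaliser. -/
def Ind (θ : V →* G) (m : Lin) : Prop := ∃ n, ∀ v, n * θ v * n⁻¹ = θ (ap m v)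

/-- The orbit of the central element under the normaliser. -/
def Orb (θ : V →* G) (y : V) : Prop := ∃ g ∈ NJ θ, g * θ vx * g⁻¹ = θ y

theorem ind_comp {θ : V →* G} {m n : Lin} (hm : Ind θ m) (hn : Ind θ n) : Ind θ (comp m n) := by
  obtain ⟨a, ha⟩ := hm
  obtain ⟨b, hb⟩ := hn
  refine ⟨a * b, fun v => ?_⟩
  rw [ap_comp, ← ha, ← hb]
  group

theorem ind_id (θ : V →* G) : Ind θ idL := ⟨1, fun v => by rw [ap_id]; group⟩

/-- The shift as a homomorphism. -/
def shift (s : ZMod 3) : V →* V := MonoidHom.mk' (shiftFn s) (shift_mul s)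

theorem shift_range (θ : V →* G) (s : ZMod 3) : (θ.comp (shift s)).range = θ.range := by
  ext g
  constructor
  · rintro ⟨v, rfl⟩; exact ⟨_, rfl⟩
  · rintro ⟨v, rfl⟩; exact ⟨shiftFn (-s) v, congrArg θ (shift_inv s v)⟩

theorem orb_shift (θ : V →* G) (s : ZMod 3) (y : V) :
    Orb (θ.comp (shift s)) y ↔ Orb θ (shiftFn s y) := by
  simp only [Orb, NJ, shift_range, MonoidHom.comp_apply]
  rw [show shift s vx = vx from shift_vx s]
  rfl

namespace Pre

variable {θ : V →* G} (C : Pre θ)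
include C

theorem mem_NJ {g : G} {σ : Perm (Fin 3)} (h : ∀ u, g * θ u * g⁻¹ = θ (sact σ u)) : g ∈ NJ θ := by
  refine Subgroup.mem_normalizer_iff.2 fun x => ⟨?_, fun hx => ?_⟩
  · rintro ⟨v, rfl⟩
    exact ⟨_, (h v).symm⟩
  · obtain ⟨v, hv⟩ := hx
    obtain ⟨q, hq, hqa⟩ := sact_permsL σ
    obtain ⟨u, rfl⟩ : ∃ u, sact σ u = v := by
      have hinj : Function.Injective (sact σ) := fun a b e =>
        C.inj ((mul_right_injective g).eq_iff.1 (mul_left_injective g⁻¹ ((h a).trans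
          ((congrArg θ e).trans (h b).symm))))
      exact Finite.injective_iff_surjective.1 hinj v
    rw [← h u] at hv
    exact ⟨u, by simpa using hv⟩

theorem exists_lin {n : G} (hn : n ∈ NJ θ) : ∃ m : Lin, ∀ v, n * θ v * n⁻¹ = θ (ap m v) := by
  have h : ∀ v, ∃ u, θ u = n * θ v * n⁻¹ := fun v =>
    (Subgroup.mem_normalizer_iff.1 hn _).1 ⟨v, rfl⟩
  choose f hf using h
  let F : V →* V := MonoidHom.mk' f fun a b => C.inj (by
    rw [map_mul, hf, hf, hf, map_mul]; group)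
  exact ⟨(F v1, F v2, F v3), fun v => by rw [ap_of_hom F v]; exact (hf v).symm⟩

theorem ind_mem {m : Lin} {n : G} (h : ∀ v, n * θ v * n⁻¹ = θ (ap m v)) : n ∈ NJ θ := by
  have hinj : Function.Injective (ap m) := fun a b e =>
    C.inj ((mul_right_injective n).eq_iff.1 (mul_left_injective n⁻¹ ((h a).trans
      ((congrArg θ e).trans (h b).symm))))
  refine Subgroup.mem_normalizer_iff.2 fun x => ⟨?_, fun hx => ?_⟩
  · rintro ⟨v, rfl⟩
    exact ⟨_, (h v).symm⟩
  · obtain ⟨v, hv⟩ := hx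
    obtain ⟨u, rfl⟩ := Finite.injective_iff_surjective.1 hinj v
    rw [← h u] at hv
    exact ⟨u, by simpa using hv⟩

theorem ind_inv {m : Lin} (h : Ind θ m) :
    ∃ m', Ind θ m' ∧ (∀ v, ap m' (ap m v) = v) ∧ ∀ v, ap m (ap m' v) = v := by
  obtain ⟨n, hn⟩ := h
  obtain ⟨m', hm'⟩ := C.exists_lin (inv_mem (C.ind_mem hn))
  refine ⟨m', ⟨_, hm'⟩, fun v => C.inj ?_, fun v => C.inj ?_⟩
  · rw [← hm', ← hn]; group
  · rw [← hn, ← hm']; group

theorem ind_faithful {m : Lin} (h : Ind θ m) (v : V) (hv : ap m v = 1) : v = 1 := by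
  obtain ⟨n, hn⟩ := h
  have h1 := hn v
  rw [hv, map_one, mul_inv_eq_one, mul_eq_left] at h1
  exact C.inj (h1.trans (map_one θ).symm)

theorem ind_stab {m : Lin} (h : Ind θ m) (hx : ap m vx = vx) : m ∈ permsL := by
  obtain ⟨n, hn⟩ := h
  have h1 := hn vx
  rw [hx, mul_inv_eq_iff_eq_mul] at h1
  obtain ⟨σ, hσ⟩ := C.stab n h1
  obtain ⟨p, hp, hpa⟩ := sact_permsL σ
  rwa [show m = p from lin_ext fun v => C.inj (by rw [← hn, hσ, hpa])]

theorem ind_permsL {p : Lin} (hp : p ∈ permsL) : Ind θ p := by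
  obtain ⟨σ, hσ⟩ := permsL_sact p hp
  obtain ⟨n, hn⟩ := C.perm σ
  exact ⟨n, fun v => by rw [hn, hσ]⟩

theorem ind_c : Ind θ cL := C.ind_permsL (by simp [permsL])

theorem ind_t : Ind θ tL := C.ind_permsL (by simp [permsL])

theorem ind_eval {g : Fin 4 → Lin} (hg : ∀ i, Ind θ (g i)) (w : List (Fin 4)) :
    Ind θ (evalW g w) := by
  induction w with
  | nil => exact ind_id θ
  | cons a t ih => exact ind_comp (hg a) ih

theorem not_kills {g : Fin 4 → Lin} (hg : ∀ i, Ind θ (g i)) (w : List (Fin 4)) :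
    kills g w = false := by
  by_contra h
  simp only [kills, Bool.not_eq_false, Bool.and_eq_true, decide_eq_true_eq,
    Bool.not_eq_true', decide_eq_false_iff_not] at h
  exact h.2 (C.ind_stab (C.ind_eval hg w) h.1)

theorem not_killed {d : Lin} (hd : Ind θ d) : killed d = false := by
  have hg : ∀ i, Ind θ (![cL, tL, d, idL] i) := fun i => by
    fin_cases i
    exacts [C.ind_c, C.ind_t, hd, ind_id θ]
  simp [killed, C.not_kills hg]

theorem orb_vx : Orb θ vx := ⟨1, one_mem _, by group⟩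

theorem orb_perm {y : V} (hy : Orb θ y) (σ : Perm (Fin 3)) : Orb θ (sact σ y) := by
  obtain ⟨g, hg, hgy⟩ := hy
  obtain ⟨n, hn⟩ := C.perm σ
  exact ⟨n * g, mul_mem (C.mem_NJ hn) hg, by rw [← hn, ← hgy]; group⟩

theorem orb_map {y : V} (hy : Orb θ y) {m : Lin} (hm : Ind θ m) : Orb θ (ap m y) := by
  obtain ⟨g, hg, hgy⟩ := hy
  obtain ⟨n, hn⟩ := hm
  exact ⟨n * g, mul_mem (C.ind_mem hn) hg, by rw [← hn, ← hgy]; group⟩

theorem orb_ne_one {y : V} (hy : Orb θ y) : y ≠ 1 := by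
  obtain ⟨g, -, hgy⟩ := hy
  rintro rfl
  rw [map_one, mul_inv_eq_one, mul_eq_left] at hgy
  exact absurd (C.inj (hgy.trans (map_one θ).symm)) (by decide +kernel)

theorem exists_d {y : V} (hy : Orb θ y) : ∃ d, Ind θ d ∧ okL d = true ∧ ap d y = y := by
  obtain ⟨g, hg, hgy⟩ := hy
  obtain ⟨m, hm⟩ := C.exists_lin hg
  obtain rfl : ap m vx = y := C.inj ((hm vx).symm.trans hgy)
  obtain ⟨m', hm', hl, hr⟩ := C.ind_inv (m := m) ⟨g, hm⟩
  refine ⟨comp m (comp cL m'), ind_comp ⟨g, hm⟩ (ind_comp C.ind_c hm'), ?_, ?_⟩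
  · obtain ⟨d, hd⟩ : ∃ d, d = comp m (comp cL m') := ⟨_, rfl⟩
    rw [← hd]
    have hdd : ∀ v, ap d v = ap m (ap cL (ap m' v)) := fun v => by rw [hd, ap_comp, ap_comp]
    simp only [okL, Bool.and_eq_true, decide_eq_true_eq, Bool.not_eq_true', Bool.and_eq_false_iff,
      decide_eq_false_iff_not]
    refine ⟨⟨?_, ?_⟩, ?_⟩
    · refine lin_ext fun v => ?_
      rw [ap_comp, ap_comp, hdd, hdd, hdd, hl, hl, cL_cube, hr, ap_id]
    · intro h
      obtain ⟨u, hu, -⟩ := cL_ne
      refine hu ?_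
      have h1 := hdd (ap m u)
      rw [h, ap_id, hl] at h1
      rw [← hl (ap cL u), ← h1, hl]
    · by_contra hc
      simp only [not_or, not_not] at hc
      obtain ⟨u, -, hu⟩ := cL_ne
      refine hu ?_
      let F : V →* V := MonoidHom.mk' (fun v => ap d (ap d v) * ap d v * v) fun a b => by
        simp only [ap_mul]; ac_rfl
      have hF : F = 1 := by
        refine hom_ext_basis ?_ ?_ ?_ <;>
          simp only [F, MonoidHom.mk'_apply, MonoidHom.one_apply, ap_v1, ap_v2, ap_v3]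
        exacts [hc.1.1, hc.1.2, hc.2]
      have h1 : F (ap m u) = 1 := DFunLike.congr_fun hF _
      simp only [F, MonoidHom.mk'_apply, hdd, hl] at h1
      rw [← ap_mul, ← ap_mul] at h1
      exact C.ind_faithful ⟨g, hm⟩ _ h1
  · rw [ap_comp, ap_comp, hl, show ap cL vx = vx by decide +kernel]

theorem fix_inv {d : Lin} {v : V} (h : ap d v⁻¹ = v⁻¹) : ap d v = v := by
  have := map_inv (apHom d) v
  change ap d v⁻¹ = (ap d v)⁻¹ at this
  rw [h, inv_inj] at this
  exact this.symm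

theorem has_A {y : V} (hy : Orb θ y) (hc : clsA y) : Ind θ dA := by
  obtain ⟨σ, hσ⟩ := clsA_rep y hc
  obtain ⟨d, hd, hok, hfix⟩ := C.exists_d (C.orb_perm hy σ)
  have h3 : d.2.2 = v3 := by
    rw [← ap_v3 d]
    rcases hσ with h | h <;> rw [h] at hfix
    exacts [hfix, C.fix_inv hfix]
  obtain ⟨a, b, c⟩ := d
  obtain rfl : c = v3 := h3
  rcases famA a b hok with h | h | h
  · rw [C.not_killed hd] at h
    exact absurd h Bool.false_ne_true
  · exact h ▸ hd
  · exact h ▸ ind_comp C.ind_t (ind_comp hd C.ind_t)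

theorem has_B {y : V} (hy : Orb θ y) (hc : clsB y) : Ind θ dB := by
  obtain ⟨σ, hσ⟩ := clsB_rep y hc
  obtain ⟨d, hd, hok, hfix⟩ := C.exists_d (C.orb_perm hy σ)
  have h3 : ap d (vec 0 1 1) = vec 0 1 1 := by
    rcases hσ with h | h <;> rw [h] at hfix
    exacts [hfix, C.fix_inv hfix]
  obtain ⟨a, b, c⟩ := d
  have hbc : b * c = vec 0 1 1 := by
    rw [show vec 0 1 1 = v2 * v3 from by decide +kernel, ap_mul, ap_v2, ap_v3] at h3
    exact h3.trans (by decide +kernel)
  obtain rfl : c = vec 0 1 1 * b⁻¹ := by rw [← hbc]; simp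
  have hs : Ind θ sL := C.ind_permsL sL_mem
  rcases famB a b hok with h | h | h
  · rw [C.not_killed hd] at h
    exact absurd h Bool.false_ne_true
  · exact h ▸ hd
  · exact h ▸ ind_comp hs (ind_comp hd hs)

theorem no_E : ¬ Orb θ (vec 0 1 2) := by
  intro hy
  obtain ⟨d, hd, hok, hfix⟩ := C.exists_d hy
  obtain ⟨a, b, c⟩ := d
  rw [show vec 0 1 2 = v2 * v3⁻¹ from by decide +kernel, ap_mul] at hfix
  have hi : ap (a, b, c) v3⁻¹ = c⁻¹ := by
    have := map_inv (apHom (a, b, c)) v3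
    change ap (a, b, c) v3⁻¹ = (ap (a, b, c) v3)⁻¹ at this
    rw [this, ap_v3]
  rw [hi, ap_v2] at hfix
  obtain rfl : c = b * (vec 0 1 2)⁻¹ := by
    rw [show vec 0 1 2 = v2 * v3⁻¹ from by decide +kernel, ← hfix]; simp
  have h := famE a b hok
  rw [C.not_killed hd] at h
  exact Bool.false_ne_true h

theorem classify {y : V} (hy : Orb θ y) : frame y ∨ clsA y ∨ clsB y := by
  rcases classes y (C.orb_ne_one hy) with h | ⟨σ, h⟩
  · exact Or.inl h
  · by_cases hE : sact σ y = vec 0 1 2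
    · exact absurd (hE ▸ C.orb_perm hy σ) C.no_E
    · right
      exact (by decide +kernel : ∀ (σ : Perm (Fin 3)) (y : V),
        (sact σ y = v3 ∨ sact σ y = v3⁻¹ ∨ sact σ y = vec 0 1 1 ∨ sact σ y = (vec 0 1 1)⁻¹ ∨
          sact σ y = vec 0 1 2) → sact σ y ≠ vec 0 1 2 → clsA y ∨ clsB y) σ y h hE

theorem not_A_and_B {y z : V} (hy : Orb θ y) (hA : clsA y) (hz : Orb θ z) (hB : clsB z) :
    False := by
  have hg : ∀ i, Ind θ (![cL, tL, dA, dB] i) := fun i => by
    fin_cases i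
    exacts [C.ind_c, C.ind_t, C.has_A hy hA, C.has_B hz hB]
  simpa [C.not_kills hg] using killAB

theorem shifted (s : ZMod 3) : Pre (θ.comp (shift s)) where
  inj := C.inj.comp (Function.LeftInverse.injective (g := shiftFn (-s)) fun v => by
    show shiftFn (-s) (shiftFn s v) = v
    simpa using shift_inv (-s) v)
  sig R hR h := C.sig R hR fun v => by
    have := h (shiftFn (-s) v)
    rwa [MonoidHom.comp_apply, show shift s (shiftFn (-s) v) = v from shift_inv s v] at this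
  stab g hg := by
    rw [MonoidHom.comp_apply, show shift s vx = vx from shift_vx s] at hg
    obtain ⟨σ, hσ⟩ := C.stab g hg
    exact ⟨σ, fun u => (hσ _).trans (congrArg θ (shift_sact s σ u).symm)⟩
  perm σ := by
    obtain ⟨n, hn⟩ := C.perm σ
    exact ⟨n, fun u => (hn _).trans (congrArg θ (shift_sact s σ u).symm)⟩
  selfc g hg := by
    rw [shift_range]
    refine C.selfc g fun v => ?_
    have := hg (shiftFn (-s) v)
    rwa [MonoidHom.comp_apply, show shift s (shiftFn (-s) v) = v from shift_inv s v] at this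

theorem exists_shift : ∃ s, ∀ y, Orb (θ.comp (shift s)) y → frame y := by
  have sh : ∀ (s : ZMod 3) y, Orb θ (shiftFn s y) → Orb (θ.comp (shift s)) y := fun s y h =>
    (orb_shift θ s y).2 h
  have e2 : ∀ y, shiftFn 2 (shiftFn 2 y) = shiftFn 1 y ∧ shiftFn 1 (shiftFn 1 y) = shiftFn 2 y ∧
      shiftFn 1 (shiftFn 2 y) = y ∧ shiftFn 2 (shiftFn 1 y) = y ∧ shiftFn 0 y = y := by
    decide +kernel
  by_cases hA : ∃ y, Orb θ y ∧ clsA y
  · obtain ⟨a, ha, haA⟩ := hA
    refine ⟨2, fun y hy => ?_⟩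
    have hy0 : Orb θ (shiftFn 2 y) := (orb_shift θ 2 y).1 hy
    rcases (C.shifted 2).classify hy with h | h | h
    · exact h
    · exact (C.not_A_and_B ha haA hy0 ((shift_cls y).2.1 h).2).elim
    · refine ((C.shifted 1).not_A_and_B (sh 1 (shiftFn 1 y) ?_) ((shift_cls y).2.2 h).1
        (sh 1 (shiftFn 2 a) ?_) ((shift_cls a).2.1 haA).2).elim
      · rwa [(e2 y).2.1]
      · rwa [(e2 a).2.2.1]
  · by_cases hB : ∃ y, Orb θ y ∧ clsB y
    · obtain ⟨b, hb, hbB⟩ := hB
      refine ⟨1, fun y hy => ?_⟩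
      have hy0 : Orb θ (shiftFn 1 y) := (orb_shift θ 1 y).1 hy
      rcases (C.shifted 1).classify hy with h | h | h
      · exact h
      · refine ((C.shifted 2).not_A_and_B (sh 2 (shiftFn 1 b) ?_) ((shift_cls b).2.2 hbB).1
          (sh 2 (shiftFn 2 y) ?_) ((shift_cls y).2.1 h).2).elim
        · rwa [(e2 b).2.2.2.1]
        · rwa [(e2 y).1]
      · exact absurd ⟨_, hy0, ((shift_cls y).2.2 h).1⟩ hA
    · refine ⟨0, fun y hy => ?_⟩
      have hy0 : Orb θ y := (e2 y).2.2.2.2 ▸ (orb_shift θ 0 y).1 hy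
      rcases C.classify hy0 with h | h | h
      · exact h
      · exact absurd ⟨_, hy0, h⟩ hA
      · exact absurd ⟨_, hy0, h⟩ hB

theorem monomial_lin (hO : ∀ y, Orb θ y → frame y) {m : Lin} (hm : Ind θ m) :
    ∃ w : W, ∀ v, ap m v = act w v := by
  have fin : (∃ w : W, act w v1 = m.1 ∧ act w v2 = m.2.1 ∧ act w v3 = m.2.2) →
      ∃ w : W, ∀ v, ap m v = act w v := by
    rintro ⟨w, h1, h2, h3⟩
    exact ⟨w, DFunLike.congr_fun (hom_ext_basis (f := apHom m) (g := actHom w)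
      ((ap_v1 m).trans h1.symm) ((ap_v2 m).trans h2.symm) ((ap_v3 m).trans h3.symm))⟩
  have hf : ∀ v, ap m v = 1 → v = 1 := fun v => C.ind_faithful hm v
  have hi : ∀ v, ap m v⁻¹ = (ap m v)⁻¹ := map_inv (apHom m)
  by_cases hy : ∃ y, Orb θ y ∧ y ≠ vx ∧ y ≠ vx⁻¹
  · obtain ⟨y, hy, hy1, hy2⟩ := hy
    refine fin ?_
    rcases triple_frame y (hO y hy) with h | h | h | h
    · exact absurd h hy1
    · exact absurd h hy2
    · have ho : ∀ i, frame (ap m (![vec 2 1 1, vec 1 2 1, vec 1 1 2] i)) := fun i => by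
        obtain ⟨σ, hσ⟩ := h i
        exact hO _ (C.orb_map (hσ ▸ C.orb_perm hy σ) hm)
      have hp : ap m (vec 2 1 1) * ap m (vec 1 2 1) * ap m (vec 1 1 2) = ap m vx := by
        rw [← ap_mul, ← ap_mul]; exact congrArg _ (by decide +kernel)
      have e : ∀ (v b : V), v * vx = b → ap m b * (ap m vx)⁻¹ = ap m v := fun v b e => by
        rw [← e, ap_mul, mul_inv_cancel_right]
      have hh := (monomial_of_frame _ _ _ (ho 0) (ho 1) (ho 2)).1
      simp only [Matrix.cons_val_zero, Matrix.cons_val_one, Matrix.cons_val_two,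
        Matrix.head_cons, Matrix.tail_cons, hp] at hh
      rw [e v1 _ (by decide +kernel), e v2 _ (by decide +kernel), e v3 _ (by decide +kernel),
        ap_v1, ap_v2, ap_v3] at hh
      exact hh (hO _ (C.orb_map C.orb_vx hm)) hf
    · have ho : ∀ i, frame (ap m (![vec 1 2 2, vec 2 1 2, vec 2 2 1] i)) := fun i => by
        obtain ⟨σ, hσ⟩ := h i
        exact hO _ (C.orb_map (hσ ▸ C.orb_perm hy σ) hm)
      have hp : ap m (vec 1 2 2) * ap m (vec 2 1 2) * ap m (vec 2 2 1) = (ap m vx)⁻¹ := by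
        rw [← ap_mul, ← ap_mul, ← hi]; exact congrArg _ (by decide +kernel)
      have e : ∀ (v b : V), v⁻¹ = b * vx → (ap m b * ap m vx)⁻¹ = ap m v := fun v b e => by
        rw [← ap_mul, ← e, hi, inv_inv]
      have hh := (monomial_of_frame _ _ _ (ho 0) (ho 1) (ho 2)).2
      simp only [Matrix.cons_val_zero, Matrix.cons_val_one, Matrix.cons_val_two,
        Matrix.head_cons, Matrix.tail_cons, hp, inv_inv] at hh
      rw [e v1 _ (by decide +kernel), e v2 _ (by decide +kernel), e v3 _ (by decide +kernel),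
        ap_v1, ap_v2, ap_v3] at hh
      exact hh (hO _ (C.orb_map C.orb_vx hm)) hf
  · push Not at hy
    have hpm : ∀ y, Orb θ y → y = vx ∨ y = vx⁻¹ := fun y h => or_iff_not_imp_left.2 (hy y h)
    rcases hpm _ (C.orb_map C.orb_vx hm) with h | h
    · obtain ⟨σ, hσ⟩ := permsL_sact m (C.ind_stab hm h)
      obtain ⟨w, hw⟩ := (by decide +kernel : ∀ σ : Perm (Fin 3), ∃ w : W, ∀ v, act w v = sact σ v) σ
      exact ⟨w, fun v => by rw [hσ, hw]⟩
    · refine fin ?_
      obtain ⟨m', hm', hl, hr⟩ := C.ind_inv hm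
      have hx' : ap m' vx⁻¹ = vx := by rw [← h, hl]
      have hx'' : ap m' vx = vx⁻¹ :=
        inv_inj.1 ((map_inv (apHom m') vx).symm.trans (hx'.trans (inv_inv vx).symm))
      have conj : ∀ p, Ind θ p → ap p vx = vx → ∃ q ∈ permsL, comp m p = comp q m := by
        intro p hp hpx
        have hpi : ap p vx⁻¹ = vx⁻¹ := (map_inv (apHom p) vx).trans (congrArg (·⁻¹) hpx)
        refine ⟨comp m (comp p m'), C.ind_stab (ind_comp hm (ind_comp hp hm')) ?_, lin_ext fun v => ?_⟩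
        · rw [ap_comp, ap_comp, hx'', hpi, hi, h, inv_inv]
        · rw [ap_comp, ap_comp, ap_comp, ap_comp, hl]
      have hmm : comp m m ∈ permsL := C.ind_stab (ind_comp hm hm) (by
        rw [ap_comp, h, hi, h, inv_inv])
      obtain ⟨a, b, c⟩ := m
      obtain rfl : c = vx⁻¹ * (a * b)⁻¹ := by
        have : a * b * c = vx⁻¹ := by
          rw [← h, show vx = v1 * v2 * v3 from by decide +kernel, ap_mul, ap_mul, ap_v1, ap_v2,
            ap_v3]
        rw [← this, mul_comm (a * b) c, mul_inv_cancel_right]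
      exact monomial_of_flip a b (conj cL C.ind_c (by decide +kernel))
        (conj tL C.ind_t (by decide +kernel)) hmm hf

theorem exists_loc : ∃ θ' : V →* G, Loc θ' ∧ θ'.range = θ.range ∧ θ' vx = θ vx := by
  obtain ⟨s, hs⟩ := C.exists_shift
  refine ⟨θ.comp (shift s), ?_, shift_range θ s, congrArg θ (shift_vx s)⟩
  have D := C.shifted s
  exact
    { inj := D.inj
      sig := D.sig
      monomial := fun n hn => by
        obtain ⟨m, hm⟩ := D.exists_lin hn
        obtain ⟨w, hw⟩ := D.monomial_lin hs ⟨n, hm⟩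
        exact ⟨w, fun v => by rw [hm, hw]⟩
      perm := fun w hw => by
        obtain ⟨σ, hσ⟩ := perm_sact w hw
        obtain ⟨n, hn⟩ := D.perm σ
        exact ⟨n, fun v => by rw [hn, hσ]⟩
      centX := fun g hg => by
        obtain ⟨σ, hσ⟩ := D.stab g hg
        exact D.mem_NJ hσ
      selfc := D.selfc }

end Pre

end Cfsg.Agent.S9Three
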