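import Cfsg.Agent.Lib.S9Three.Nine9
import Cfsg.Agent.Lib.S9Three.Setup

/-!
S3343: the model `3³ : (2 × S₄)` inside `Sym(9)`.
-/

set_option autoImplicit false
set_option maxRecDepth 100000
set_option synthInstance.maxSize 4000

namespace Cfsg.Agent.S9Three

open Cfsg.Agent.ThreeTI.Mono
open Cfsg.Agent.ThreeTI.Cube (V)
open Cfsg.Agent.A9Three (vec)
open Equiv (Perm)

/-- The action of the monomial group. -/
def phiW : W →* MulAut V where
  toFun w :=
    { toFun := act w
      invFun := act w⁻¹
      left_inv := act_inv_act w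
      right_inv := act_act_inv w
      map_mul' := act_mul w }
  map_one' := by ext v : 1; exact act_id v
  map_mul' a b := by ext v : 1; exact act_comp a b v

/-- The model. -/
abbrev Mw : Type := V ⋊[phiW] W

instance : DecidableEq Mw := fun a b =>
  decidable_of_iff (a.left = b.left ∧ a.right = b.right)
    ⟨fun h => SemidirectProduct.ext h.1 h.2, fun h => h ▸ ⟨rfl, rfl⟩⟩

instance : Fintype Mw := Fintype.ofEquiv (V × W) SemidirectProduct.equivProd.symm

/-- The unit vectors by index. -/
def eV : Fin 3 → V := ![v1, v2, v3]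

/-- The triple to which a triple is moved. -/
def dest (w : W) (j : Fin 3) : Fin 3 :=
  if coord (act w (eV j)) 0 ≠ 0 then 0 else if coord (act w (eV j)) 1 ≠ 0 then 1 else 2

/-- A monomial map on the nine points. -/
def wpFn (w : W) (p : Fin 3 × ZMod 3) : Fin 3 × ZMod 3 :=
  (dest w p.1, coord (act w (eV p.1)) (dest w p.1) * p.2)

theorem wpFn_one : ∀ p, wpFn 1 p = p := by decide +kernel

theorem wpFn_mul : ∀ a b : W, ∀ p, wpFn (a * b) p = wpFn a (wpFn b p) := by decide +kernel

theorem wpFn_compat : ∀ (w : W) (v : V) (p : Fin 3 × ZMod 3),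
    trans9 (act w v) (wpFn w p) = wpFn w (trans9 v p) := by decide +kernel

/-- The monomial maps as permutations. -/
def wp0 : W →* Perm (Fin 3 × ZMod 3) where
  toFun w := ⟨wpFn w, wpFn w⁻¹, fun p => by rw [← wpFn_mul, inv_mul_cancel, wpFn_one],
    fun p => by rw [← wpFn_mul, mul_inv_cancel, wpFn_one]⟩
  map_one' := Equiv.ext wpFn_one
  map_mul' a b := Equiv.ext fun p => wpFn_mul a b p

/-- The model on nine points. -/
def m9 : Mw →* Perm (Fin 9) :=
  pt.toMonoidHom.comp (SemidirectProduct.lift trans9 wp0 fun w => by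
    refine MonoidHom.ext fun v => Equiv.ext fun p => ?_
    show trans9 (act w v) p = wpFn w (trans9 v (wpFn w⁻¹ p))
    rw [← wpFn_compat, ← wpFn_mul, mul_inv_cancel, wpFn_one])

theorem m9_injective : Function.Injective m9 := by
  refine (injective_iff_map_eq_one m9).2 fun m h => ?_
  have h' := pt.injective ((show pt _ = 1 from h).trans (map_one pt).symm)
  refine (by decide +kernel : ∀ (v : V) (w : W),
    (∀ p, trans9 v (wpFn w p) = p) → (⟨v, w⟩ : Mw) = 1) m.left m.right fun p => ?_
  exact congrArg (fun f : Perm (Fin 3 × ZMod 3) => f p) h'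

/-- A translation in the model. -/
abbrev inV : V →* Mw := SemidirectProduct.inl

/-- A monomial map in the model. -/
abbrev inW : W →* Mw := SemidirectProduct.inr

theorem m9_inV (v : V) : m9 (inV v) = tr v := by simp [m9, tr]

theorem neg_spec : neg * neg = 1 ∧ (∀ w : W, w * neg = neg * w) ∧ (∀ v : V, act neg v = v⁻¹) ∧
    ∀ v : V, v * v = 1 → v = 1 := by decide +kernel

theorem root_V : ∀ v : V, ∃ s : V, s * s = v := by decide +kernel

end Cfsg.Agent.S9Three
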