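import Cfsg.Agent.Lib.S9Three.Model

/-!
S3343: the centraliser in `Sym(9)` of the product of three disjoint 3-cycles.
-/

set_option autoImplicit false
set_option maxRecDepth 40000
set_option synthInstance.maxSize 2000

namespace Cfsg.Agent.S9Three

open Cfsg.Agent.ThreeTI.Mono
open Cfsg.Agent.ThreeTI.Cube (V)
open Cfsg.Agent.A9Three (vec)
open Equiv (Perm)

/-- The nine points as three triples. -/
def pt : Perm (Fin 3 × ZMod 3) ≃* Perm (Fin 9) :=
  Equiv.permCongrHom (finProdFinEquiv : Fin 3 × ZMod 3 ≃ Fin 9)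

/-- A translation of the three triples. -/
def tr : V →* Perm (Fin 9) := pt.toMonoidHom.comp trans9

/-- A permutation of the three triples, on pairs. -/
def blk0 : Perm (Fin 3) →* Perm (Fin 3 × ZMod 3) where
  toFun σ := Equiv.prodCongr σ (Equiv.refl _)
  map_one' := by ext x <;> rfl
  map_mul' σ π := by ext x <;> rfl

/-- A permutation of the three triples. -/
def blk : Perm (Fin 3) →* Perm (Fin 9) := pt.toMonoidHom.comp blk0

/-- The permutation of the coordinates. -/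
def sact (σ : Perm (Fin 3)) (v : V) : V :=
  vec (coord v (σ⁻¹ 0)) (coord v (σ⁻¹ 1)) (coord v (σ⁻¹ 2))

theorem coord_vec (f : Fin 3 → ZMod 3) : coord (vec (f 0) (f 1) (f 2)) = f := by
  funext i
  fin_cases i <;> rfl

theorem coord_sact (σ : Perm (Fin 3)) (v : V) (i : Fin 3) :
    coord (sact σ v) i = coord v (σ⁻¹ i) :=
  congrFun (coord_vec fun i => coord v (σ⁻¹ i)) i

theorem tr_vx : tr vx = Equiv.swap (0 : Fin 9) 1 * Equiv.swap 1 2 * Equiv.swap 3 4 *
    Equiv.swap 4 5 * Equiv.swap 6 7 * Equiv.swap 7 8 := by decide +kernel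

theorem blk_tr (σ : Perm (Fin 3)) (v : V) : blk σ * tr v = tr (sact σ v) * blk σ := by
  simp only [blk, tr, MonoidHom.comp_apply, MulEquiv.coe_toMonoidHom, ← map_mul]
  refine congrArg _ (Equiv.ext fun x => ?_)
  show (σ x.1, x.2 + coord v x.1) = (σ x.1, x.2 + coord (sact σ v) (σ x.1))
  rw [coord_sact]
  simp

theorem cent_form {g : Perm (Fin 9)} (hg : g * tr vx = tr vx * g) :
    ∃ v σ, g = tr v * blk σ := by
  obtain ⟨h, rfl⟩ := pt.surjective g
  have hh : h * trans9 vx = trans9 vx * h := pt.injective (by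
    simpa [tr] using hg)
  have hc : ∀ j, coord vx j = 1 := by decide +kernel
  have hstep : ∀ j x, h (j, x + 1) = ((h (j, x)).1, (h (j, x)).2 + 1) := by
    intro j x
    have e := congrArg (fun f : Perm (Fin 3 × ZMod 3) => f (j, x)) hh
    change h (j, x + coord vx j) = ((h (j, x)).1, (h (j, x)).2 + coord vx (h (j, x)).1) at e
    rwa [hc, hc] at e
  have hall : ∀ j x, h (j, x) = ((h (j, 0)).1, (h (j, 0)).2 + x) := by
    intro j x
    have h1 := hstep j 0
    have h2 := hstep j (0 + 1)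
    rcases (by decide : ∀ x : ZMod 3, x = 0 ∨ x = 0 + 1 ∨ x = 0 + 1 + 1) x with rfl | rfl | rfl
    · simp
    · rw [h1]; simp
    · rw [h2, h1]; simp [add_assoc]
  have hsurj : Function.Surjective fun j => (h (j, 0)).1 := fun k => by
    obtain ⟨⟨j, x⟩, hjx⟩ := h.surjective (k, 0)
    exact ⟨j, by rw [hall] at hjx; exact (Prod.ext_iff.1 hjx).1⟩
  let σ : Perm (Fin 3) := Equiv.ofBijective _ (Finite.surjective_iff_bijective.1 hsurj)
  let f : Fin 3 → ZMod 3 := fun k => (h (σ⁻¹ k, 0)).2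
  refine ⟨vec (f 0) (f 1) (f 2), σ, ?_⟩
  simp only [blk, tr, MonoidHom.comp_apply, MulEquiv.coe_toMonoidHom, ← map_mul]
  refine congrArg _ (Equiv.ext fun x => ?_)
  show h x = (σ x.1, x.2 + coord (vec (f 0) (f 1) (f 2)) (σ x.1))
  rw [coord_vec]
  show h (x.1, x.2) = (σ x.1, x.2 + (h (σ⁻¹ (σ x.1), 0)).2)
  rw [hall, show σ⁻¹ (σ x.1) = x.1 from σ.symm_apply_apply _, add_comm]
  rfl

theorem tr_blk_one (v : V) (σ : Perm (Fin 3)) (h : tr v * blk σ = 1) : v = 1 ∧ σ = 1 := by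
  have h' : trans9 v * blk0 σ = 1 := pt.injective (by simpa [tr, blk] using h)
  refine (by decide +kernel : ∀ (v : V) (σ : Perm (Fin 3)),
    (∀ x, (trans9 v * blk0 σ) x = x) → v = 1 ∧ σ = 1) v σ fun x => ?_
  rw [h']; rfl

theorem sact_faithful : ∀ σ : Perm (Fin 3), (∀ u : V, sact σ u = u) → σ = 1 := by decide +kernel

theorem sact_vx : ∀ σ : Perm (Fin 3), sact σ vx = vx := by decide +kernel

theorem sact_inv : ∀ (σ : Perm (Fin 3)) (v : V), sact σ v⁻¹ = (sact σ v)⁻¹ := by decide +kernel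

theorem sact_fixed : ∀ v : V, (∀ σ : Perm (Fin 3), sact σ v = v) → v = 1 ∨ v = vx ∨ v = vx⁻¹ := by
  decide +kernel

/-- The product in coordinates. -/
def pmul (a b : V × Perm (Fin 3)) : V × Perm (Fin 3) := (a.1 * sact a.2 b.1, a.2 * b.2)

theorem pmul_three : ∀ (v : V) (σ : Perm (Fin 3)), σ ≠ 1 → σ ^ 3 = 1 →
    (Finset.univ.filter fun b : V × Perm (Fin 3) =>
      b.2 ^ 3 = 1 ∧ pmul (v, σ) b = pmul b (v, σ)).card < 27 := by decide +kernel

theorem perm_sact : ∀ w : W, act w vx = vx → ∃ σ : Perm (Fin 3), ∀ v : V, act w v = sact σ v := by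
  decide +kernel

end Cfsg.Agent.S9Three
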