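import Cfsg.Agent.Lib.S9Three.LabelFacts
import Cfsg.Agent.Lib.SymPres.Coxeter

/-!
S3343: finite facts on the elements of the model keeping the first six points.
-/

set_option autoImplicit false
set_option maxRecDepth 100000
set_option synthInstance.maxSize 4000

namespace Cfsg.Agent.S9Three

open Cfsg.Agent.ThreeTI.Cube (V)
open Cfsg.Agent.A9Three (six ce six_ce six_high six_injective)
open Equiv

theorem keep_six : ∀ m : Mw, (∀ i : Fin 6, (m9 m (ce i)).val < 6) →
    act m.right v3 = v3 ∨ act m.right v3 = v3⁻¹ := by decide +kernel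

theorem six_conj9 {q : Perm (Fin 9)} {π : Perm (Fin 6)} (hπ : ∀ i, q (ce i) = ce (π i))
    (s : Perm (Fin 6)) : q * six s * q⁻¹ = six (π * s * π⁻¹) := by
  refine mul_inv_eq_iff_eq_mul.2 (Equiv.ext fun j => ?_)
  rw [Perm.mul_apply, Perm.mul_apply]
  by_cases hj : j.val < 6
  · obtain ⟨i, rfl⟩ : ∃ i, j = ce i := ⟨⟨j.val, hj⟩, rfl⟩
    rw [six_ce, hπ, hπ, six_ce, Perm.mul_apply, Perm.mul_apply, Perm.inv_def,
      Equiv.symm_apply_apply]
  · rw [six_high s hj, six_high]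
    intro h
    obtain e : q j = ce ⟨(q j).val, h⟩ := rfl
    set i : Fin 6 := ⟨(q j).val, h⟩
    have : j = ce (π⁻¹ i) := q.injective (by
      rw [hπ, ← Perm.mul_apply, mul_inv_cancel, Perm.one_apply]; exact e)
    rw [this] at hj
    exact hj (π⁻¹ i).isLt

theorem adj5 : SymCoxeter.adj 5 0 = swap 0 1 ∧ SymCoxeter.adj 5 1 = swap 1 2 ∧
    SymCoxeter.adj 5 2 = swap 2 3 ∧ SymCoxeter.adj 5 3 = swap 3 4 ∧
    SymCoxeter.adj 5 4 = swap 4 5 := by decide +kernel

theorem closure_six : Subgroup.closure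
    ({swap 0 1, swap 1 2, swap 2 3, swap 3 4, swap 4 5} : Set (Perm (Fin 6))) = ⊤ := by
  refine top_unique ?_
  rw [← SymCoxeter.closure_adj 5, SymCoxeter.gen, Subgroup.closure_le]
  obtain ⟨h0, h1, h2, h3, h4⟩ := adj5
  rintro _ ⟨i, hi, rfl⟩
  refine Subgroup.subset_closure ?_
  have hi' : i < 5 := hi
  interval_cases i <;> simp [h0, h1, h2, h3, h4]

theorem mid_std : Mid (swap 0 1 : Perm (Fin 6)) (swap 1 2) (swap 3 4) (swap 4 5) (swap 2 3) := by
  decide +kernel

theorem center6' : ∀ g : Perm (Fin 6), (∀ h, g * h = h * g) → g = 1 := fun g h =>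
  gens_cent_trivial g (h _) (h _) (h _) (h _)

end Cfsg.Agent.S9Three
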