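import Cfsg.Agent.Lib.S9Three.Labels
import Cfsg.Agent.Lib.S9Three.PsiFacts

/-!
S3343: the action of the model on the labelled symmetric group of degree six.
-/

set_option autoImplicit false
set_option maxRecDepth 20000

namespace Cfsg.Agent.S9Three

open Cfsg.Agent.ThreeTI.Cube (V)
open Cfsg.Agent.A9Three (six ce six_ce six_high six_injective)
open Equiv

universe u

variable {G : Type u} [Group G]

namespace Psi6

variable {θ : V →* G} {ι : Mw →* G} {Ψ : Perm (Fin 6) →* G} (S : Psi6 θ ι Ψ)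
include S

/-- An involution commuting with the translation lies in the labelled group. -/
theorem invol_mem {g : G} (hg : g * θ v3 = θ v3 * g) (h2 : g * g = 1) : ∃ s, Ψ s = g := by
  obtain ⟨i, s, rfl⟩ := S.cover g hg
  refine ⟨s, ?_⟩
  have hc : Commute (θ v3 ^ i) (Ψ s) := (show Commute (θ v3) (Ψ s) from (S.le s).symm).pow_left i
  have h1 : Ψ (s * s) = (θ v3 ^ i * θ v3 ^ i)⁻¹ := by
    rw [map_mul, eq_comm, inv_eq_iff_mul_eq_one, ← pow_two, ← pow_two, ← hc.mul_pow, pow_two]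
    exact h2
  have hz : s * s = 1 := center6' _ fun h => S.inj (by
    rw [map_mul Ψ (s * s) h, map_mul Ψ h (s * s), h1]
    exact (((show Commute (θ v3) (Ψ h) from (S.le h).symm).pow_left i).mul_left
      ((show Commute (θ v3) (Ψ h) from (S.le h).symm).pow_left i)).inv_left.eq)
  rw [hz, map_one, eq_comm, inv_eq_one, ← pow_add] at h1
  have h3 : θ v3 ^ 3 = 1 := by rw [← map_pow, cube_eq_one, map_one]
  have : θ v3 ^ i = 1 := by
    calc θ v3 ^ i = θ v3 ^ i * (θ v3 ^ 3) ^ i := by rw [h3, one_pow, mul_one]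
      _ = (θ v3 ^ (i + i)) ^ 2 := by rw [← pow_mul, ← pow_mul, ← pow_add]; congr 1; ring
      _ = 1 := by rw [h1, one_pow]
  rw [this, one_mul]

theorem braid_map {p q : Perm (Fin 6)} (h : Braid p q) : Braid (Ψ p) (Ψ q) := by
  unfold Braid
  rw [← map_mul, ← map_mul, ← map_mul, ← map_mul, h]

/-- The model acts as on the points. -/
theorem act (B : Base θ ι) (m : Mw) (π : Perm (Fin 6)) (hπ : ∀ i, m9 m (ce i) = ce (π i))
    (s : Perm (Fin 6)) : ι m * Ψ s * (ι m)⁻¹ = Ψ (π * s * π⁻¹) := by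
  have hv := keep_six m fun i => by rw [hπ]; exact (π i).isLt
  have hcomm : ∀ t, (ι m * Ψ t * (ι m)⁻¹) * θ v3 = θ v3 * (ι m * Ψ t * (ι m)⁻¹) := by
    intro t
    have h1 : ι m * θ v3 * (ι m)⁻¹ = θ (S9Three.act m.right v3) := B.acts m v3
    have h2 : Commute (ι m * Ψ t * (ι m)⁻¹) (ι m * θ v3 * (ι m)⁻¹) :=
      (show Commute (Ψ t) (θ v3) from S.le t).map (MulAut.conj (ι m)).toMonoidHom
    rw [h1] at h2
    rcases hv with e | e <;> rw [e] at h2
    · exact h2.eq
    · rw [map_inv] at h2; exact (inv_inv (θ v3) ▸ h2.inv_right : Commute _ _).eq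
  let c : Perm (Fin 6) →* G := (MulAut.conj (ι m)).toMonoidHom.comp Ψ
  have hc : ∀ t, c t = ι m * Ψ t * (ι m)⁻¹ := fun t => rfl
  let c' : Perm (Fin 6) →* G := Ψ.comp (MulAut.conj π).toMonoidHom
  have hc' : ∀ t, c' t = Ψ (π * t * π⁻¹) := fun t => rfl
  have four : ∀ t, (∃ m', m9 m' = six t) → c t = c' t := by
    rintro t ⟨m', hm'⟩
    rw [hc, hc', S.agree m' t hm', S.agree (m * m' * m⁻¹) (π * t * π⁻¹)
      (by rw [map_mul, map_mul, map_inv, hm', six_conj9 hπ]), map_mul, map_mul, map_inv]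
  obtain ⟨g1, g2, g3, g4, -, -, -⟩ := m9_gens
  have ha := four _ ⟨_, g1⟩
  have hb := four _ ⟨_, g2⟩
  have hcc := four _ ⟨_, g3⟩
  have hd := four _ ⟨_, g4⟩
  have hX : c (swap 2 3) = c' (swap 2 3) := by
    obtain ⟨x, hx⟩ := S.invol_mem (hcomm (swap 2 3)) (by
      rw [← hc, ← map_mul, swap_mul_self, map_one])
    rw [← hc] at hx
    obtain ⟨y, rfl⟩ : ∃ y, π * y * π⁻¹ = x := ⟨π⁻¹ * x * π, by group⟩
    change c' y = _ at hx
    obtain ⟨m1, m2, m3, m4, m5⟩ := mid_std
    have hinj : Function.Injective c' := S.inj.comp (MulAut.conj π).injective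
    have hy : Mid (swap 0 1 : Perm (Fin 6)) (swap 1 2) (swap 3 4) (swap 4 5) y := by
      refine ⟨hinj ?_, hinj ?_, hinj ?_, hinj ?_, hinj ?_⟩ <;> simp only [map_mul, map_one]
      · rw [hx, ← map_mul, m1, map_one]
      · rw [hx, ← hb, ← map_mul, ← map_mul, ← map_mul, ← map_mul, m2]
      · rw [hx, ← hcc, ← map_mul, ← map_mul, ← map_mul, ← map_mul, m3]
      · rw [hx, ← ha, ← map_mul, ← map_mul, m4]
      · rw [hx, ← hd, ← map_mul, ← map_mul, m5]
    rw [← hx, mid_unique y hy]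
  have heq : c = c' := MonoidHom.eq_of_eqOn_dense closure_six fun t ht => by
    simp only [Set.mem_insert_iff, Set.mem_singleton_iff] at ht
    rcases ht with rfl | rfl | rfl | rfl | rfl
    exacts [ha, hb, hX, hcc, hd]
  rw [← hc, ← hc', heq]

/-- The elements of the model fixing the six points commute with the labelled group. -/
theorem comm_of_fix (B : Base θ ι) (m : Mw) (hm : ∀ i, m9 m (ce i) = ce i) (s : Perm (Fin 6)) :
    Commute (ι m) (Ψ s) := by
  have h := S.act B m 1 (fun i => by rw [hm]; rfl) s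
  rw [one_mul, inv_one, mul_one] at h
  exact mul_inv_eq_iff_eq_mul.1 h

/-- Elements of the model on six points, conjugated by the model. -/
theorem agree_conj (q m : Mw) (s : Perm (Fin 6)) (h : m9 m = m9 q * six s * (m9 q)⁻¹) :
    ι q * Ψ s * (ι q)⁻¹ = ι m := by
  rw [S.agree (q⁻¹ * m * q) s (by rw [map_mul, map_mul, map_inv, h]; group), map_mul, map_mul,
    map_inv]
  group

end Psi6

end Cfsg.Agent.S9Three
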