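import Cfsg.Agent.Lib.S9Three.Cents

/-!
S3343: the centraliser of a reflection, when the centralisers in the elementary abelian subgroup
are small.
-/

set_option autoImplicit false
set_option maxRecDepth 40000
set_option linter.style.haveILetI false
set_option synthInstance.maxSize 4000

namespace Cfsg.Agent.S9Three

open Cfsg.Agent.ThreeTI.Cube (V)

universe u

theorem cent_tau_three : ∀ w : W, w * w * w = 1 → w * tau = tau * w → w = 1 := by decide +kernel

theorem fix_tau : ∀ w : W, act w (v1 * v2) = v1 * v2 → act w v3 = v3 → w = 1 ∨ w = tau := by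
  decide +kernel

theorem tau_fix_set : ∀ v : V, act tau v = v → ∃ i j : Fin 3, v = (v1 * v2) ^ i.val * v3 ^ j.val := by
  decide +kernel

theorem fix_tau_card : (Finset.univ.filter fun v : V => act tau v = v).card = 9 := by decide +kernel

theorem tau_facts : tau * tau = 1 ∧ act tau (v1 * v2) = v1 * v2 ∧ act tau v3 = v3 := by decide +kernel

/-- The retraction of the centraliser of the reflection. -/
def res (w : W) : W := if w = 1 ∨ w = neg ∨ w = eps ∨ w = neg * eps then w else w * tau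

theorem res_mul : ∀ a : W, a * tau = tau * a → ∀ b : W, b * tau = tau * b →
    res (a * b) = res a * res b := by decide +kernel

theorem res_spec : ∀ a : W, a * tau = tau * a →
    (res a = 1 ∨ res a = neg ∨ res a = eps ∨ res a = neg * eps) ∧ res (a * tau) = res a ∧
    (res a = 1 → a = 1 ∨ a = tau) ∧ res a * res a = 1 ∧
    (∀ v : V, act tau v = v → act (res a) v = act a v) := by decide +kernel

theorem kind_res : ∀ k : Fin 4, ∀ a : W, a * tau = tau * a → inQ k a = true →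
    (k = 0 → res a = 1) ∧ (k = 1 → res a = 1 ∨ res a = neg) ∧
    (k = 2 → res a = 1 ∨ res a = neg * eps) := by decide +kernel

theorem kind_elems : neg * tau = tau * neg ∧ eps * tau = tau * eps ∧
    (neg * eps) * tau = tau * (neg * eps) ∧ inQ 1 neg = true ∧ inQ 3 neg = true ∧ inQ 3 eps = true ∧
    inQ 2 (neg * eps) = true ∧ res 1 = 1 ∧ res neg = neg ∧ res eps = eps ∧
    res (neg * eps) = neg * eps ∧ res tau = 1 := by
  decide +kernel

theorem v12_ne : ¬ (1 : V) = v1 * v2 := by decide +kernel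

theorem act_neg : ∀ v : V, act neg v = v⁻¹ := by decide +kernel

theorem act_negeps : act (neg * eps) (v1 * v2) = (v1 * v2)⁻¹ ∧
    ∀ v : V, act tau v = v → act (neg * eps) v = v⁻¹ →
      v = 1 ∨ v = v1 * v2 ∨ v = (v1 * v2)⁻¹ := by decide +kernel

variable {G : Type u} [Group G]

namespace Loc

variable {θ : V →* G} (C : Loc θ)
include C

/-- An involution twisted by an inverted translation is conjugate to it. -/
theorem conj_twist {t : G} {w : W} (ht : Acts θ t w) {a : V} (ha : act w a = a⁻¹) :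
    θ (a ^ 2) * t * (θ (a ^ 2))⁻¹ = θ a * t := by
  have h : t * (θ (a ^ 2))⁻¹ = θ (a ^ 2) * t := by
    have h1 := ht ((a ^ 2)⁻¹)
    rw [act_inv, act_pow, ha, inv_pow, inv_inv] at h1
    rw [← map_inv, ← h1, inv_mul_cancel_right]
  rw [mul_assoc, h, ← mul_assoc, ← map_mul, ← pow_add,
    show a ^ (2 + 2) = a by rw [pow_succ, cube_eq_one, one_mul]]

/-- Two involutions inducing the same map differ by a conjugation in `J`. -/
theorem involution_conj {s t : G} {w : W} (hs : Acts θ s w) (ht : Acts θ t w) (hs1 : s * s = 1)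
    (ht1 : t * t = 1) : ∃ a, act w a = a⁻¹ ∧ s = θ a * t ∧ s = θ (a ^ 2) * t * (θ (a ^ 2))⁻¹ := by
  have hti : Acts θ t⁻¹ w⁻¹ := fun v => by
    have h := ht (act w⁻¹ v)
    rw [act_act_inv] at h
    rw [← h]; group
  obtain ⟨a, ha⟩ := C.mem_J_of_acts_one (mul_inv_cancel w ▸ acts_mul hs hti)
  have hst : s = θ a * t := by rw [ha, inv_mul_cancel_right]
  have hinv : act w a = a⁻¹ := by
    refine C.inj ?_
    rw [← ht a, map_inv, eq_inv_iff_mul_eq_one]
    have h1 : θ a * t * (θ a * t) = 1 := hst ▸ hs1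
    calc t * θ a * t⁻¹ * θ a = t * θ a * t * θ a := by
          rw [inv_eq_of_mul_eq_one_right ht1]
      _ = (θ a)⁻¹ * (θ a * t * (θ a * t)) * θ a := by group
      _ = 1 := by rw [h1]; group
  exact ⟨a, hinv, hst, by rw [C.conj_twist ht hinv, hst]⟩

/-- A map commuting with an involution lifts to an element commuting with it. -/
theorem lift_commute {t : G} {w d : W} (ht : Acts θ t w) (ht1 : t * t = 1) (hd : Lift θ d)
    (hcomm : d * w = w * d) : ∃ m, Acts θ m d ∧ m * t = t * m := by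
  obtain ⟨n, hn⟩ := hd
  have hni : Acts θ n⁻¹ d⁻¹ := fun v => by
    have h := hn (act d⁻¹ v)
    rw [act_act_inv] at h
    rw [← h]; group
  have hs : Acts θ (n * t * n⁻¹) w := by
    have h := acts_mul (acts_mul hn ht) hni
    rwa [hcomm, mul_inv_cancel_right] at h
  obtain ⟨a, -, -, he⟩ := C.involution_conj hs ht (by rw [conj_mul, ht1, mul_one, mul_inv_cancel]) ht1
  refine ⟨(θ (a ^ 2))⁻¹ * n, ?_, ?_⟩
  · rw [← map_inv]
    have h := acts_mul (θ := θ) (acts_J (θ := θ) (a ^ 2)⁻¹) hn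
    rwa [one_mul] at h
  · calc (θ (a ^ 2))⁻¹ * n * t = (θ (a ^ 2))⁻¹ * (n * t * n⁻¹) * n := by group
      _ = _ := by rw [he]; group

/-- The centraliser of a reflection lies in the normaliser, in the small case. -/
theorem cg_refl [Finite G] {k : Fin 4} (hk : ∀ w, Lift θ w ↔ inQ k w = true)
    (hsmall : ∀ u, u ≠ 1 → cg θ ![u] ≤ NJ θ) {t : G} (ht : Acts θ t tau) (ht1 : t * t = 1)
    {g : G} (hg : g * t = t * g) : g ∈ NJ θ := by
  classical
  haveI : Fact (Nat.Prime 3) := ⟨Nat.prime_three⟩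
  obtain ⟨hτ2, hτv, hτ3⟩ := tau_facts
  set X := Subgroup.centralizer ({t} : Set G) with hX
  have hmX : ∀ {y : G}, y ∈ X ↔ y * t = t * y := Subgroup.mem_centralizer_singleton_iff
  let B : Subgroup G := θ.range ⊓ X
  have hBmem : ∀ v : V, θ v ∈ X ↔ act tau v = v := fun v => by
    rw [hmX, eq_comm]; exact C.acts_commute ht v
  have hloc : ∀ b ∈ B, b ≠ 1 → ∀ y, y * b = b * y → y ∈ NJ θ := by
    rintro b ⟨⟨v, rfl⟩, -⟩ hb y hy
    exact hsmall v (fun h => hb (by rw [h, map_one])) (mem_cg_one.2 hy)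
  have hb0 : θ v3 ∈ B := ⟨⟨_, rfl⟩, (hBmem _).2 hτ3⟩
  have hb01 : θ v3 ≠ 1 := fun h => absurd (C.inj (h.trans (map_one θ).symm)) (by decide +kernel)
  -- an element normalising `B` normalises `J`
  have hnormB : ∀ y : G, (∀ b ∈ B, y * b * y⁻¹ ∈ B) → y ∈ NJ θ := by
    intro y hy
    refine mem_NJ_of_map (C.eq_J_of_le ?_ (C.J_isPGroup.map _) ?_ ?_)
    · rintro _ ⟨_, ⟨v, rfl⟩, rfl⟩
      refine hloc _ (hy _ hb0) (fun h => hb01 (conj_eq_one_iff.1 h)) _ ?_
      show y * θ v * y⁻¹ * _ = _ * (y * θ v * y⁻¹)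
      rw [conj_mul, conj_mul, commute_J]
    · rintro _ ⟨_, ⟨a, rfl⟩, rfl⟩ _ ⟨_, ⟨b, rfl⟩, rfl⟩
      simp only [← map_mul]
      rw [mul_comm]
    · rw [Subgroup.card_map_of_injective (MulEquiv.injective _), C.card_J]
  -- the map induced by an element of `X` commutes with the reflection
  have hwt : ∀ {y : G} {w : W}, y ∈ X → Acts θ y w → w * tau = tau * w := fun {y w} hy hw =>
    C.acts_unique (acts_mul hw ht) (hmX.1 hy ▸ acts_mul ht hw)
  have hBp : IsPGroup 3 B := C.J_isPGroup.to_le inf_le_left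
  obtain ⟨P, hP⟩ := (hBp.comap_of_injective X.subtype Subtype.coe_injective).exists_le_sylow
  have hPB : ∀ y : X, y ∈ (P : Subgroup X) ↔ (y : G) ∈ θ.range := by
    suffices h : (P : Subgroup X) ≤ B.comap X.subtype from fun y =>
      ⟨fun hy => (h hy).1, fun hy => hP ⟨hy, y.2⟩⟩
    by_contra hne
    haveI : Group.IsNilpotent (P : Subgroup X) := P.isPGroup'.isNilpotent
    have hlt : (B.comap X.subtype).subgroupOf (P : Subgroup X) < ⊤ := lt_top_iff_ne_top.2 fun h =>
      hne (Subgroup.subgroupOf_eq_top.1 h)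
    obtain ⟨y, hyN, hyB⟩ := SetLike.exists_of_lt
      (Group.normalizerCondition_of_isNilpotent (G := (P : Subgroup X)) _ hlt)
    have hyJ := hnormB ((y : X) : G) fun b hb =>
      (Subgroup.mem_normalizer_iff.1 hyN ⟨⟨b, hb.2⟩, hP (show (⟨b, hb.2⟩ : X) ∈ B.comap X.subtype
        from hb)⟩).1 hb
    obtain ⟨w, hw⟩ := C.monomial _ hyJ
    obtain ⟨j, hj⟩ := P.isPGroup' y
    have hw1 : w = 1 := cent_tau_three w (C.cube_of_pGroup hw (k := j)
      (congrArg (fun y : (P : Subgroup X) => ((y : X) : G)) hj)) (hwt (y : X).2 hw)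
    exact hyB ⟨C.mem_J_of_acts_one (hw1 ▸ hw), (y : X).2⟩
  let τX : X := ⟨t, hmX.2 rfl⟩
  have hτX : τX * τX = 1 := Subtype.ext ht1
  haveI hTn : (Subgroup.zpowers τX).Normal := ⟨fun z hz y => by
    obtain ⟨i, rfl⟩ := hz
    have : Commute y τX := Subtype.ext (hmX.1 y.2)
    show y * τX ^ i * y⁻¹ ∈ _
    rw [(this.zpow_right i).eq, mul_inv_cancel_right]
    exact zpow_mem (Subgroup.mem_zpowers τX) i⟩
  have hT : ∀ z ∈ Subgroup.zpowers τX, z = 1 ∨ z = τX := by
    rintro _ ⟨i, rfl⟩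
    rcases Int.even_or_odd i with ⟨j, rfl⟩ | ⟨j, rfl⟩
    · exact Or.inl (by dsimp only; rw [← two_mul, zpow_mul, zpow_two, hτX, one_zpow])
    · exact Or.inr (by dsimp only; rw [zpow_add, zpow_mul, zpow_two, hτX, one_zpow, one_mul, zpow_one])
  -- an element of order three and one differing from it by the reflection
  have hcube : ∀ e f : X, (e : G) ∈ θ.range → (f : G) ∈ θ.range →
      e⁻¹ * f ∈ Subgroup.zpowers τX → e = f := by
    intro e f he hf hef
    rcases hT _ hef with h | h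
    · exact inv_mul_eq_one.1 h
    · exfalso
      obtain ⟨v, hv⟩ : ((e⁻¹ * f : X) : G) ∈ θ.range := mul_mem (inv_mem he) hf
      rw [h] at hv
      have h3 : t = 1 := by
        have h2 : t ^ 3 = 1 := by rw [← show θ v = t from hv, ← map_pow, cube_eq_one, map_one]
        rwa [pow_three', ht1, one_mul] at h2
      have h4 := ht v1
      rw [h3, one_mul, inv_one, mul_one, C.inj.eq_iff] at h4
      exact absurd h4 (by decide +kernel)
  let q : X →* X ⧸ Subgroup.zpowers τX := QuotientGroup.mk' _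
  have hq : Function.Surjective q := QuotientGroup.mk'_surjective _
  let PY : Sylow 3 (X ⧸ Subgroup.zpowers τX) := P.mapSurjective hq
  have hPY : ∀ y, y ∈ (PY : Subgroup (X ⧸ Subgroup.zpowers τX)) ↔
      ∃ e : X, (e : G) ∈ θ.range ∧ q e = y := fun y => by
    rw [Sylow.coe_mapSurjective, Subgroup.mem_map]
    exact ⟨fun ⟨e, he, h⟩ => ⟨e, (hPB e).1 he, h⟩, fun ⟨e, he, h⟩ => ⟨e, (hPB e).2 he, h⟩⟩
  -- conjugation in the quotient is detected in the group
  have hdet : ∀ (y e f : X), (e : G) ∈ θ.range → q y * q e * (q y)⁻¹ = q f → (f : G) ∈ θ.range →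
      y * e * y⁻¹ = f := by
    intro y e f he hef hf
    have hmem : (y * e * y⁻¹)⁻¹ * f ∈ Subgroup.zpowers τX := by
      rw [← QuotientGroup.eq_one_iff]
      show q ((y * e * y⁻¹)⁻¹ * f) = 1
      rw [map_mul, map_inv, map_mul, map_mul, map_inv, hef, inv_mul_cancel]
    rcases hT _ hmem with h | h
    · exact inv_mul_eq_one.1 h
    · exfalso
      have h1 : f = (y * e * y⁻¹) * τX := by rw [← h, mul_inv_cancel_left]
      have c3 : ∀ z : X, (z : G) ∈ θ.range → z ^ 3 = 1 := fun z ⟨v, hv⟩ => Subtype.ext (by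
        rw [Subgroup.coe_pow, ← hv, ← map_pow, cube_eq_one, map_one]; rfl)
      have h2 := c3 f hf
      have hc : Commute (y * e * y⁻¹) τX := Subtype.ext (hmX.1 (y * e * y⁻¹).2)
      rw [h1, hc.mul_pow, conj_pow, c3 e he, mul_one, mul_inv_cancel, one_mul, pow_three', hτX,
        one_mul] at h2
      have h3 : t = 1 := congrArg Subtype.val h2
      have h4 := ht v1
      rw [h3, one_mul, inv_one, mul_one, C.inj.eq_iff] at h4
      exact absurd h4 (by decide +kernel)
  have hPYN : ∀ y : X, q y ∈ Subgroup.normalizer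
      ((PY : Subgroup (X ⧸ Subgroup.zpowers τX)) : Set (X ⧸ Subgroup.zpowers τX)) →
      (y : G) ∈ NJ θ := by
    intro y hy
    refine hnormB _ fun b hb => ?_
    obtain ⟨f, hf, hfe⟩ := (hPY _).1
      ((Subgroup.mem_normalizer_iff.1 hy (q ⟨b, hb.2⟩)).1 ((hPY _).2 ⟨_, hb.1, rfl⟩))
    have h := congrArg Subtype.val (hdet y ⟨b, hb.2⟩ f hb.1 hfe.symm hf)
    change (y : G) * b * (y : G)⁻¹ = f at h
    rw [h]
    exact ⟨hf, f.2⟩
  have hnormY : ∀ y : X, (y : G) ∈ NJ θ → q y ∈ Subgroup.normalizer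
      ((PY : Subgroup (X ⧸ Subgroup.zpowers τX)) : Set (X ⧸ Subgroup.zpowers τX)) := by
    intro y hy
    refine Subgroup.mem_normalizer_iff.2 fun z => ⟨fun hz => ?_, fun hz => ?_⟩
    · obtain ⟨e, he, rfl⟩ := (hPY z).1 hz
      exact (hPY _).2 ⟨y * e * y⁻¹, (Subgroup.mem_normalizer_iff.1 hy _).1 he, by
        rw [map_mul, map_mul, map_inv]⟩
    · obtain ⟨e, he, hee⟩ := (hPY _).1 hz
      refine (hPY z).2 ⟨y⁻¹ * e * y, ?_, by rw [map_mul, map_mul, map_inv, hee]; group⟩
      have h := (Subgroup.mem_normalizer_iff.1 (inv_mem hy) _).1 he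
      rwa [inv_inv] at h
  have hfix : ∀ e : X, (e : G) ∈ θ.range → ∃ v, θ v = (e : G) ∧ act tau v = v := fun e he => by
    obtain ⟨v, hv⟩ := he
    exact ⟨v, hv, (hBmem v).1 (hv ▸ e.2)⟩
  have hnine : Nine PY := by
    refine ⟨?_, fun y hy => ?_, ⟨⟨fun a b => ?_⟩⟩, fun z hz => ?_, fun y hy hy1 z hzy => ?_⟩
    · have : Nat.card {v : V // act tau v = v} =
          Nat.card (PY : Subgroup (X ⧸ Subgroup.zpowers τX)) := by
        refine Nat.card_eq_of_bijective (fun v => ⟨q ⟨θ v.1, (hBmem _).2 v.2⟩,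
          (hPY _).2 ⟨_, ⟨_, rfl⟩, rfl⟩⟩) ⟨fun a b e => ?_, fun y => ?_⟩
        · refine Subtype.ext (C.inj (congrArg Subtype.val (hcube ⟨θ a.1, (hBmem _).2 a.2⟩
            ⟨θ b.1, (hBmem _).2 b.2⟩ ⟨_, rfl⟩ ⟨_, rfl⟩ (QuotientGroup.eq.1 (congrArg Subtype.val e)))))
        · obtain ⟨e, he, hee⟩ := (hPY _).1 y.2
          obtain ⟨v, hv, hv'⟩ := hfix e he
          exact ⟨⟨v, hv'⟩, Subtype.ext (by rw [← hee]; exact congrArg q (Subtype.ext hv))⟩
      rw [← this, Nat.card_eq_fintype_card, Fintype.card_subtype, fix_tau_card]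
    · obtain ⟨e, ⟨v, hv⟩, rfl⟩ := (hPY y).1 hy
      rw [← map_pow, show e ^ 3 = 1 from Subtype.ext (by
        rw [Subgroup.coe_pow, ← hv, ← map_pow, cube_eq_one, map_one]; rfl), map_one]
    · obtain ⟨e, ⟨v, hv⟩, he⟩ := (hPY _).1 a.2
      obtain ⟨f, ⟨w, hw⟩, hf⟩ := (hPY _).1 b.2
      refine Subtype.ext ?_
      show (a : X ⧸ Subgroup.zpowers τX) * b = b * a
      rw [← he, ← hf, ← map_mul, ← map_mul]
      exact congrArg q (Subtype.ext (by
        rw [Subgroup.coe_mul, Subgroup.coe_mul, ← hv, ← hw, commute_J]))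
    · obtain ⟨y, rfl⟩ := hq z
      have hc : ∀ v, act tau v = v → (y : G) * θ v = θ v * y := by
        intro v hv
        have h := Subgroup.mem_centralizer_iff.1 hz (q ⟨θ v, (hBmem v).2 hv⟩)
          ((hPY _).2 ⟨_, ⟨v, rfl⟩, rfl⟩)
        exact mul_inv_eq_iff_eq_mul.1 (congrArg Subtype.val (hdet y _ ⟨θ v, (hBmem v).2 hv⟩ ⟨v, rfl⟩
          (by rw [← h, mul_inv_cancel_right]) ⟨v, rfl⟩))
      obtain ⟨w, hw⟩ := C.monomial _ (hsmall v3 (by decide +kernel) (mem_cg_one.2 (hc _ hτ3)))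
      rcases fix_tau w ((C.acts_commute hw _).1 (hc _ hτv)) ((C.acts_commute hw _).1 (hc _ hτ3))
        with rfl | rfl
      · exact (hPY _).2 ⟨y, C.mem_J_of_acts_one hw, rfl⟩
      · refine (hPY _).2 ⟨y * τX, C.mem_J_of_acts_one (n := (y : G) * t) ?_, ?_⟩
        · have h := acts_mul hw ht; rwa [hτ2] at h
        · rw [map_mul, show q τX = 1 from (QuotientGroup.eq_one_iff _).2 (Subgroup.mem_zpowers _),
            mul_one]
    · obtain ⟨e, he, rfl⟩ := (hPY y).1 hy
      obtain ⟨w, rfl⟩ := hq z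
      have h := hdet w e e he (by rw [hzy, mul_inv_cancel_right]) he
      refine hnormY w (hloc e ⟨he, e.2⟩ (fun h1 => hy1 (by
        rw [show e = 1 from Subtype.ext h1, map_one])) w ?_)
      exact mul_inv_eq_iff_eq_mul.1 (congrArg Subtype.val h)
  -- the maps induced on the fixed points
  let Y' := Subgroup.normalizer
    ((PY : Subgroup (X ⧸ Subgroup.zpowers τX)) : Set (X ⧸ Subgroup.zpowers τX))
  have hpre : ∀ z : Y', ∃ y : X, q y = (z : X ⧸ Subgroup.zpowers τX) := fun z => hq z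
  choose pre hpre' using hpre
  have hpreN : ∀ z : Y', (pre z : G) ∈ NJ θ := fun z => hPYN _ (by rw [hpre']; exact z.2)
  have hwd : ∀ (z : Y') (y : X) (w : W), q y = (z : X ⧸ Subgroup.zpowers τX) → Acts θ (y : G) w →
      res (C.pi ⟨pre z, hpreN z⟩) = res w := by
    intro z y w hy hw
    have hp := C.pi_spec ⟨pre z, hpreN z⟩
    have hpc := hwt (pre z).2 hp
    rcases hT _ (QuotientGroup.eq.1 ((hpre' z).trans hy.symm)) with h | h
    · rw [C.acts_unique (n := (y : G)) (show Acts θ (y : G) (C.pi ⟨pre z, hpreN z⟩) from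
        (congrArg Subtype.val (inv_mul_eq_one.1 h)) ▸ hp) hw]
    · have hy' : (y : G) = pre z * t := by
        have := congrArg Subtype.val (eq_mul_of_inv_mul_eq h)
        exact this
      rw [C.acts_unique hw (hy' ▸ acts_mul hp ht), (res_spec _ hpc).2.1]
  let ρ : Y' →* W := MonoidHom.mk' (fun z => res (C.pi ⟨pre z, hpreN z⟩)) fun a b => by
    rw [hwd (a * b) (pre a * pre b) _ (by rw [map_mul, hpre', hpre']; rfl)
      (acts_mul (C.pi_spec ⟨pre a, hpreN a⟩) (C.pi_spec ⟨pre b, hpreN b⟩))]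
    exact res_mul _ (hwt (pre a).2 (C.pi_spec ⟨pre a, hpreN a⟩)) _
      (hwt (pre b).2 (C.pi_spec ⟨pre b, hpreN b⟩))
  have hρact : ∀ (z : Y') (y : X) (v : V), θ v = (y : G) → act tau v = v →
      ∃ y' : X, θ (act (ρ z) v) = (y' : G) ∧
        (z : X ⧸ Subgroup.zpowers τX) * q y * (z : X ⧸ Subgroup.zpowers τX)⁻¹ = q y' := by
    intro z y v hv hvt
    have hp := C.pi_spec ⟨pre z, hpreN z⟩
    refine ⟨pre z * y * (pre z)⁻¹, ?_, by rw [map_mul, map_mul, map_inv, hpre']⟩
    show θ (act (res _) v) = (pre z : G) * (y : G) * (pre z : G)⁻¹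
    rw [(res_spec _ (hwt (pre z).2 hp)).2.2.2.2 v hvt, ← hv]
    exact (hp v).symm
  have hρlift : ∀ d : W, d * tau = tau * d → inQ k d = true → ∃ z : Y', ρ z = res d := by
    intro d hd hdQ
    obtain ⟨m, hm, hmt⟩ := C.lift_commute ht ht1 ((hk d).2 hdQ) hd
    exact ⟨⟨q ⟨m, hmX.2 hmt⟩, hnormY _ (acts_mem hm)⟩, hwd _ ⟨m, hmX.2 hmt⟩ d rfl hm⟩
  have hρker : ∀ z : Y', ρ z = 1 ↔ (z : X ⧸ Subgroup.zpowers τX) ∈
      (PY : Subgroup (X ⧸ Subgroup.zpowers τX)) := by
    intro z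
    have hp := C.pi_spec ⟨pre z, hpreN z⟩
    constructor
    · intro h
      rcases (res_spec _ (hwt (pre z).2 hp)).2.2.1 h with e | e <;> rw [e] at hp
      · exact (hPY _).2 ⟨pre z, C.mem_J_of_acts_one hp, hpre' z⟩
      · refine (hPY _).2 ⟨pre z * τX, C.mem_J_of_acts_one (n := (pre z : G) * t) ?_, ?_⟩
        · have h := acts_mul hp ht; rwa [hτ2] at h
        · rw [map_mul, show q τX = 1 from (QuotientGroup.eq_one_iff _).2 (Subgroup.mem_zpowers _),
            mul_one, hpre']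
    · intro h
      obtain ⟨e, ⟨v, hv⟩, hee⟩ := (hPY _).1 h
      exact (hwd z e 1 hee (hv ▸ acts_J v)).trans kind_elems.2.2.2.2.2.2.2.1
  have hρQ : ∀ z : Y', ∃ a : W, a * tau = tau * a ∧ inQ k a = true ∧ ρ z = res a := fun z =>
    ⟨_, hwt (pre z).2 (C.pi_spec ⟨pre z, hpreN z⟩),
      (hk _).1 ⟨_, C.pi_spec ⟨pre z, hpreN z⟩⟩, rfl⟩
  have htriv : ∀ z : Y', ρ z = 1 → ∀ e ∈ (PY : Subgroup (X ⧸ Subgroup.zpowers τX)),
      (z : X ⧸ Subgroup.zpowers τX) * e * (z : X ⧸ Subgroup.zpowers τX)⁻¹ = e := fun z hz e he =>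
    mul_inv_eq_iff_eq_mul.2 (congrArg Subtype.val (hnine.comm.is_comm.comm
      (⟨_, (hρker z).1 hz⟩ : (PY : Subgroup (X ⧸ Subgroup.zpowers τX))) ⟨e, he⟩))
  have hinvert : ∀ (z : Y') (e : X) (v : V), θ v = (e : G) → act tau v = v →
      act (ρ z) v = v⁻¹ →
      (z : X ⧸ Subgroup.zpowers τX) * q e * (z : X ⧸ Subgroup.zpowers τX)⁻¹ = (q e)⁻¹ := by
    intro z e v hv hvt ha
    obtain ⟨y', hy', he'⟩ := hρact z e v hv hvt
    rw [he', ← map_inv]
    refine congrArg q (Subtype.ext ?_)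
    rw [← hy', ha, map_inv, hv]
    rfl
  obtain ⟨k1, k2, k3, k4, k5, k6, k7, -, r1, r2, r3, -⟩ := kind_elems
  have hnormal : (PY : Subgroup (X ⧸ Subgroup.zpowers τX)).Normal := by
    match k, hk, hρlift, hρQ with
    | 0, hk, hρlift, hρQ =>
      refine hnine.trivial_case fun z hz => ?_
      obtain ⟨a, ha, haQ, hza⟩ := hρQ ⟨z, hz⟩
      exact (hρker ⟨z, hz⟩).1 (hza.trans ((kind_res 0 a ha haQ).1 rfl))
    | 1, hk, hρlift, hρQ =>
      obtain ⟨n, hn⟩ := hρlift neg k1 k4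
      rw [r1] at hn
      have inv : ∀ z : Y', ρ z = neg → ∀ e ∈ (PY : Subgroup (X ⧸ Subgroup.zpowers τX)),
          (z : X ⧸ Subgroup.zpowers τX) * e * (z : X ⧸ Subgroup.zpowers τX)⁻¹ = e⁻¹ := by
        intro z hz e he
        obtain ⟨y, hy, rfl⟩ := (hPY e).1 he
        obtain ⟨v, hv, hvt⟩ := hfix y hy
        exact hinvert z y v hv hvt (by rw [hz, act_neg])
      refine hnine.inverted_case n.2 (inv n hn) fun z hz => ?_
      obtain ⟨a, ha, haQ, hza⟩ := hρQ ⟨z, hz⟩
      rcases (kind_res 1 a ha haQ).2.1 rfl with h | h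
      · exact Or.inl (htriv ⟨z, hz⟩ (hza.trans h))
      · exact Or.inr (inv ⟨z, hz⟩ (hza.trans h))
    | 2, hk, hρlift, hρQ =>
      obtain ⟨n, hn⟩ := hρlift (neg * eps) k3 k7
      rw [r3] at hn
      refine hnine.reflection_case (z := q ⟨θ (v1 * v2), (hBmem _).2 hτv⟩) n.2
        ((hPY _).2 ⟨_, ⟨_, rfl⟩, rfl⟩) (fun h => ?_)
        (hinvert n _ (v1 * v2) rfl hτv (by rw [hn]; exact act_negeps.1)) (fun e he => ?_)
        (fun e he hne => ?_) fun z hz => ?_
      · have := congrArg Subtype.val (hcube 1 ⟨θ (v1 * v2), (hBmem _).2 hτv⟩ (one_mem _) ⟨_, rfl⟩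
          (by rw [inv_one, one_mul]; exact (QuotientGroup.eq_one_iff _).1 h))
        exact absurd (C.inj ((map_one θ).trans this)) v12_ne
      · have hnn : ρ (n * n) = 1 := by
          rw [map_mul, hn, ← r3]
          exact (res_spec (neg * eps) k3).2.2.2.1
        have := htriv (n * n) hnn e he
        simpa [mul_assoc] using this
      · obtain ⟨y, hy, rfl⟩ := (hPY e).1 he
        obtain ⟨v, hv, hvt⟩ := hfix y hy
        obtain ⟨y', hy', he'⟩ := hρact n y v hv hvt
        rw [he', ← map_inv] at hne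
        have h1 := hcube y' y⁻¹ ⟨_, hy'⟩ (inv_mem hy) (QuotientGroup.eq.1 hne)
        have h2 : act (neg * eps) v = v⁻¹ := C.inj (by
          rw [← hn, hy', h1, map_inv, hv]; rfl)
        rcases act_negeps.2 v hvt h2 with rfl | rfl | rfl
        · rw [show y = 1 from Subtype.ext (hv.symm.trans (map_one θ)), map_one]; exact one_mem _
        · rw [show y = ⟨θ (v1 * v2), (hBmem _).2 hτv⟩ from Subtype.ext hv.symm]
          exact Subgroup.mem_zpowers _
        · rw [show y = (⟨θ (v1 * v2), (hBmem _).2 hτv⟩ : X)⁻¹ from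
            Subtype.ext (hv.symm.trans (map_inv θ _)), map_inv]
          exact inv_mem (Subgroup.mem_zpowers _)
      · obtain ⟨a, ha, haQ, hza⟩ := hρQ ⟨z, hz⟩
        rcases (kind_res 2 a ha haQ).2.2 rfl with h | h
        · exact Or.inl (htriv ⟨z, hz⟩ (hza.trans h))
        · refine Or.inr fun e he => ?_
          obtain ⟨y, hy, rfl⟩ := (hPY e).1 he
          obtain ⟨v, hv, hvt⟩ := hfix y hy
          obtain ⟨y1, hy1, he1⟩ := hρact ⟨z, hz⟩ y v hv hvt
          obtain ⟨y2, hy2, he2⟩ := hρact n y v hv hvt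
          rw [hza, h] at hy1
          rw [hn] at hy2
          rw [he2]
          exact he1.trans (congrArg q (Subtype.ext (hy1.symm.trans hy2)))
    | 3, hk, hρlift, hρQ =>
      have hsq : ∀ y : ρ.range, y ^ 2 = 1 := by
        rintro ⟨_, z, rfl⟩
        obtain ⟨a, ha, -, hza⟩ := hρQ z
        refine Subtype.ext ?_
        rw [Subgroup.coe_pow, pow_two]
        show ρ z * ρ z = 1
        rw [hza]
        exact (res_spec a ha).2.2.2.1
      have hmem : ∀ w, w ∈ ρ.range ↔ w ∈ ({1, neg, eps, neg * eps} : Finset W) := by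
        intro w
        have e1 : neg ∈ ρ.range := by
          obtain ⟨z, hz⟩ := hρlift neg k1 k5
          exact ⟨z, hz.trans r1⟩
        have e2 : eps ∈ ρ.range := by
          obtain ⟨z, hz⟩ := hρlift eps k2 k6
          exact ⟨z, hz.trans r2⟩
        simp only [Finset.mem_insert, Finset.mem_singleton]
        constructor
        · rintro ⟨z, rfl⟩
          obtain ⟨a, ha, -, hza⟩ := hρQ z
          rw [hza]
          exact (res_spec a ha).1
        · rintro (rfl | rfl | rfl | rfl)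
          exacts [one_mem _, e1, e2, mul_mem e1 e2]
      have h4 : Nat.card ρ.range = 4 := by
        rw [Nat.card_congr (Equiv.subtypeEquivRight hmem), Nat.card_eq_fintype_card, Fintype.card_coe]
        decide +kernel
      haveI : Nontrivial ρ.range := Finite.one_lt_card_iff_nontrivial.1 (by omega)
      haveI : IsKleinFour ρ.range :=
        ⟨h4, (Monoid.exponent_eq_prime_iff Nat.prime_two).2 fun y hy => orderOf_eq_prime (hsq y) hy⟩
      exact hnine.klein_case ρ.rangeRestrict ρ.rangeRestrict_surjective fun z =>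
        Subtype.ext_iff.trans (hρker z)
  refine hPYN ⟨g, hmX.2 hg⟩ ?_
  rw [Subgroup.normalizer_eq_top_iff.2 hnormal]
  exact Subgroup.mem_top _

end Loc

end Cfsg.Agent.S9Three
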