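import Cfsg.Agent.Lib.S9Three.Kind
import Cfsg.Agent.Lib.S9Three.Gen
import Cfsg.Agent.Lib.A9Three.Split

/-!
S3343: transfer in the centralisers of tuples of elements of the elementary abelian subgroup, and
the case of a small transferred kernel.
-/

set_option autoImplicit false
set_option maxRecDepth 20000
set_option linter.style.haveILetI false

namespace Cfsg.Agent.S9Three

open Cfsg.Agent.ThreeTI.Cube (V)

universe u

variable {G : Type u} [Group G]

/-- The centraliser of a tuple. -/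
abbrev cg (θ : V →* G) {n : ℕ} (ys : Fin n → V) : Subgroup G :=
  Subgroup.centralizer (Set.range fun i => θ (ys i))

theorem mem_cg {θ : V →* G} {n : ℕ} {ys : Fin n → V} {g : G} :
    g ∈ cg θ ys ↔ ∀ i, g * θ (ys i) = θ (ys i) * g := by
  rw [Subgroup.mem_centralizer_iff]
  exact ⟨fun h i => (h _ ⟨i, rfl⟩).symm, fun h _ ⟨i, hi⟩ => hi ▸ (h i).symm⟩

theorem J_le_cg (θ : V →* G) {n : ℕ} (ys : Fin n → V) : θ.range ≤ cg θ ys := by
  rintro _ ⟨v, rfl⟩
  exact mem_cg.2 fun i => Loc.commute_J v _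

theorem cube_eq_one : ∀ v : V, v ^ 3 = 1 := by decide +kernel

theorem pow_eq_one_iff_V {m : ℕ} (v : V) (hm : ¬ 3 ∣ m) : v ^ m = 1 ↔ v = 1 :=
  ⟨fun h => orderOf_eq_one_iff.1 (Nat.eq_one_of_dvd_coprimes
    (Nat.prime_three.coprime_iff_not_dvd.2 hm) (orderOf_dvd_of_pow_eq_one (cube_eq_one v))
    (orderOf_dvd_of_pow_eq_one h)), fun h => by rw [h, one_pow]⟩

theorem ne_inv_V : ∀ z : V, z ≠ 1 → z ≠ z⁻¹ := by decide +kernel

namespace Loc

variable {θ : V →* G} (C : Loc θ)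
include C

/-- A transfer into `V` with the kernel prescribed on the elementary abelian subgroup. -/
theorem split [Finite G] {n : ℕ} (ys : Fin n → V)
    (h3 : ∀ w, Lift θ w → (∀ i, act w (ys i) = ys i) → w * w * w = 1 → w = 1)
    (φ : V →* V) (hφ : ∀ w, Lift θ w → (∀ i, act w (ys i) = ys i) → ∀ x, φ (act w x) = φ x) :
    ∃ f : cg θ ys →* V,
      (∀ (x : V) (h : θ x ∈ cg θ ys), f ⟨θ x, h⟩ = 1 ↔ φ x = 1) ∧
      ∀ Q : Subgroup G, IsPGroup 3 Q → θ.range ≤ Q → Q ≤ cg θ ys → Q = θ.range := by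
  haveI : Fact (Nat.Prime 3) := ⟨Nat.prime_three⟩
  have huniq : ∀ Q : Subgroup G, IsPGroup 3 Q → θ.range ≤ Q → Q ≤ cg θ ys → Q = θ.range := by
    intro Q hQ hJ hle
    refine le_antisymm (fun g hg => ?_) hJ
    obtain ⟨w, hw⟩ := C.monomial g (C.le_NJ_of_pGroup hQ hJ hg)
    obtain ⟨k, hk⟩ := hQ ⟨g, hg⟩
    have hw1 : w = 1 := h3 w ⟨g, hw⟩ (fun i => (C.acts_commute hw _).1 (mem_cg.1 (hle hg) i))
      (C.cube_of_pGroup hw (k := k) (congrArg Subtype.val hk))
    exact C.mem_J_of_acts_one (hw1 ▸ hw)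
  obtain ⟨P, hP⟩ := (C.J_isPGroup.comap_of_injective (cg θ ys).subtype
    Subtype.coe_injective).exists_le_sylow
  have hPJ : (P : Subgroup (cg θ ys)) = θ.range.subgroupOf (cg θ ys) := by
    refine le_antisymm (fun x hx => ?_) hP
    exact (huniq ((P : Subgroup (cg θ ys)).map (cg θ ys).subtype) (P.isPGroup'.map _)
      (fun y hy => ⟨⟨y, J_le_cg θ ys hy⟩, hP hy, rfl⟩) (Subgroup.map_subtype_le _)).le ⟨x, hx, rfl⟩
  let e : V ≃* θ.range := MonoidHom.ofInjective C.inj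
  let ψ : (P : Subgroup (cg θ ys)) →* V :=
    φ.comp (e.symm.toMonoidHom.comp (((Subgroup.subgroupOfEquivOfLe (J_le_cg θ ys)).toMonoidHom).comp
      (MulEquiv.subgroupCongr hPJ).toMonoidHom))
  have hψ : ∀ (x : (P : Subgroup (cg θ ys))) (v : V), θ v = ((x : cg θ ys) : G) → ψ x = φ v := by
    intro x v hv
    show φ (e.symm _) = φ v
    congr 1
    rw [MulEquiv.symm_apply_eq]
    exact Subtype.ext hv.symm
  obtain ⟨f, hf⟩ := A9Three.exists_transfer P ψ (by
    intro x y g he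
    obtain ⟨u, hu⟩ := hPJ.le x.2
    obtain ⟨v, hv⟩ := hPJ.le y.2
    change θ u = _ at hu
    change θ v = _ at hv
    have eg : ∀ i : Fin (n + 1), (g : G) * θ ((Fin.cons u ys : Fin (n + 1) → V) i) * (g : G)⁻¹ = θ ((Fin.cons v ys : Fin (n + 1) → V) i) := by
      intro i
      refine Fin.cases ?_ (fun j => ?_) i
      · simp only [Fin.cons_zero]; rw [hu, hv, ← he]; rfl
      · simp only [Fin.cons_succ]; rw [mem_cg.1 g.2 j, mul_inv_cancel_right]
    obtain ⟨w, hw, hwi⟩ := C.fusion _ _ eg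
    have h0 : act w u = v := by simpa using hwi 0
    rw [hψ x u hu, hψ y v hv, ← h0]
    exact (hφ w hw (fun j => by simpa using hwi j.succ) u).symm)
  refine ⟨f, fun x h => ?_, huniq⟩
  have hmP : (⟨θ x, h⟩ : cg θ ys) ∈ (P : Subgroup (cg θ ys)) := hPJ.ge ⟨x, rfl⟩
  rw [hf ⟨_, hmP⟩, hψ ⟨_, hmP⟩ x rfl]
  exact pow_eq_one_iff_V _ P.not_dvd_index

omit C in
/-- Conjugates of the elementary abelian subgroup normalising it. -/
theorem mem_NJ_of_map {g : G} (h : θ.range.map (MulAut.conj g).toMonoidHom = θ.range) : g ∈ NJ θ := by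
  refine Subgroup.mem_normalizer_iff.2 fun y => ⟨fun hy => h ▸ ⟨y, hy, rfl⟩, fun hy => ?_⟩
  rw [← h] at hy
  obtain ⟨z, hz, hze⟩ := hy
  rwa [show y = z from ((MulAut.conj g).injective hze).symm]

/-- The transferred kernel admits no invariant subgroup of order prime to three. -/
theorem sig_cg [Finite G] {n : ℕ} (ys : Fin n → V) (R : Subgroup (cg θ ys))
    (hcop : (Nat.card R).Coprime 3)
    (hR : ∀ p ∈ θ.range.subgroupOf (cg θ ys), R.map (MulAut.conj p).toMonoidHom = R) : R = ⊥ := by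
  refine (Subgroup.map_eq_bot_iff_of_injective _ (cg θ ys).subtype_injective).1 (C.sig _ ?_ fun v => ?_)
  · rw [Subgroup.card_map_of_injective (cg θ ys).subtype_injective]; exact hcop
  · have h := hR ⟨θ v, J_le_cg θ ys ⟨v, rfl⟩⟩ ⟨v, rfl⟩
    conv_rhs => rw [← h]
    rw [Subgroup.map_map, Subgroup.map_map]
    rfl

/-- A kernel meeting the elementary abelian subgroup trivially is trivial. -/
theorem trivial_kernel [Finite G] {n : ℕ} (ys : Fin n → V) (f : cg θ ys →* V)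
    (huniq : ∀ Q : Subgroup G, IsPGroup 3 Q → θ.range ≤ Q → Q ≤ cg θ ys → Q = θ.range)
    (hex : ∀ v (h : θ v ∈ cg θ ys), f ⟨θ v, h⟩ = 1 → v = 1) : cg θ ys ≤ NJ θ := by
  haveI : Fact (Nat.Prime 3) := ⟨Nat.prime_three⟩
  obtain ⟨P0, hP0⟩ := (C.J_isPGroup.comap_of_injective (cg θ ys).subtype
    Subtype.coe_injective).exists_le_sylow
  have hP0' : ∀ x ∈ (P0 : Subgroup (cg θ ys)), (x : G) ∈ θ.range := fun x hx =>
    (huniq ((P0 : Subgroup (cg θ ys)).map (cg θ ys).subtype) (P0.isPGroup'.map _)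
      (fun y hy => ⟨⟨y, J_le_cg θ ys hy⟩, hP0 hy, rfl⟩) (Subgroup.map_subtype_le _)).le
      ⟨x, hx, rfl⟩
  have hcop : (Nat.card f.ker).Coprime 3 := by
    rw [Nat.coprime_comm, Nat.prime_three.coprime_iff_not_dvd]
    intro hd
    obtain ⟨Q, hQ⟩ := PBasic.exists_sylow_subgroupOf P0 f.ker
    have h1 := Q.dvd_card_of_dvd_card hd
    have h2 : (Q : Subgroup f.ker) = ⊥ := by
      rw [eq_bot_iff]
      intro x hx
      rw [hQ, Subgroup.mem_subgroupOf] at hx
      obtain ⟨v, hv⟩ := hP0' _ hx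
      have hfv : f ⟨θ v, J_le_cg θ ys ⟨v, rfl⟩⟩ = 1 := by
        rw [show (⟨θ v, J_le_cg θ ys ⟨v, rfl⟩⟩ : cg θ ys) = (x : cg θ ys) from Subtype.ext hv]
        exact x.2
      refine Subgroup.mem_bot.2 (Subtype.ext (Subtype.ext ?_))
      rw [← hv, hex v _ hfv, map_one]
      rfl
    rw [h2, Subgroup.card_bot] at h1
    norm_num at h1
  have hK1 : f.ker = ⊥ := C.sig_cg ys f.ker hcop fun p _ =>
    Subgroup.normal_iff_map_conj_eq.1 (MonoidHom.normal_ker f) p
  intro g hg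
  refine J_le_NJ (C.selfc g fun v => ?_)
  have h := (Subgroup.eq_bot_iff_forall _).1 hK1
    (⟨g, hg⟩ * ⟨θ v, J_le_cg θ ys ⟨v, rfl⟩⟩ * ⟨g, hg⟩⁻¹ * ⟨θ v, J_le_cg θ ys ⟨v, rfl⟩⟩⁻¹)
    (by rw [MonoidHom.mem_ker, map_mul, map_mul, map_mul, map_inv, map_inv, mul_comm (f _) (f _),
      mul_inv_cancel_right, mul_inv_cancel])
  exact mul_inv_eq_iff_eq_mul.1 (mul_inv_eq_one.1 (congrArg Subtype.val h))

/-- A normal kernel with a normal subgroup of order three. -/
theorem mem_NJ_of_three [Finite G] {n : ℕ} (ys : Fin n → V) {z : V} (hz1 : z ≠ 1)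
    (hcz : ∀ g ∈ cg θ ys, g * θ z = θ z * g → g ∈ NJ θ) {g : G} (hg : g ∈ cg θ ys)
    (hgz : g * θ z * g⁻¹ = θ z ∨ g * θ z * g⁻¹ = (θ z)⁻¹) : g ∈ NJ θ := by
  have hAle : θ.range.map (MulAut.conj g).toMonoidHom ≤ NJ θ := by
    rintro _ ⟨_, ⟨v, rfl⟩, rfl⟩
    refine hcz _ (mul_mem (mul_mem hg (J_le_cg θ ys ⟨v, rfl⟩)) (inv_mem hg)) ?_
    show g * θ v * g⁻¹ * _ = _ * (g * θ v * g⁻¹)
    rcases hgz with h | h
    · nth_rewrite 1 [← h]
      nth_rewrite 2 [← h]
      rw [conj_mul, conj_mul, commute_J]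
    · have h' : θ z = (g * θ z * g⁻¹)⁻¹ := by rw [h, inv_inv]
      rw [h', show (g * θ z * g⁻¹)⁻¹ = g * θ z⁻¹ * g⁻¹ by rw [map_inv]; group, conj_mul, conj_mul,
        commute_J]
  refine mem_NJ_of_map (C.eq_J_of_le hAle (C.J_isPGroup.map _) ?_ ?_)
  · rintro _ ⟨_, ⟨a, rfl⟩, rfl⟩ _ ⟨_, ⟨b, rfl⟩, rfl⟩
    simp only [← map_mul]
    rw [mul_comm]
  · rw [Subgroup.card_map_of_injective (MulEquiv.injective _), C.card_J]

/-- A centraliser whose transferred kernel has order at most three lies in the normaliser. -/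
theorem small_kernel [Finite G] {n : ℕ} (ys : Fin n → V)
    (h3 : ∀ w, Lift θ w → (∀ i, act w (ys i) = ys i) → w * w * w = 1 → w = 1)
    (φ : V →* V) (hφ : ∀ w, Lift θ w → (∀ i, act w (ys i) = ys i) → ∀ x, φ (act w x) = φ x)
    (hker : (Finset.univ.filter fun x : V => φ x = 1).card ≤ 3)
    (hz : ∀ z, φ z = 1 → z ≠ 1 →
      (∀ g ∈ cg θ ys, g * θ z = θ z * g → g ∈ NJ θ) ∧
      ∀ w, Lift θ w → (∀ i, act w (ys i) = ys i) → act w z = z → w = 1) :
    cg θ ys ≤ NJ θ := by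
  classical
  haveI : Fact (Nat.Prime 3) := ⟨Nat.prime_three⟩
  obtain ⟨f, hf, huniq⟩ := C.split ys h3 φ hφ
  by_cases hex : ∀ x, φ x = 1 → x = 1
  · exact C.trivial_kernel ys f huniq fun v h e => hex v ((hf v h).1 e)
  push Not at hex
  obtain ⟨z, hz0, hz1⟩ := hex
  obtain ⟨hcz, hwz⟩ := hz z hz0 hz1
  have hkz : ∀ x, φ x = 1 → x = 1 ∨ x = z ∨ x = z⁻¹ := by
    intro x hx
    by_contra hc
    push Not at hc
    obtain ⟨n1, n2, n3⟩ := hc
    have h4 : ({1, z, z⁻¹, x} : Finset V).card ≤ (Finset.univ.filter fun x : V => φ x = 1).card :=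
      Finset.card_le_card fun y hy => by
        simp only [Finset.mem_insert, Finset.mem_singleton] at hy
        rcases hy with rfl | rfl | rfl | rfl <;> simp [hz0, hx]
    have n4 : z ≠ z⁻¹ := ne_inv_V z hz1
    have e : ({1, z, z⁻¹, x} : Finset V).card = 4 := by
      rw [Finset.card_insert_of_notMem, Finset.card_insert_of_notMem, Finset.card_insert_of_notMem,
        Finset.card_singleton] <;> simp [n4, Ne.symm n1, Ne.symm n2, Ne.symm n3, Ne.symm hz1, hz1]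
    omega
  let zc : cg θ ys := ⟨θ z, J_le_cg θ ys ⟨z, rfl⟩⟩
  have hz3 : orderOf zc = 3 := orderOf_eq_prime
    (Subtype.ext (show θ z ^ 3 = 1 by rw [← map_pow, cube_eq_one, map_one]))
    (fun h => hz1 (C.inj (show θ z = θ 1 by rw [map_one]; exact congrArg Subtype.val h)))
  have hC : ∀ k ∈ f.ker, k * zc = zc * k → k ∈ Subgroup.zpowers zc := by
    intro k hk hkz'
    have hc : (k : G) * θ z = θ z * k := congrArg Subtype.val hkz'
    obtain ⟨w, hw⟩ := C.monomial (k : G) (hcz _ k.2 hc)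
    have hw1 : w = 1 := hwz w ⟨_, hw⟩ (fun i => (C.acts_commute hw _).1 (mem_cg.1 k.2 i))
      ((C.acts_commute hw _).1 hc)
    obtain ⟨v, hv⟩ := C.mem_J_of_acts_one (hw1 ▸ hw)
    have hkv : k = ⟨θ v, J_le_cg θ ys ⟨v, rfl⟩⟩ := Subtype.ext hv.symm
    rcases hkz v ((hf v _).1 (hkv ▸ hk)) with rfl | rfl | rfl
    · rw [show k = 1 from Subtype.ext (by rw [← hv, map_one]; rfl)]; exact one_mem _
    · rw [hkv]; exact Subgroup.mem_zpowers zc
    · rw [show k = zc⁻¹ from Subtype.ext (by rw [← hv, map_inv]; rfl)]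
      exact inv_mem (Subgroup.mem_zpowers zc)
  have hnorm := self_three f.ker ((hf z _).2 hz0) hz3 hC
    (C.J_isPGroup.comap_of_injective _ (cg θ ys).subtype_injective :
      IsPGroup 3 (θ.range.subgroupOf (cg θ ys))) fun R _ hcop hR => C.sig_cg ys R hcop hR
  intro g hg
  set y := (⟨g, hg⟩ : cg θ ys) * zc * (⟨g, hg⟩ : cg θ ys)⁻¹ with hy
  have hyK : y ∈ f.ker := (MonoidHom.normal_ker f).conj_mem _ ((hf z _).2 hz0) _
  have two : ∀ {b : cg θ ys}, b ∈ Subgroup.zpowers zc → b = 1 ∨ b = zc ∨ b = zc⁻¹ := by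
    intro b hb
    obtain ⟨j, hj, rfl⟩ := Finset.mem_image.1 (mem_zpowers_iff_mem_range_orderOf.1 hb)
    rw [hz3, Finset.mem_range] at hj
    interval_cases j
    · exact Or.inl (pow_zero _)
    · exact Or.inr (Or.inl (pow_one _))
    · refine Or.inr (Or.inr ?_)
      rw [eq_inv_iff_mul_eq_one, ← pow_succ, show 2 + 1 = orderOf zc from hz3.symm, pow_orderOf_eq_one]
  have hy3 : y ^ 3 = 1 := by
    rw [hy, conj_pow, ← hz3, pow_orderOf_eq_one, mul_one, mul_inv_cancel]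
  have hyne : y ≠ 1 := fun h => by
    rw [hy, conj_eq_one_iff] at h
    rw [h, orderOf_one] at hz3
    omega
  have hyc : y * zc = zc * y := by
    -- an element of order three cannot invert
    rcases two (hnorm y hyK) with h | h | h
    · have h1 : zc = 1 := conj_eq_one_iff.1 h
      rw [h1, orderOf_one] at hz3
      omega
    · exact mul_inv_eq_iff_eq_mul.1 h
    · exfalso
      have h2 : y ^ 3 * zc * (y ^ 3)⁻¹ = zc⁻¹ := by
        rw [show y ^ 3 * zc * (y ^ 3)⁻¹ = y * (y * (y * zc * y⁻¹) * y⁻¹) * y⁻¹ by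
            rw [pow_three']; group, h,
          show y * zc⁻¹ * y⁻¹ = (y * zc * y⁻¹)⁻¹ by group, h, inv_inv, h]
      rw [hy3, one_mul, inv_one, mul_one] at h2
      have h4 := orderOf_dvd_of_pow_eq_one (x := zc) (n := 2) (by
        rw [pow_two]; nth_rewrite 2 [h2]; rw [mul_inv_cancel])
      rw [hz3] at h4
      norm_num at h4
  refine C.mem_NJ_of_three ys hz1 hcz hg ?_
  rcases two (hC y hyK hyc) with h | h | h
  · exact absurd h hyne
  · exact Or.inl (congrArg Subtype.val h)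
  · exact Or.inr (congrArg Subtype.val h)

end Loc

end Cfsg.Agent.S9Three
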