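import Cfsg.Agent.Lib.S9Three.Frame

/-!
S3343: crossing transpositions of two overlapping labelled groups commute.
-/

set_option autoImplicit false
set_option maxRecDepth 20000
set_option linter.style.haveILetI false

namespace Cfsg.Agent.S9Three

open Cfsg.Agent.ThreeTI.Cube (V)
open Cfsg.Agent.A9Three (six ce)
open Equiv

universe u

variable {G : Type u} [Group G]

theorem mS_shape : ∀ (i : Fin 3) (e : Fin 2), inV v3 ^ i.val * mC1 ^ e.val = mS (i, e) :=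
  fun _ _ => rfl

theorem r8_forms : (∀ a j, r8 a * r3 j = r8 (1, 1, 1) →
    r8 a = (![r3 1 * r3 2, r3 0 * r3 2, r3 0 * r3 1] : Fin 3 → Perm (Fin 6)) j) ∧
    r3 0 * r3 1 * r3 0 * r3 1 = 1 ∧ r3 0 * r3 2 * r3 1 = r8 (1, 1, 1) ∧
    r3 1 * r3 2 * r3 0 = r8 (1, 1, 1) ∧ r3 2 * r3 0 * r3 1 = r8 (1, 1, 1) ∧
    (∀ a j, r8 a * r3 j = r8 (1, 1, 1) → r8 a * r3 j = r8 (1, 1, 1)) := by decide +kernel

namespace Base

variable {θ : V →* G} {ι : Mw →* G} (B : Base θ ι) {Ψ : Perm (Fin 6) →* G} (S : Psi6 θ ι Ψ)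
include B S

/-- The standard form of the common centraliser. -/
theorem cent_frame [Finite G] {g : G} (h1 : Commute g (ι mA0)) (h2 : Commute g (ι mC1))
    (h3 : Commute g (tc ι Ψ)) :
    ∃ a p, g = hh ι Ψ * (Ψ (r8 a) * ι (mS p)) * (hh ι Ψ)⁻¹ := by
  obtain ⟨e0, e1, e2, -⟩ := B.hh_spec S
  set h := hh ι Ψ
  have key : ∀ x y, h * x * h⁻¹ = y → Commute g y → (h⁻¹ * g * h) * x = x * (h⁻¹ * g * h) := by
    intro x y e hy
    subst e
    have := hy.map (MulAut.conj h⁻¹).toMonoidHom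
    simp only [MulEquiv.coe_toMonoidHom, MulAut.conj_apply, inv_inv] at this
    rw [show h⁻¹ * (h * x * h⁻¹) * h = x by group] at this
    exact this.eq
  obtain ⟨a, i, e, hg⟩ := B.cent_eight S (g := h⁻¹ * g * h) (fun j => by
    fin_cases j
    exacts [key _ _ e0 h1, key _ _ e1 h2, key _ _ e2 h3])
  exact ⟨a, (i, e), by rw [mS, ← hg]; group⟩

omit B in
theorem two_mem {s : Perm (Fin 6)} (hs : s ∈ two16) :
    s * swap 0 1 = swap 0 1 * s ∧ s * (swap 2 3 * swap 4 5) = swap 2 3 * swap 4 5 * s :=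
  (Finset.mem_filter.1 hs).2

/-- The centraliser of two transpositions has order divisible by thirty-two. -/
theorem card_Z [Finite G] : 32 ∣ Nat.card (C2 (ι mA0) (ι mC1)) := by
  classical
  have hcv : ∀ s, Commute (Ψ s) (ι mC1) := fun s =>
    (S.comm_of_fix B _ rot6_facts.2.2.1 s).symm
  have hu : ι mA0 = Ψ (swap 0 1) := (S.agree _ _ m9_gens.1).symm
  have hvv : ι mC1 * ι mC1 = 1 := by
    rw [← map_mul, tri_words.2.2.2.2.2.2.2.2.2.2.2.2.2.2.2.1, map_one]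
  let H : Subgroup (Perm (Fin 6)) :=
    Subgroup.centralizer ({swap 0 1, swap 2 3 * swap 4 5} : Set (Perm (Fin 6)))
  have hH : Nat.card H = 16 := by
    rw [← two16_card, ← Fintype.card_coe, ← Nat.card_eq_fintype_card]
    exact Nat.card_congr (Equiv.subtypeEquivRight fun s => by
      rw [Subgroup.mem_centralizer_iff, two16, Finset.mem_filter]
      simp [eq_comm])
  let f : H × Fin 2 → G := fun q => Ψ q.1.1 * ι mC1 ^ q.2.val
  have hv3 : ∀ q : H × Fin 2, f q * θ v3 = θ v3 * f q → q.2 = 0 := by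
    intro q hq
    by_contra hne
    have h1 : q.2.val = 1 := by
      have := q.2.isLt
      have : q.2.val ≠ 0 := fun h => hne (Fin.ext h)
      omega
    simp only [f, h1, pow_one] at hq
    have hc : ι mC1 * θ v3 = θ v3 * ι mC1 := by
      have h2 := (show Commute (θ v3) (Ψ q.1.1)⁻¹ from
        (show Commute (θ v3) (Ψ q.1.1) from (S.le _).symm).inv_right)
      calc ι mC1 * θ v3 = (Ψ q.1.1)⁻¹ * (Ψ q.1.1 * ι mC1 * θ v3) := by group
        _ = (Ψ q.1.1)⁻¹ * θ v3 * (Ψ q.1.1 * ι mC1) := by rw [hq]; group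
        _ = θ v3 * (Ψ q.1.1)⁻¹ * (Ψ q.1.1 * ι mC1) := by rw [h2.eq]
        _ = _ := by group
    have := (B.comm_iff mC1 v3).1 hc
    rw [mC1_inverts] at this
    exact (by decide +kernel : v3⁻¹ ≠ v3) this
  have hmem : ∀ q, f q ∈ C2 (ι mA0) (ι mC1) := fun q => by
    refine mem_C2.2 ⟨?_, ((hcv _).mul_left ((Commute.refl _).pow_left _)).eq⟩
    have h := Subgroup.mem_centralizer_iff.1 q.1.2 _ (Or.inl rfl)
    refine ((show Commute (Ψ q.1.1) (ι mA0) from ?_).mul_left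
      (B.comm_uv.symm.pow_left _)).eq
    rw [hu]
    exact (show Commute q.1.1 (swap 0 1) from h.symm).map Ψ
  let U : Subgroup G :=
    { carrier := Set.range f
      one_mem' := ⟨(1, 0), by simp [f]⟩
      mul_mem' := by
        rintro _ _ ⟨p, rfl⟩ ⟨q, rfl⟩
        refine ⟨(p.1 * q.1, p.2 + q.2), ?_⟩
        simp only [f, Subgroup.coe_mul, map_mul, Fin.val_add]
        rw [← pow_eq_pow_mod _ (by rw [pow_two, hvv]), pow_add,
          ((hcv q.1.1).symm.pow_left p.2.val).mul_mul_mul_comm]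
      inv_mem' := by
        rintro _ ⟨p, rfl⟩
        refine ⟨(p.1⁻¹, p.2), ?_⟩
        simp only [f, Subgroup.coe_inv, map_inv, mul_inv_rev]
        rw [((hcv p.1.1).pow_right p.2.val).inv_left.eq, ← inv_pow,
          inv_eq_of_mul_eq_one_right hvv] }
  have hinj : Function.Injective f := by
    intro p q h
    have hp2 : ∀ r : H × Fin 2, r.2 = 0 → f r * θ v3 = θ v3 * f r := fun r hr => by
      simp only [f, hr, Fin.val_zero, pow_zero, mul_one]
      exact S.le _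
    have h22 : p.2 = q.2 := by
      rcases (by decide : ∀ e : Fin 2, e = 0 ∨ e = 1) p.2 with e | e <;>
        rcases (by decide : ∀ e : Fin 2, e = 0 ∨ e = 1) q.2 with e' | e' <;> rw [e, e']
      · exact absurd (hv3 q (h ▸ hp2 p e)) (by rw [e']; decide)
      · exact absurd (hv3 p (h.symm ▸ hp2 q e')) (by rw [e]; decide)
    simp only [f, h22, mul_left_inj] at h
    exact Prod.ext (Subtype.ext (S.inj h)) h22
  have hU : Nat.card U = 32 := by
    rw [← Nat.card_eq_of_bijective (fun q => (⟨f q, q, rfl⟩ : U))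
      ⟨fun p q h => hinj (congrArg Subtype.val h), fun ⟨_, q, hq⟩ => ⟨q, Subtype.ext hq⟩⟩,
      Nat.card_prod, hH, Nat.card_eq_fintype_card, Fintype.card_fin]
  exact hU ▸ Subgroup.card_dvd_of_le (fun _ ⟨q, hq⟩ => hq ▸ hmem q)

/-- An element exchanging two transpositions in the centraliser of two others. -/
theorem exists_swap [Finite G] : ∃ n : G, Commute n (ι mA0) ∧ Commute n (ι mC1) ∧
    n * tc ι Ψ * n⁻¹ = ι mB0 := by
  classical
  haveI : Fact (Nat.Prime 2) := ⟨Nat.prime_two⟩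
  obtain ⟨e0, e1, e2, e3⟩ := B.hh_spec S
  obtain ⟨-, -, ⟨hcu, hcv, hck⟩⟩ := B.ab_facts S
  obtain ⟨r8m, r8i, r81, r8inj, r8c, r8cent, r8r, r8sq⟩ := r8_facts
  obtain ⟨mfix, msq, m00, m11, minj, mcent, mconj, mtri, mone⟩ := mS_facts
  obtain ⟨nTD, nTt, nTq, nDq⟩ := B.separations S
  set h := hh ι Ψ with hh'
  set c := tc ι Ψ
  let C4 : Subgroup G := Subgroup.centralizer ({ι mA0, ι mC1, c, ι mB0} : Set G)
  have m4 : ∀ g, g ∈ C4 ↔ Commute g (ι mA0) ∧ Commute g (ι mC1) ∧ Commute g c ∧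
      Commute g (ι mB0) := fun g => by
    rw [Subgroup.mem_centralizer_iff]
    refine ⟨fun H => ⟨(H _ (by simp)).symm, (H _ (by simp)).symm, (H _ (by simp)).symm,
      (H _ (by simp)).symm⟩, ?_⟩
    rintro ⟨a, b, d, e⟩ y (rfl | rfl | rfl | rfl)
    exacts [a.eq.symm, b.eq.symm, d.eq.symm, e.eq.symm]
  let C3 : Subgroup G := Subgroup.centralizer ({ι mA0, ι mC1, c} : Set G)
  have m3 : ∀ g, g ∈ C3 ↔ Commute g (ι mA0) ∧ Commute g (ι mC1) ∧ Commute g c := fun g => by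
    rw [Subgroup.mem_centralizer_iff]
    refine ⟨fun H => ⟨(H _ (by simp)).symm, (H _ (by simp)).symm, (H _ (by simp)).symm⟩, ?_⟩
    rintro ⟨a, b, d⟩ y (rfl | rfl | rfl)
    exacts [a.eq.symm, b.eq.symm, d.eq.symm]
  let std : (Fin 2 × Fin 2 × Fin 2) × (Fin 3 × Fin 2) → G := fun q =>
    h * (Ψ (r8 q.1) * ι (mS q.2)) * h⁻¹
  have hstd_inj : Function.Injective std := by
    rintro ⟨a, p⟩ ⟨b, q⟩ e
    have e' : Ψ (r8 a) * ι (mS p) = Ψ (r8 b) * ι (mS q) := by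
      simpa [std] using e
    have h1 : Ψ ((r8 b)⁻¹ * r8 a) = ι (mS q) * (ι (mS p))⁻¹ := by
      rw [eq_mul_inv_iff_mul_eq, map_mul, map_inv, mul_assoc, e', inv_mul_cancel_left]
    have hz : (r8 b)⁻¹ * r8 a = 1 := center6' _ fun s => S.inj (by
      rw [map_mul Ψ _ s, map_mul Ψ s _, h1]
      exact ((B.commute_mS S q s).mul_left (B.commute_mS S p s).inv_left).eq)
    rw [hz, map_one, eq_comm, mul_inv_eq_one] at h1
    rw [inv_mul_eq_one] at hz
    exact Prod.ext (r8inj hz).symm (minj (B.inj h1)).symm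
  have hstd3 : ∀ q, std q ∈ C3 := by
    intro q
    have hq : ∀ j, Commute (Ψ (r8 q.1) * ι (mS q.2)) (Ψ (r3 j)) := fun j =>
      ((show Commute (r8 q.1) (r3 j) from r8c _ _).map Ψ).mul_left (B.commute_mS S _ _)
    have hm : ∀ {x y : G}, Commute x y → Commute (h * x * h⁻¹) (h * y * h⁻¹) :=
      fun hxy => hxy.map (MulAut.conj h).toMonoidHom
    exact (m3 _).2 ⟨e0 ▸ hm (hq 0), e1 ▸ hm (hq 1), e2 ▸ hm (hq 2)⟩
  have h48 : Nat.card C3 = 48 := by
    rw [← Nat.card_eq_of_bijective (fun q => (⟨std q, hstd3 q⟩ : C3))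
      ⟨fun p q e => hstd_inj (congrArg Subtype.val e), fun g => by
        obtain ⟨h1, h2, h3⟩ := (m3 _).1 g.2
        obtain ⟨a, p, hg⟩ := B.cent_frame S h1 h2 h3
        exact ⟨(a, p), Subtype.ext hg.symm⟩⟩, Nat.card_eq_fintype_card]
    rfl
  have form4 : ∀ g ∈ C4, ∃ a p, (p = (0, 0) ∨ p = (1, 1)) ∧ g = std (a, p) := by
    intro g hg
    obtain ⟨h1, h2, h3, h4⟩ := (m4 g).1 hg
    obtain ⟨a, p, hg'⟩ := B.cent_frame S h1 h2 h3
    refine ⟨a, p, mcent p (B.inj ?_), hg'⟩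
    have h5 := h4.map (MulAut.conj h⁻¹).toMonoidHom
    simp only [MulEquiv.coe_toMonoidHom, MulAut.conj_apply, inv_inv] at h5
    rw [← e3, hg', ← hh', show h⁻¹ * (h * (Ψ (r8 a) * ι (mS p)) * h⁻¹) * h =
      Ψ (r8 a) * ι (mS p) by group, show h⁻¹ * (h * ι mC0 * h⁻¹) * h = ι mC0 by group] at h5
    have hC0 : Commute (ι mC0) (Ψ (r8 a)) := m11 ▸ B.commute_mS S (1, 1) _
    have h6 := hC0.symm.inv_left.mul_left h5
    rw [inv_mul_cancel_left] at h6
    rw [map_mul, map_mul]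
    exact h6.eq
  have h16 : Nat.card C4 = 16 := by
    have hmem : ∀ a p, (p = (0, 0) ∨ p = (1, 1)) → std (a, p) ∈ C4 := by
      intro a p hp
      obtain ⟨h1, h2, h3⟩ := (m3 _).1 (hstd3 (a, p))
      refine (m4 _).2 ⟨h1, h2, h3, ?_⟩
      rw [← e3]
      refine (show Commute (Ψ (r8 a) * ι (mS p)) (ι mC0) from ?_).map (MulAut.conj h).toMonoidHom
      refine (m11 ▸ B.commute_mS S (1, 1) _ : Commute (ι mC0) (Ψ (r8 a))).symm.mul_left ?_
      rcases hp with rfl | rfl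
      · rw [m00, map_one]; exact Commute.one_left _
      · rw [m11]; exact Commute.refl _
    rw [← Nat.card_eq_of_bijective
      (fun q : (Fin 2 × Fin 2 × Fin 2) × Fin 2 =>
        (⟨std (q.1, if q.2 = 0 then (0, 0) else (1, 1)),
          hmem q.1 _ (by split <;> simp)⟩ : C4))
      ⟨fun x y e => ?_, fun g => ?_⟩, Nat.card_eq_fintype_card]
    · rfl
    · have e' := hstd_inj (congrArg Subtype.val e)
      obtain ⟨x1, x2⟩ := x
      obtain ⟨y1, y2⟩ := y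
      have hh2 := congrArg Prod.snd e'
      have hx : x2 = y2 := (by decide : ∀ u v : Fin 2,
        (if u = 0 then ((0, 0) : Fin 3 × Fin 2) else (1, 1)) = (if v = 0 then (0, 0) else (1, 1)) →
          u = v) x2 y2 hh2
      exact Prod.ext (congrArg Prod.fst e' : x1 = y1) hx
    · obtain ⟨a, p, hp, hg⟩ := form4 g g.2
      rcases hp with rfl | rfl
      · exact ⟨(a, 0), Subtype.ext hg.symm⟩
      · exact ⟨(a, 1), Subtype.ext hg.symm⟩
  have hc2 : c * c = 1 := by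
    rw [← e2, conj_mul', ← map_mul, show r3 2 * r3 2 = 1 by decide +kernel, map_one, mul_one,
      mul_inv_cancel]
  have hcC : c ∈ C4 := (m4 c).2 ⟨hcu, hcv, Commute.refl _, hck⟩
  have hle : C4 ≤ C2 (ι mA0) (ι mC1) := fun g hg =>
    mem_C2.2 ⟨((m4 g).1 hg).1.eq, ((m4 g).1 hg).2.1.eq⟩
  set Z := C2 (ι mA0) (ι mC1)
  have hp4 : IsPGroup 2 C4 := IsPGroup.of_card (n := 4) h16
  obtain ⟨P, hP⟩ := (hp4.comap_of_injective Z.subtype Subtype.coe_injective).exists_le_sylow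
  set PG := (P : Subgroup Z).map Z.subtype with hPG
  have hPGp : IsPGroup 2 PG := P.isPGroup'.map _
  have h32 : 32 ∣ Nat.card PG := by
    rw [Subgroup.card_map_of_injective Z.subtype_injective]
    exact (show (2 : ℕ) ^ 5 ∣ _ from P.pow_dvd_card_of_pow_dvd_card (n := 5) (B.card_Z S))
  have hC4P : C4 ≤ PG := fun g hg => ⟨⟨g, hle hg⟩, hP hg, rfl⟩
  haveI : Group.IsNilpotent PG := hPGp.isNilpotent
  have hlt : C4.subgroupOf PG < ⊤ := lt_top_iff_ne_top.2 fun e => by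
    have h1 := Subgroup.card_le_of_le (Subgroup.subgroupOf_eq_top.1 e)
    have h2 := Nat.le_of_dvd Nat.card_pos h32
    omega
  obtain ⟨⟨n, hnP⟩, hnN, hnC⟩ := SetLike.exists_of_lt
    (Group.normalizerCondition_of_isNilpotent (G := PG) _ hlt)
  have hnC' : n ∉ C4 := hnC
  have hconj : ∀ g ∈ C4, n * g * n⁻¹ ∈ C4 := fun g hg =>
    (Subgroup.mem_normalizer_iff.1 hnN ⟨g, hC4P hg⟩).1 hg
  obtain ⟨hnu, hnv⟩ := mem_C2.1 (show n ∈ Z from Subgroup.map_subtype_le _ hnP)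
  refine ⟨n, hnu, hnv, ?_⟩
  obtain ⟨a, p, hp, hw⟩ := form4 _ (hconj c hcC)
  have hT : IsConj (ι mC0) (Ψ (r8 a) * ι (mS p)) := by
    have h1 : IsConj (ι mC0) (n * c * n⁻¹) :=
      (isConj_conj_iff _ _ _).2 (B.transpositions S).2.2
    rw [hw] at h1
    exact (isConj_conj_iff _ _ _).1 h1
  have hnu' : n * ι mA0 * n⁻¹ = ι mA0 := mul_inv_eq_iff_eq_mul.2 hnu
  have hnv' : n * ι mC1 * n⁻¹ = ι mC1 := mul_inv_eq_iff_eq_mul.2 hnv
  have dcu := B.doubles S c (by simp [c]) (ι mA0) (by simp)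
  have dcv := B.doubles S c (by simp [c]) (ι mC1) (by simp)
  have img : ∀ {y : G} {j : Fin 3}, h * Ψ (r3 j) * h⁻¹ = y → n * y * n⁻¹ = y →
      n * (c * y) * n⁻¹ = h * (Ψ (r8 a) * ι (mS p) * Ψ (r3 j)) * h⁻¹ := by
    intro y j ey hy
    rw [← conj_mul', hy, hw, ← ey]
    exact conj_mul' _ _ _
  rcases B.forms S hT with ⟨rfl, j, hj⟩ | ⟨hp2, ha⟩
  · exfalso
    have hw' : n * c * n⁻¹ = h * Ψ (r3 j) * h⁻¹ := by
      rw [hw]; simp [std, m00, hj]
    have hcne : ∀ y, n * y * n⁻¹ = y → n * c * n⁻¹ = y → c = y := fun y h1 h2 =>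
      (MulAut.conj n).injective (h2.trans h1.symm)
    fin_cases j
    · exact B.ne_of_double S dcu (by rw [← map_mul, tri_words.2.2.2.2.2.2.2.2.2.2.2.2.2.2.1, map_one])
        (hcne _ hnu' (hw'.trans e0))
    · exact B.ne_of_double S dcv (by rw [← map_mul, tri_words.2.2.2.2.2.2.2.2.2.2.2.2.2.2.2.1, map_one])
        (hcne _ hnv' (hw'.trans e1))
    · have hnc : n * c * n⁻¹ = c := hw'.trans e2
      have hn3 : n ∈ C3 := (m3 n).2 ⟨hnu, hnv, mul_inv_eq_iff_eq_mul.1 hnc⟩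
      have hsup : C4 ⊔ Subgroup.zpowers n ≤ PG ⊓ C3 := sup_le
        (le_inf hC4P fun g hg => (m3 g).2 ⟨((m4 g).1 hg).1, ((m4 g).1 hg).2.1, ((m4 g).1 hg).2.2.1⟩)
        (Subgroup.zpowers_le.2 ⟨hnP, hn3⟩)
      obtain ⟨k, hk⟩ := IsPGroup.iff_card.1 (hPGp.to_le (hsup.trans inf_le_left))
      have hd := Subgroup.card_dvd_of_le (hsup.trans inf_le_right)
      rw [h48, hk] at hd
      have hk4 : k ≤ 4 := by
        by_contra hc'
        have := (Nat.pow_dvd_pow 2 (show 5 ≤ k by omega)).trans hd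
        norm_num at this
      have hle4 : Nat.card (C4 ⊔ Subgroup.zpowers n : Subgroup G) ≤ 2 ^ 4 :=
        hk ▸ Nat.pow_le_pow_right (by norm_num) hk4
      exact hnC' ((Subgroup.eq_of_le_of_card_ge (le_sup_left : C4 ≤ C4 ⊔ Subgroup.zpowers n)
        (by rw [h16]; exact hle4)).symm ▸ Subgroup.mem_sup_right (Subgroup.mem_zpowers n))
  · have hp11 : p = (1, 1) := by
      rcases hp with rfl | rfl
      · exact absurd hp2 (by decide)
      · rfl
    subst hp11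
    rcases ha with rfl | ⟨j, hj⟩
    · rw [hw]
      simp only [std, r81, map_one, one_mul, m11]
      exact e3
    exfalso
    have hC0 : ∀ s, Commute (ι (mS (1, 1))) (Ψ s) := B.commute_mS S (1, 1)
    have hq : IsConj (ι (mP * mC0)) (Ψ (r8 a) * ι (mS (1, 1)) * Ψ (r3 j)) := by
      rw [mul_assoc, (hC0 _).eq, ← mul_assoc, ← map_mul, hj]
      exact B.quad_std S 1
    fin_cases j
    · refine nDq (dcu.trans ((isConj_iff.2 ⟨n, rfl⟩).trans ?_))
      rw [img e0 hnu', isConj_comm]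
      exact (isConj_conj_iff _ _ _).2 hq
    · refine nDq (dcv.trans ((isConj_iff.2 ⟨n, rfl⟩).trans ?_))
      rw [img e1 hnv', isConj_comm]
      exact (isConj_conj_iff _ _ _).2 hq
    · -- the product with the two fixed transpositions
      have ha2 : r8 a = r3 0 * r3 1 := r8_forms.1 a 2 hj
      have himg : n * (c * ι mA0 * ι mC1) * n⁻¹ = h * ι mC0 * h⁻¹ := by
        rw [← conj_mul', ← conj_mul', hnu', hnv', hw, ← e0, ← e1]
        simp only [std]
        have e : Ψ (r8 a) * ι (mS (1, 1)) * Ψ (r3 0) * Ψ (r3 1) = ι mC0 := by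
          rw [mul_assoc (Ψ (r8 a)), (hC0 _).eq, ← mul_assoc, mul_assoc _ (ι (mS (1, 1))),
            (hC0 _).eq, ← mul_assoc, ← map_mul, ← map_mul, ha2, r8_forms.2.1, map_one, one_mul, m11]
        rw [conj_mul', conj_mul', e]
      have hpre : c * ι mA0 * ι mC1 = h * ι mP * h⁻¹ := by
        rw [← e2, ← e0, ← e1, conj_mul', conj_mul', ← map_mul, ← map_mul,
          r8_forms.2.2.2.2.1, B.triple_std S]
      refine nTt (isConj_iff.2 ⟨h⁻¹ * n⁻¹ * h, ?_⟩)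
      calc h⁻¹ * n⁻¹ * h * ι mC0 * (h⁻¹ * n⁻¹ * h)⁻¹
          = h⁻¹ * n⁻¹ * (h * ι mC0 * h⁻¹) * n * h := by group
        _ = h⁻¹ * n⁻¹ * (n * (c * ι mA0 * ι mC1) * n⁻¹) * n * h := by rw [himg]
        _ = h⁻¹ * (c * ι mA0 * ι mC1) * h := by group
        _ = _ := by rw [hpre]; group

/-- The three transpositions permuting three points satisfy the relation of the symmetric group. -/
theorem triangle [Finite G] : ta Ψ * tc ι Ψ * ta Ψ = tb ι Ψ := by
  obtain ⟨n, hnu, hnv, hnk⟩ := B.exists_swap S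
  obtain ⟨e0, e1, e2, e3⟩ := B.hh_spec S
  obtain ⟨⟨hau, hav, hak⟩, ⟨hbu, hbv, hbk⟩, ⟨hcu, hcv, hck⟩⟩ := B.ab_facts S
  obtain ⟨-, -, -, nDq⟩ := B.separations S
  obtain ⟨dab, dac, dbc⟩ := B.distinct S
  obtain ⟨-, -, -, -, -, -, -, mtri, -⟩ := mS_facts
  obtain ⟨hTa, hTb, hTc⟩ := B.transpositions S
  set h := hh ι Ψ with hh'
  have hnu' : n⁻¹ * ι mA0 * n = ι mA0 := by rw [mul_assoc, ← hnu.eq, inv_mul_cancel_left]
  have hnv' : n⁻¹ * ι mC1 * n = ι mC1 := by rw [mul_assoc, ← hnv.eq, inv_mul_cancel_left]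
  have hnk' : n⁻¹ * ι mB0 * n = tc ι Ψ := by rw [← hnk]; group
  have inv2 : ∀ m : Mw, m * m = 1 → ι m * ι m = 1 := fun m hm => by rw [← map_mul, hm, map_one]
  obtain ⟨-, -, -, -, -, -, -, -, -, -, -, -, -, -, huu, hvv, hkk, -⟩ := tri_words
  have key : ∀ x ∈ ({ta Ψ, tb ι Ψ, tc ι Ψ} : Set G), Commute x (ι mA0) → Commute x (ι mC1) →
      Commute x (ι mB0) → IsConj (ι mC0) x →
        ∃ i : Fin 3, n⁻¹ * x * n = h * ι (mS (i, 1)) * h⁻¹ := by
    intro x hx hxu hxv hxk hT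
    have hm : ∀ y, Commute x y → Commute (n⁻¹ * x * n) (n⁻¹ * y * n) := fun y hy => by
      simpa using hy.map (MulAut.conj n⁻¹).toMonoidHom
    obtain ⟨a, p, hw⟩ := B.cent_frame S (hnu' ▸ hm _ hxu) (hnv' ▸ hm _ hxv) (hnk' ▸ hm _ hxk)
    rw [← hh'] at hw
    have hx' : x = n * (n⁻¹ * x * n) * n⁻¹ := by group
    rw [hx', isConj_conj_iff, hw, isConj_conj_iff] at hT
    rcases B.forms S hT with ⟨rfl, j, hj⟩ | ⟨hp2, ha⟩
    · exfalso
      rw [hj, mS_facts.2.2.1, map_one, mul_one] at hw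
      obtain rfl | rfl | rfl := (by decide : ∀ j : Fin 3, j = 0 ∨ j = 1 ∨ j = 2) j
      · refine B.ne_of_double S (B.doubles S x hx _ (by simp)) (inv2 _ huu) ?_
        rw [hx', hw, e0, mul_inv_eq_iff_eq_mul]; exact hnu
      · refine B.ne_of_double S (B.doubles S x hx _ (by simp)) (inv2 _ hvv) ?_
        rw [hx', hw, e1, mul_inv_eq_iff_eq_mul]; exact hnv
      · refine B.ne_of_double S (B.doubles S x hx _ (by simp)) (inv2 _ hkk) ?_
        rw [hx', hw, e2]; exact hnk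
    · obtain ⟨i, e⟩ := p
      obtain rfl : e = 1 := hp2
      rcases ha with rfl | ⟨j, hj⟩
      · exact ⟨i, by rw [hw, r8_facts.2.2.1, map_one, one_mul]⟩
      exfalso
      obtain ⟨y, hy, hyj⟩ : ∃ y ∈ ({ι mA0, ι mC1, ι mB0} : Set G),
          n⁻¹ * y * n = h * Ψ (r3 j) * h⁻¹ := by
        fin_cases j
        exacts [⟨_, Or.inl rfl, hnu'.trans e0.symm⟩, ⟨_, Or.inr (Or.inl rfl), hnv'.trans e1.symm⟩,
          ⟨_, Or.inr (Or.inr rfl), hnk'.trans e2.symm⟩]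
      refine nDq ((B.doubles S x hx y hy).trans ((isConj_iff.2 ⟨n⁻¹, rfl⟩).trans ?_))
      rw [← conj_mul', inv_inv, hw, hyj, conj_mul', isConj_comm, isConj_conj_iff, mul_assoc,
        (B.commute_mS S _ _).eq, ← mul_assoc, ← map_mul, hj]
      exact B.quad_std S i
  obtain ⟨i, hi⟩ := key _ (Or.inl rfl) hau hav hak hTa
  obtain ⟨j, hj⟩ := key _ (Or.inr (Or.inl rfl)) hbu hbv hbk hTb
  obtain ⟨l, hl⟩ := key _ (Or.inr (Or.inr rfl)) hcu hcv hck hTc
  have hne : ∀ {x y : G} {p q : Fin 3}, n⁻¹ * x * n = h * ι (mS (p, 1)) * h⁻¹ →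
      n⁻¹ * y * n = h * ι (mS (q, 1)) * h⁻¹ → x ≠ y → p ≠ q := by
    intro x y p q hx hy hxy e
    exact hxy (mul_left_cancel (mul_right_cancel (hx.trans (e ▸ hy.symm))))
  have hrel := mtri i j l (hne hi hj dab) (hne hi hl dac) (hne hj hl dbc)
  refine mul_left_cancel (a := n⁻¹) (mul_right_cancel (b := n) ?_)
  rw [show n⁻¹ * (ta Ψ * tc ι Ψ * ta Ψ) * n =
    n⁻¹ * ta Ψ * n * (n⁻¹ * tc ι Ψ * n) * (n⁻¹ * ta Ψ * n) by group, hi, hl, hj, ← hrel,
    map_mul, map_mul, conj_mul', conj_mul']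

/-- The two middle generators commute. -/
theorem comm_cross [Finite G] : Commute (Ψ (swap 2 3)) (tb ι Ψ) := by
  obtain ⟨-, -, -, -, -, -, -, -, w35, w68, -, -, fC0, fV, -⟩ := tri_words
  obtain ⟨-, -, -, n4, n5⟩ := noncomm_six
  have hA : ι (mB0 * mB1 * mB0) = Ψ (swap 3 5) := (S.agree _ _ w35).symm
  have hc : Commute (Ψ (swap 3 5)) (tc ι Ψ) := by
    rw [← hA, ← w68, map_mul ι _ (mPi ^ 2)⁻¹, map_mul ι (mPi ^ 2), map_inv, tc]
    refine (show Commute (ι (inV v3 ^ 2 * mC1)) (Ψ (swap 0 5)) from ?_).map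
      (MulAut.conj (ι (mPi ^ 2))).toMonoidHom
    rw [map_mul, map_pow]
    exact ((S.comm_of_fix B _ fV _).pow_left _).mul_left (S.comm_of_fix B _ rot6_facts.2.2.1 _)
  have ha2 : ta Ψ * ta Ψ = 1 := by rw [ta, ← map_mul, n5, map_one]
  have h := hc.map (MulAut.conj (ta Ψ)).toMonoidHom
  simp only [MulEquiv.coe_toMonoidHom, MulAut.conj_apply, inv_eq_of_mul_eq_one_right ha2] at h
  rwa [B.triangle S, ta, ← map_mul, ← map_mul, n4] at h

end Base

end Cfsg.Agent.S9Three
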